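import Cfsg.Agent.Lib.TwoR.Automiser
import Cfsg.Agent.Lib.CIT.Structure

/-!
Simple groups under the hypothesis on orders: the Sylow two-subgroup is not central in its normaliser, and the
criterion for a strongly embedded subgroup.
-/

set_option autoImplicit false
set_option linter.unusedSectionVars false
set_option linter.style.haveILetI false

namespace CfsgLib.TwoR

open Subgroup

universe u

variable {G : Type u} [Group G] [Finite G] [IsSimpleGroup G] {r : ℕ}

theorem not_solvable (hna : ∃ a b : G, a * b ≠ b * a) : ¬ Group.IsSolvable G := by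
  intro hs
  obtain ⟨a, b, hab⟩ := hna
  exact hab (IsSimpleGroup.comm_iff_isSolvable.mpr hs a b)

/-- Some element normalising the Sylow subgroup moves it. -/
theorem exists_moving (hna : ∃ a b : G, a * b ≠ b * a) (T : Sylow 2 G) :
    ∃ n ∈ normalizer ((T : Subgroup G) : Set G), ∃ a ∈ (T : Subgroup G), n * a * n⁻¹ ≠ a := by
  by_contra hh
  push Not at hh
  exact not_solvable hna (solvable_of_central T fun n hn => Subgroup.mem_centralizer_iff.mpr fun a ha =>
    (mul_inv_eq_iff_eq_mul.mp (hh n hn a ha)).symm)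

theorem four_le (hna : ∃ a b : G, a * b ≠ b * a) (T : Sylow 2 G) : 4 ≤ Nat.card (T : Subgroup G) := by
  classical
  by_contra hlt
  haveI : Fact (Nat.Prime 2) := ⟨Nat.prime_two⟩
  obtain ⟨n, hn, a, ha, hna'⟩ := exists_moving hna T
  obtain ⟨j, hj⟩ := IsPGroup.iff_card.mp T.2
  have hj1 : j ≤ 1 := by
    by_contra h2
    have : 2 ^ 2 ≤ 2 ^ j := Nat.pow_le_pow_right two_pos (by omega)
    omega
  haveI : Fintype (T : Subgroup G) := Fintype.ofFinite _
  have h2 : Fintype.card (T : Subgroup G) ≤ 2 := by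
    rw [← Nat.card_eq_fintype_card, hj]
    calc 2 ^ j ≤ 2 ^ 1 := Nat.pow_le_pow_right two_pos hj1
      _ = 2 := by norm_num
  have ha1 : a ≠ 1 := fun e => hna' (by simp [e])
  have hmem : n * a * n⁻¹ ∈ (T : Subgroup G) := (Subgroup.mem_normalizer_iff.mp hn a).mp ha
  have hb1 : n * a * n⁻¹ ≠ 1 := fun e => ha1 (conj_eq_one_iff.mp e)
  have h3 : ({1, ⟨a, ha⟩, ⟨_, hmem⟩} : Finset (T : Subgroup G)).card = 3 := by
    rw [Finset.card_insert_of_notMem (by simp [Subtype.ext_iff, ha1.symm, hb1.symm]),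
      Finset.card_pair (by simp [Subtype.ext_iff, Ne.symm hna'])]
  have := Finset.card_le_univ ({1, ⟨a, ha⟩, ⟨_, hmem⟩} : Finset (T : Subgroup G))
  omega

/-- An element of odd prime order normalising the Sylow subgroup, with the part it moves. -/
theorem exists_moving_pair (h : Hyp G r) (hna : ∃ a b : G, a * b ≠ b * a) (T : Sylow 2 G) :
    ∃ (y : G) (E : Subgroup G), y ∈ normalizer ((T : Subgroup G) : Set G) ∧ (orderOf y).Prime ∧ orderOf y ≠ 2 ∧
      E ≤ (T : Subgroup G) ∧ E ≠ ⊥ ∧ y ∈ normalizer (E : Set G) ∧ (Nat.card E).Coprime r ∧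
      ∀ e ∈ E, y * e * y⁻¹ = e → e = 1 := by
  obtain ⟨n, hn, hact⟩ := exists_moving hna T
  obtain ⟨y, -, hyT, hyp, hy2, hyact⟩ := exists_prime_acting h T hn hact
  obtain ⟨E, hET, hE1, hyE, hfpf⟩ := exists_moved_part (h.sylow_comm T) hyT (pow_orderOf_eq_one y)
    (fun a ha e => orderOf_eq_one_iff.mp (Nat.eq_one_of_dvd_coprimes
      (Nat.coprime_two_left.mpr (hyp.odd_of_ne_two hy2))
      (orderOf_dvd_of_pow_eq_one (by rw [pow_two]; exact h.sq_eq_one T.2 ha)) (orderOf_dvd_of_pow_eq_one e))) hyact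
  refine ⟨y, E, hyT, hyp, hy2, hET, hE1, hyE, ?_, hfpf⟩
  obtain ⟨j, hj⟩ := IsPGroup.iff_card.mp (T.2.to_le hET)
  rw [hj]
  exact h.coprime_two.pow_left j

omit [IsSimpleGroup G] in
/-- A proper subgroup containing the normaliser of a Sylow two-subgroup and the centralisers of its involutions. -/
theorem strongly_embedded_of (T : Sylow 2 G) {M : Subgroup G} (hM : M ≠ ⊤) (hT1 : (T : Subgroup G) ≠ ⊥)
    (hN : normalizer ((T : Subgroup G) : Set G) ≤ M)
    (hC : ∀ t ∈ (T : Subgroup G), orderOf t = 2 → centralizer ({t} : Set G) ≤ M)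
    (hab : ∀ a ∈ (T : Subgroup G), ∀ b ∈ (T : Subgroup G), a * b = b * a) : Cfsg.IsStronglyEmbedded M := by
  haveI : Fact (Nat.Prime 2) := ⟨Nat.prime_two⟩
  have hTM : (T : Subgroup G) ≤ M := Subgroup.le_normalizer.trans hN
  refine ⟨hM, ?_, fun g hg => ?_⟩
  · obtain ⟨t, ht, hto⟩ := CIT.exists_orderOf_two_mem T.2 hT1
    exact even_iff_two_dvd.mpr (hto ▸ M.orderOf_dvd_natCard (hTM ht))
  rw [← Nat.not_even_iff_odd, even_iff_two_dvd]
  intro h2
  obtain ⟨⟨i, hi0⟩, hio⟩ :=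
    exists_prime_orderOf_dvd_card' (G := ↥(M ⊓ M.map (MulAut.conj g).toMonoidHom)) 2 h2
  rw [Subgroup.orderOf_mk] at hio
  obtain ⟨hiM, hi'⟩ := Subgroup.mem_inf.mp hi0
  obtain ⟨i₀, hi₀, hi₀e⟩ := hi'
  have hi₀e' : g * i₀ * g⁻¹ = i := hi₀e
  -- conjugate the involutions into the Sylow subgroup
  have conjT : ∀ j ∈ M, orderOf j = 2 → ∃ m ∈ M, m * j * m⁻¹ ∈ (T : Subgroup G) := by
    intro j hj hjo
    have hjp : IsPGroup 2 (zpowers (⟨j, hj⟩ : M)) :=
      IsPGroup.of_card (n := 1) (by rw [Nat.card_zpowers, Subgroup.orderOf_mk, hjo, pow_one])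
    obtain ⟨Q, hQ⟩ := hjp.exists_le_sylow
    obtain ⟨m, hm⟩ := MulAction.exists_smul_eq M Q (T.subtype hTM)
    refine ⟨m, m.2, ?_⟩
    have h1 : m * ⟨j, hj⟩ * m⁻¹ ∈ ((m • Q : Sylow 2 M) : Subgroup M) := by
      rw [Sylow.coe_subgroup_smul]
      exact Subgroup.smul_mem_pointwise_smul _ (MulAut.conj m) _ (hQ (mem_zpowers _))
    rw [hm] at h1
    exact h1
  have hcent : ∀ j ∈ M, orderOf j = 2 → centralizer ({j} : Set G) ≤ M := by
    intro j hj hjo c hc
    obtain ⟨m, hm, hmj⟩ := conjT j hj hjo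
    have h1 : m * c * m⁻¹ ∈ centralizer ({m * j * m⁻¹} : Set G) := by
      refine mem_centralizer_singleton_iff.mpr ?_
      calc m * c * m⁻¹ * (m * j * m⁻¹) = m * (c * j) * m⁻¹ := by group
        _ = m * (j * c) * m⁻¹ := by rw [mem_centralizer_singleton_iff.mp hc]
        _ = _ := by group
    have h3 := mul_mem (mul_mem (inv_mem hm) (hC _ hmj (by rw [Involutions.orderOf_conj, hjo]) h1)) hm
    simpa [mul_assoc] using h3
  have hi₀o : orderOf i₀ = 2 := by rw [← hio, ← hi₀e', Involutions.orderOf_conj]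
  obtain ⟨m, hm, hmi⟩ := conjT i hiM hio
  -- the conjugate Sylow subgroup lies in both
  have hS : ∀ a ∈ (T : Subgroup G), g⁻¹ * (m⁻¹ * a * m) * g ∈ M := by
    intro a ha
    refine hcent i₀ hi₀ hi₀o (mem_centralizer_singleton_iff.mpr ?_)
    have e : a * (m * i * m⁻¹) = m * i * m⁻¹ * a := hab a ha _ hmi
    calc g⁻¹ * (m⁻¹ * a * m) * g * i₀ = g⁻¹ * m⁻¹ * (a * (m * (g * i₀ * g⁻¹) * m⁻¹)) * m * g := by group
      _ = g⁻¹ * m⁻¹ * ((m * (g * i₀ * g⁻¹) * m⁻¹) * a) * m * g := by rw [hi₀e', e]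
      _ = i₀ * (g⁻¹ * (m⁻¹ * a * m) * g) := by group
  have hle : (((g⁻¹ * m⁻¹) • T : Sylow 2 G) : Subgroup G) ≤ M := by
    intro x hx
    rw [Sylow.coe_subgroup_smul, Subgroup.mem_pointwise_smul_iff_inv_smul_mem] at hx
    have h1 := hS _ hx
    rw [MulAut.smul_def, MulAut.conj_inv_apply] at h1
    simpa [mul_assoc] using h1
  obtain ⟨m₂, hm₂⟩ := MulAction.exists_smul_eq M (((g⁻¹ * m⁻¹) • T : Sylow 2 G).subtype hle) (T.subtype hTM)
  have heq : ((m₂ : G) * (g⁻¹ * m⁻¹)) • T = T := by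
    apply Sylow.ext
    have h1 := congrArg (fun Q : Sylow 2 M => (Q : Subgroup M).map M.subtype) hm₂
    simp only [Sylow.coe_subgroup_smul, Sylow.coe_subtype] at h1
    rw [Subgroup.subgroupOf_map_subtype, inf_eq_left.mpr hTM] at h1
    conv_rhs => rw [← h1]
    ext x
    rw [Sylow.coe_subgroup_smul, Subgroup.mem_pointwise_smul_iff_inv_smul_mem, Subgroup.mem_map]
    constructor
    · intro hx
      rw [MulAut.smul_def, MulAut.conj_inv_apply] at hx
      have hxM : x ∈ M := by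
        have h2 := mul_mem (mul_mem m₂.2 (hS _ hx)) (inv_mem m₂.2)
        simpa [mul_assoc] using h2
      refine ⟨⟨x, hxM⟩, ?_, rfl⟩
      rw [Subgroup.mem_pointwise_smul_iff_inv_smul_mem, Subgroup.mem_subgroupOf,
        Subgroup.mem_pointwise_smul_iff_inv_smul_mem, MulAut.smul_def, MulAut.conj_inv_apply, MulAut.smul_def,
        MulAut.conj_inv_apply]
      simp only [Subgroup.coe_mul, Subgroup.coe_inv]
      simpa [mul_assoc] using hx
    · rintro ⟨⟨y, hy⟩, hy', rfl⟩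
      rw [Subgroup.mem_pointwise_smul_iff_inv_smul_mem, Subgroup.mem_subgroupOf,
        Subgroup.mem_pointwise_smul_iff_inv_smul_mem, MulAut.smul_def, MulAut.conj_inv_apply, MulAut.smul_def,
        MulAut.conj_inv_apply] at hy'
      simp only [Subgroup.coe_mul, Subgroup.coe_inv] at hy'
      rw [MulAut.smul_def, MulAut.conj_inv_apply]
      simpa [mul_assoc] using hy'
  have hn := hN (Sylow.smul_eq_iff_mem_normalizer.mp heq)
  have h4 := mul_mem (mul_mem (inv_mem m₂.2) hn) hm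
  have : g⁻¹ ∈ M := by simpa [mul_assoc] using h4
  exact hg (by simpa using inv_mem this)

end CfsgLib.TwoR
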