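import Cfsg.Agent.Lib.TwoR.Signal
import Mathlib.GroupTheory.Perm.Cycle.Type

/-!
The group of automorphisms induced on a Sylow two-subgroup by its normaliser, under the hypothesis on orders.
-/

set_option autoImplicit false
set_option linter.unusedSectionVars false
set_option linter.style.haveILetI false

namespace CfsgLib.TwoR

open Subgroup
open scoped IsMulCommutative

universe u

variable {G : Type u} [Group G] [Finite G] {r : ℕ} {T : Sylow 2 G}

/-- Conjugation of the normaliser on the Sylow subgroup. -/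
abbrev conjT (T : Sylow 2 G) : normalizer ((T : Subgroup G) : Set G) →* MulAut (T : Subgroup G) :=
  (T : Subgroup G).normalizerMonoidHom

/-- The induced group of automorphisms. -/
abbrev autT (T : Sylow 2 G) : Subgroup (MulAut (T : Subgroup G)) := (conjT T).range

theorem conjT_apply (g : normalizer ((T : Subgroup G) : Set G)) (a : (T : Subgroup G)) :
    ((conjT T g a : (T : Subgroup G)) : G) = g * a * (g : G)⁻¹ := rfl

theorem conjT_eq_one {g : G} {hg : g ∈ normalizer ((T : Subgroup G) : Set G)} :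
    conjT T ⟨g, hg⟩ = 1 ↔ ∀ a ∈ (T : Subgroup G), g * a * g⁻¹ = a :=
  ⟨fun e a ha => congrArg Subtype.val (MulEquiv.congr_fun e ⟨a, ha⟩), fun e => MulEquiv.ext fun a => Subtype.ext (e a a.2)⟩

theorem exists_lift (α : autT T) :
    ∃ (g : G) (hg : g ∈ normalizer ((T : Subgroup G) : Set G)), conjT T ⟨g, hg⟩ = α := by
  obtain ⟨g, hg⟩ := α.2
  exact ⟨g, g.2, hg⟩

variable (h : Hyp G r)

include h

theorem autT_odd : Odd (Nat.card (autT T)) := by
  haveI : Fact (Nat.Prime 2) := ⟨Nat.prime_two⟩
  rw [← Subgroup.index_ker, ← Nat.not_even_iff_odd, even_iff_two_dvd]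
  intro h2
  set N := normalizer ((T : Subgroup G) : Set G)
  have hle : (T : Subgroup G).subgroupOf N ≤ (conjT T).ker := fun a ha =>
    MonoidHom.mem_ker.mpr ((conjT_eq_one (g := (a : G)) (hg := a.2)).mpr fun b hb => by
      rw [h.sylow_comm T a ha b hb, mul_inv_cancel_right])
  have h1 := h2.trans (Subgroup.index_dvd_of_le hle)
  have h3 : (T : Subgroup G).relIndex N ∣ (T : Subgroup G).index :=
    Dvd.intro _ (Subgroup.relIndex_mul_index Subgroup.le_normalizer)
  exact T.not_dvd_index (h1.trans h3)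

theorem autT_solvable : Group.IsSolvable (autT T) := Cfsg.Agent.S0205.result (autT_odd h)

theorem autT_orderOf_odd (α : autT T) : Odd (orderOf α) := (autT_odd h).of_dvd_nat (orderOf_dvd_natCard α)

/-- An induced automorphism of order divisible by `r` has order `r`. -/
theorem autT_order_r {α : autT T} (hr : r ∣ orderOf α) : orderOf α = r := by
  obtain ⟨g, hg, hgα⟩ := exists_lift α
  have hd : orderOf α ∣ orderOf g := by
    rw [← Subgroup.orderOf_coe, ← hgα, ← Subgroup.orderOf_mk g hg]
    exact orderOf_map_dvd _ _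
  rcases h.rdiv g (hr.trans hd) with e | e <;> rw [e] at hd
  · exact Nat.dvd_antisymm hd hr
  · exact Nat.dvd_antisymm ((Nat.coprime_two_right.mpr (autT_orderOf_odd h α)).dvd_of_dvd_mul_left hd) hr

/-- Commuting elements of orders prime to each other, one of order `r`, cannot both be non-trivial. -/
theorem autT_commute_r {α β : autT T} (hα : orderOf α = r) (hc : Commute α β) (hcop : ¬ r ∣ orderOf β) : β = 1 := by
  have hm := hc.orderOf_mul_eq_mul_orderOf_of_coprime (by rw [hα]; exact h.prime.coprime_iff_not_dvd.mpr hcop)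
  rw [hα] at hm
  have := autT_order_r h (α := α * β) (hm ▸ dvd_mul_right r _)
  rw [hm] at this
  exact orderOf_eq_one_iff.mp ((Nat.mul_eq_left h.prime.ne_zero).mp this)

/-- An induced automorphism of prime order other than `r` lifts to an element of the same order. -/
theorem exists_lift_prime {α : autT T} {s : ℕ} (hs : s.Prime) (hα : orderOf α = s) (hsr : s ≠ r) :
    ∃ (g : G) (hg : g ∈ normalizer ((T : Subgroup G) : Set G)), conjT T ⟨g, hg⟩ = α ∧ orderOf g = s := by
  obtain ⟨g₀, hg₀, hg₀α⟩ := exists_lift α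
  have hs2 : s ≠ 2 := fun e => by
    have := autT_orderOf_odd h α
    rw [hα, e] at this
    exact absurd this (by decide)
  obtain ⟨k, c, hsc, hmc⟩ := Nat.exists_eq_pow_mul_and_not_dvd (orderOf_pos g₀).ne' s hs.ne_one
  have hc0 : c ≠ 0 := fun e => hsc (e ▸ dvd_zero s)
  obtain ⟨d, hd⟩ := exists_pow_eq_self_of_coprime (x := α)
    (show Nat.Coprime c (orderOf α) by rw [hα]; exact (hs.coprime_iff_not_dvd.mpr hsc).symm)
  set g := (g₀ ^ c) ^ d with hg
  have hgN : g ∈ normalizer ((T : Subgroup G) : Set G) := pow_mem (pow_mem hg₀ c) d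
  have hgα : conjT T ⟨g, hgN⟩ = α := by
    have : (⟨g, hgN⟩ : normalizer ((T : Subgroup G) : Set G)) = (⟨g₀, hg₀⟩ ^ c) ^ d := rfl
    rw [this, map_pow, map_pow, hg₀α]
    exact congrArg Subtype.val hd
  refine ⟨g, hgN, hgα, ?_⟩
  have hgd : orderOf g ∣ s ^ k := by
    refine orderOf_dvd_of_pow_eq_one ?_
    rw [hg, ← pow_mul, ← pow_mul, show c * (d * s ^ k) = s ^ k * c * d by ring, ← hmc, pow_mul, pow_orderOf_eq_one,
      one_pow]
  obtain ⟨i, -, hi⟩ := (Nat.dvd_prime_pow hs).mp hgd
  have hi1 : i ≠ 0 := fun e => by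
    rw [e, pow_zero, orderOf_eq_one_iff] at hi
    have h1 : conjT T ⟨g, hgN⟩ = 1 := conjT_eq_one.mpr fun a _ => by simp [hi]
    rw [hgα] at h1
    rw [show α = 1 from Subtype.ext h1, orderOf_one] at hα
    exact hs.ne_one hα.symm
  by_contra hne
  have hi2 : 2 ≤ i := by
    by_contra hlt
    rw [show i = 1 by omega, pow_one] at hi
    exact hne hi
  have hzo : orderOf (g ^ s) = s ^ (i - 1) := by
    rw [orderOf_pow_of_dvd hs.ne_zero (hi ▸ dvd_pow_self s hi1), hi,
      show s ^ i = s ^ (i - 1) * s by rw [← pow_succ]; congr 1; omega, Nat.mul_div_cancel _ hs.pos]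
  -- some involution is centralised by `g ^ s`
  obtain ⟨a, ha, ha1⟩ : ∃ a ∈ (T : Subgroup G), a ≠ 1 := by
    by_contra hh
    push Not at hh
    have hα1 : α = 1 := Subtype.ext (MulEquiv.ext fun a => Subtype.ext (by
      rw [hh _ (((α : MulAut (T : Subgroup G)) a).2)]; exact (hh _ a.2).symm))
    rw [hα1, orderOf_one] at hα
    exact hs.ne_one hα.symm
  have h1 : conjT T ⟨g ^ s, pow_mem hgN s⟩ = 1 := by
    have h2 : conjT T ⟨g, hgN⟩ ^ s = 1 := by
      rw [hgα, ← hα, ← Subgroup.orderOf_coe]
      exact pow_orderOf_eq_one _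
    rw [← map_pow] at h2
    exact h2
  have hcom : Commute a (g ^ s) := (mul_inv_eq_iff_eq_mul.mp (conjT_eq_one.mp h1 a ha)).symm
  have h3 := orderOf_dvd_of_pow_eq_one (h.pow_r_of_commute_two (h.sylow_two ha ha1) hcom
    (by rw [hzo]; exact (hs.odd_of_ne_two hs2).pow))
  rw [hzo] at h3
  exact hsr ((Nat.prime_dvd_prime_iff_eq hs h.prime).mp ((dvd_pow_self s (by omega)).trans h3))

/-- An `r`-subgroup of the automorphism group normalised by an element of prime order other than `r` acting on it
without fixed points is trivial. -/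
theorem autT_rgroup_bot (F : Subgroup (autT T)) (hF : IsPGroup r F) {β : autT T} (hβ : β ∈ normalizer (F : Set (autT T)))
    (hs : (orderOf β).Prime) (hsr : orderOf β ≠ r) : F = ⊥ := by
  classical
  haveI := Fact.mk h.prime
  haveI : Fact (Nat.Prime 2) := ⟨Nat.prime_two⟩
  haveI : IsMulCommutative (T : Subgroup G) := ⟨⟨fun a b => Subtype.ext (h.sylow_comm T a a.2 b b.2)⟩⟩
  set s := orderOf β with hsdef
  have hfpf : ∀ e ∈ F, β * e * β⁻¹ = e → e = 1 := by
    intro e he hc
    by_contra he1
    obtain ⟨i, hi⟩ := IsPGroup.iff_orderOf.mp hF ⟨e, he⟩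
    rw [Subgroup.orderOf_mk] at hi
    have hi0 : i ≠ 0 := fun e0 => he1 (orderOf_eq_one_iff.mp (by rw [hi, e0, pow_zero]))
    have her := autT_order_r h (α := e) (hi ▸ dvd_pow_self r hi0)
    have hβ1 := autT_commute_r h her (mul_inv_eq_iff_eq_mul.mp hc).symm
      (fun hd => hsr ((Nat.prime_dvd_prime_iff_eq h.prime hs).mp hd).symm)
    rw [hsdef, hβ1, orderOf_one] at hs
    exact Nat.not_prime_one hs
  have key := fixed_of_norms (ρ := (autT T).subtype) F β hs hβ (pow_orderOf_eq_one β) hfpf
    (fun e he v => by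
      obtain ⟨f, hf, hef⟩ := exists_commutator F β hβ hfpf he
      have hao : orderOf (e * β) = s := by rw [hef, Involutions.orderOf_conj]
      obtain ⟨g, hg, hgα, hgo⟩ := exists_lift_prime h hs hao hsr
      have hgs : g ^ s = 1 := hgo ▸ pow_orderOf_eq_one g
      have hnp := mul_pow_eq_norm (T : Subgroup G) hg v s
      rw [hgs, mul_one] at hnp
      have hz2 : ((v : G) * g) ^ (s * 2) = 1 := by
        rw [pow_mul, hnp, pow_two]
        exact h.sq_eq_one T.2 (SetLike.coe_mem _)
      have hodd : ¬ 2 ∣ orderOf ((v : G) * g) := by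
        intro h2
        have hd := orderOf_dvd_of_pow_eq_one hz2
        rcases h.two _ h2 with e' | e'
        · -- the image would have order at most two
          have h3 : ((v : G) * g) ^ 2 = 1 := orderOf_dvd_iff_pow_eq_one.mp (dvd_of_eq e')
          have h4 : conjT T ⟨(v : G) * g, mul_mem (Subgroup.le_normalizer v.2) hg⟩ = (e * β : autT T) := by
            rw [show (⟨(v : G) * g, mul_mem (Subgroup.le_normalizer v.2) hg⟩ : normalizer ((T : Subgroup G) : Set G)) =
              ⟨v, Subgroup.le_normalizer v.2⟩ * ⟨g, hg⟩ from rfl, map_mul, hgα,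
              (conjT_eq_one (g := (v : G))).mpr fun a ha => by rw [h.sylow_comm T v v.2 a ha, mul_inv_cancel_right],
              one_mul]
          have h5 : (conjT T ⟨(v : G) * g, mul_mem (Subgroup.le_normalizer v.2) hg⟩) ^ 2 = 1 := by
            rw [← map_pow]
            refine (conjT_eq_one (g := ((v : G) * g) ^ 2) (hg := pow_mem (mul_mem (Subgroup.le_normalizer v.2) hg) 2)).mpr
              fun a _ => ?_
            rw [h3]; simp
          rw [h4, ← SubmonoidClass.coe_pow, OneMemClass.coe_eq_one] at h5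
          have h6 := orderOf_dvd_of_pow_eq_one h5
          rw [hao] at h6
          have h7 := autT_orderOf_odd h β
          rw [← hsdef, (Nat.prime_dvd_prime_iff_eq hs Nat.prime_two).mp h6] at h7
          exact absurd h7 (by decide)
        · rw [e', mul_comm s 2] at hd
          exact hsr ((Nat.prime_dvd_prime_iff_eq h.prime hs).mp (Nat.dvd_of_mul_dvd_mul_left two_pos hd)).symm
      have hs1 : ((v : G) * g) ^ s = 1 := orderOf_dvd_iff_pow_eq_one.mp
        ((Nat.prime_two.coprime_iff_not_dvd.mpr hodd).symm.dvd_of_dvd_mul_right (orderOf_dvd_of_pow_eq_one hz2))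
      rw [hs1] at hnp
      refine Subtype.ext ?_
      rw [Subgroup.coe_one, hnp]
      refine congrArg Subtype.val (Finset.prod_congr rfl fun i _ => ?_)
      show ((e * β) ^ i : autT T).1 v = (T : Subgroup G).normalizerMonoidHom ⟨g ^ i, pow_mem hg i⟩ v
      rw [SubmonoidClass.coe_pow, ← hgα, ← map_pow]
      rfl)
    (fun v hv => by
      obtain ⟨j, hj⟩ := IsPGroup.iff_card.mp hF
      have h2 : v ^ 2 = 1 := Subtype.ext (by rw [Subgroup.coe_pow, pow_two]; exact h.sq_eq_one T.2 v.2)
      exact orderOf_eq_one_iff.mp (Nat.eq_one_of_dvd_coprimes (hj ▸ h.coprime_two.pow_right j)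
        (orderOf_dvd_of_pow_eq_one h2) (orderOf_dvd_of_pow_eq_one hv)))
  rw [eq_bot_iff]
  intro e he
  rw [Subgroup.mem_bot]
  exact Subtype.ext (MulEquiv.ext fun v => key e he v)

omit h in
/-- A power of a prime one less than a power of two is the prime. -/
theorem exponent_one {r k m : ℕ} (hr : Odd r) (hr1 : 1 < r) (hk : k ≠ 0) (h : 2 ^ m = r ^ k + 1) : k = 1 := by
  have hrk : 3 ≤ r ^ k := le_trans (by rcases hr with ⟨a, rfl⟩; omega) (Nat.le_self_pow hk r)
  have hm : 2 ≤ m := by
    by_contra hlt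
    have : 2 ^ m ≤ 2 ^ 1 := Nat.pow_le_pow_right two_pos (by omega)
    omega
  rcases Nat.even_or_odd k with ⟨j, rfl⟩ | hk'
  · exfalso
    obtain ⟨a, rfl⟩ : ∃ a, r = 2 * a + 1 := hr
    have h4 : 4 ∣ 2 ^ m := pow_dvd_pow 2 hm
    rw [h, ← two_mul, pow_mul] at h4
    have : ((2 * a + 1) ^ 2) ^ j % 4 = 1 := by
      rw [Nat.pow_mod, show (2 * a + 1) ^ 2 = 4 * (a * a + a) + 1 by ring]
      simp [Nat.add_mod]
    omega
  · by_contra hne
    have hd : r + 1 ∣ r ^ k + 1 := by
      have := hk'.nat_add_dvd_pow_add_pow r 1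
      rwa [one_pow] at this
    obtain ⟨b, hb⟩ := hd
    rw [← h] at hb
    obtain ⟨i, -, hi⟩ := (Nat.dvd_prime_pow Nat.prime_two).mp (Dvd.intro_left _ hb.symm : b ∣ 2 ^ m)
    -- the cofactor is odd
    have hbodd : Odd b := by
      have key : ∀ j : ℕ, ∃ c : ℕ, Odd c ∧ r ^ (2 * j + 1) + 1 = (r + 1) * c := by
        intro j
        induction j with
        | zero => exact ⟨1, odd_one, by ring⟩
        | succ j ih =>
          obtain ⟨c, hc, hce⟩ := ih
          obtain ⟨a, rfl⟩ : ∃ a, r = 2 * a + 1 := hr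
          refine ⟨(2 * a + 1) * (2 * a + 1) * c - 2 * a, ?_, ?_⟩
          · have h1 : Odd ((2 * a + 1) * (2 * a + 1) * c) := ((odd_two_mul_add_one a).mul (odd_two_mul_add_one a)).mul hc
            obtain ⟨d, hd⟩ := h1
            refine Nat.odd_iff.mpr ?_
            have : 2 * a + 1 ≤ (2 * a + 1) * (2 * a + 1) * c := by
              have := hc.pos
              nlinarith
            omega
          · have hle : 2 * a ≤ (2 * a + 1) * (2 * a + 1) * c := by
              have := hc.pos
              nlinarith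
            rw [Nat.mul_sub, show 2 * (j + 1) + 1 = 2 * j + 1 + 2 by ring, pow_add]
            have : (2 * a + 1 + 1) * ((2 * a + 1) * (2 * a + 1) * c) =
                ((2 * a + 1) ^ (2 * j + 1) + 1) * (2 * a + 1) ^ 2 := by rw [hce]; ring
            rw [this]
            have : (2 * a + 1 + 1) * (2 * a) + 1 = (2 * a + 1) ^ 2 := by ring
            have h5 : ((2 * a + 1) ^ (2 * j + 1) + 1) * (2 * a + 1) ^ 2 =
              (2 * a + 1) ^ (2 * j + 1) * (2 * a + 1) ^ 2 + (2 * a + 1) ^ 2 := by ring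
            omega
      obtain ⟨j, rfl⟩ := hk'
      obtain ⟨c, hc, hce⟩ := key j
      rw [← h, hb] at hce
      rwa [Nat.eq_of_mul_eq_mul_left (by omega) hce]
    have hb1 : b = 1 := by
      rcases Nat.eq_zero_or_pos i with h0 | h0
      · rw [hi, h0, pow_zero]
      · rw [hi] at hbodd
        exact absurd hbodd (Nat.not_odd_iff_even.mpr (Nat.even_pow.mpr ⟨even_two, h0.ne'⟩))
    rw [hb1, mul_one, h] at hb
    exact hne ((Nat.pow_eq_self_iff hr1).mp (by omega))

/-- A transitive induced `r`-group is regular. -/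
theorem autT_regular_of_pgroup (hA : IsPGroup r (autT T)) (h4 : 4 ≤ Nat.card (T : Subgroup G))
    (htr : ∀ a b : (T : Subgroup G), a ≠ 1 → b ≠ 1 → ∃ α : autT T, (α : MulAut (T : Subgroup G)) a = b)
    {α : autT T} {t : (T : Subgroup G)} (ht : t ≠ 1) (hfix : (α : MulAut (T : Subgroup G)) t = t) : α = 1 := by
  classical
  haveI := Fact.mk h.prime
  haveI : Fact (Nat.Prime 2) := ⟨Nat.prime_two⟩
  haveI : Fintype (T : Subgroup G) := Fintype.ofFinite _
  let W := {a : (T : Subgroup G) // a ≠ 1}
  letI : MulAction (autT T) W :=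
    { smul := fun α a => ⟨(α : MulAut (T : Subgroup G)) a.1, fun e => a.2 (by simpa using e)⟩
      one_smul := fun a => rfl
      mul_smul := fun α β a => rfl }
  have hWc : Nat.card W = Nat.card (T : Subgroup G) - 1 := by
    rw [Nat.card_eq_fintype_card, Fintype.card_subtype_compl, Fintype.card_subtype_eq, Nat.card_eq_fintype_card]
  let w : W := ⟨t, ht⟩
  have horb : MulAction.orbit (autT T) w = Set.univ := Set.eq_univ_of_forall fun b => by
    obtain ⟨β, hβ⟩ := htr t b.1 ht b.2
    exact ⟨β, Subtype.ext hβ⟩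
  obtain ⟨k, hk⟩ := IsPGroup.iff_card.mp hA
  have hWd : Nat.card W ∣ r ^ k := by
    have h7 := (MulAction.stabilizer (autT T) w).index_dvd_card
    rwa [MulAction.index_stabilizer, horb, Set.ncard_univ, hk] at h7
  obtain ⟨i, -, hi⟩ := (Nat.dvd_prime_pow h.prime).mp hWd
  obtain ⟨m, hm⟩ := IsPGroup.iff_card.mp T.2
  have h2m : 2 ^ m = r ^ i + 1 := by rw [← hm, ← hi, hWc]; omega
  have hi0 : i ≠ 0 := fun e => by rw [e, pow_zero] at h2m; omega
  have hi1 := exponent_one h.odd h.prime.one_lt hi0 h2m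
  -- a faithful group of permutations of `r` points
  have hinj : Function.Injective (MulAction.toPermHom (autT T) W) := by
    intro β γ e
    refine Subtype.ext (MulEquiv.ext fun a => ?_)
    by_cases ha : a = 1
    · simp [ha]
    · exact congrArg Subtype.val (Equiv.Perm.congr_fun e ⟨a, ha⟩)
  have hdvd := Subgroup.card_dvd_of_injective _ hinj
  rw [Nat.card_perm, hk, hi, hi1, pow_one] at hdvd
  have hk1 : k ≤ 1 := by
    by_contra hlt
    have h6 : r * r ∣ r.factorial := (by rw [← pow_two]; exact pow_dvd_pow r (by omega) : r * r ∣ r ^ k).trans hdvd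
    rw [← Nat.mul_factorial_pred h.prime.ne_zero, Nat.mul_dvd_mul_iff_left h.prime.pos, h.prime.dvd_factorial] at h6
    have := h.prime.two_le
    omega
  have hstab : MulAction.stabilizer (autT T) w = ⊥ := by
    rw [← Subgroup.card_eq_one]
    have h7 := (MulAction.stabilizer (autT T) w).card_mul_index
    rw [MulAction.index_stabilizer, horb, Set.ncard_univ, hi, hi1, pow_one, hk] at h7
    have h8 : r ^ k ≤ r ^ 1 := Nat.pow_le_pow_right h.prime.pos hk1
    have h9 : 0 < Nat.card (MulAction.stabilizer (autT T) w) := Nat.card_pos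
    nlinarith [h.prime.pos]
  exact (Subgroup.eq_bot_iff_forall _).mp hstab α (Subtype.ext hfix)

end CfsgLib.TwoR
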