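import Cfsg.Agent.S0144
import Cfsg.Agent.Lib.Involutions
import Mathlib.GroupTheory.Sylow
import Mathlib.Tactic.Group

/-!
Finite groups in which the only orders of elements divisible by two or by a fixed odd prime `r` are `2`, `r` and
`2 r`, and the norm lemma: a subgroup with a fixed-point-free automorphism of prime order acts trivially on a
module on which all the norms vanish.
-/

set_option autoImplicit false
set_option linter.unusedSectionVars false
set_option linter.style.haveILetI false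

namespace CfsgLib.TwoR

open Subgroup
open scoped IsMulCommutative

universe u v

/-- Orders divisible by two are `2` or `2 r`, those divisible by `r` are `r` or `2 r`. -/
structure Hyp (G : Type u) [Group G] (r : ℕ) : Prop where
  prime : r.Prime
  ne_two : r ≠ 2
  two : ∀ g : G, 2 ∣ orderOf g → orderOf g = 2 ∨ orderOf g = 2 * r
  rdiv : ∀ g : G, r ∣ orderOf g → orderOf g = r ∨ orderOf g = 2 * r

variable {G : Type u} [Group G] [Finite G] {r : ℕ}

namespace Hyp

theorem of_injective (h : Hyp G r) {H : Type v} [Group H] (f : H →* G) (hf : Function.Injective f) : Hyp H r where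
  prime := h.prime
  ne_two := h.ne_two
  two g hg := by rw [← orderOf_injective f hf g] at hg ⊢; exact h.two _ hg
  rdiv g hg := by rw [← orderOf_injective f hf g] at hg ⊢; exact h.rdiv _ hg

theorem subgroup (h : Hyp G r) (H : Subgroup G) : Hyp H r := h.of_injective H.subtype H.subtype_injective

theorem quotient (h : Hyp G r) (N : Subgroup G) [N.Normal] : Hyp (G ⧸ N) r := by
  refine ⟨h.prime, h.ne_two, fun q hq => ?_, fun q hq => ?_⟩
  · obtain ⟨g, rfl⟩ := QuotientGroup.mk'_surjective N q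
    have hd := orderOf_map_dvd (QuotientGroup.mk' N) g
    rcases h.two g (hq.trans hd) with e | e <;> rw [e] at hd
    · exact Or.inl (Nat.dvd_antisymm hd hq)
    · obtain ⟨k, hk⟩ := hq
      rw [hk] at hd ⊢
      rcases (Nat.dvd_prime h.prime).mp (Nat.dvd_of_mul_dvd_mul_left two_pos hd) with e' | e' <;> simp [e']
  · obtain ⟨g, rfl⟩ := QuotientGroup.mk'_surjective N q
    have hd := orderOf_map_dvd (QuotientGroup.mk' N) g
    rcases h.rdiv g (hq.trans hd) with e | e <;> rw [e] at hd
    · exact Or.inl (Nat.dvd_antisymm hd hq)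
    · obtain ⟨k, hk⟩ := hq
      rw [hk, mul_comm 2 r] at hd
      rcases (Nat.dvd_prime Nat.prime_two).mp (Nat.dvd_of_mul_dvd_mul_left h.prime.pos hd) with e' | e'
      · exact Or.inl (by rw [hk, e', mul_one])
      · exact Or.inr (by rw [hk, e', mul_comm])

theorem odd (h : Hyp G r) : Odd r := h.prime.odd_of_ne_two h.ne_two

theorem coprime_two (h : Hyp G r) : Nat.Coprime 2 r := Nat.coprime_two_left.mpr h.odd

theorem sq_eq_one (h : Hyp G r) {P : Subgroup G} (hP : IsPGroup 2 P) {x : G} (hx : x ∈ P) : x * x = 1 := by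
  haveI : Fact (Nat.Prime 2) := ⟨Nat.prime_two⟩
  obtain ⟨j, hj⟩ := IsPGroup.iff_orderOf.mp hP ⟨x, hx⟩
  rw [Subgroup.orderOf_mk] at hj
  rcases Nat.eq_zero_or_pos j with h0 | h0
  · rw [h0, pow_zero, orderOf_eq_one_iff] at hj
    simp [hj]
  · rcases h.two x (hj ▸ dvd_pow_self 2 h0.ne') with e | e
    · rw [← pow_two, ← e, pow_orderOf_eq_one]
    · exfalso
      have hd : r ∣ 2 ^ j := hj ▸ e ▸ dvd_mul_left r 2
      exact h.ne_two ((Nat.prime_dvd_prime_iff_eq h.prime Nat.prime_two).mp (h.prime.dvd_of_dvd_pow hd))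

theorem pow_r (h : Hyp G r) {P : Subgroup G} (hP : IsPGroup r P) {x : G} (hx : x ∈ P) : x ^ r = 1 := by
  haveI := Fact.mk h.prime
  obtain ⟨j, hj⟩ := IsPGroup.iff_orderOf.mp hP ⟨x, hx⟩
  rw [Subgroup.orderOf_mk] at hj
  rcases Nat.eq_zero_or_pos j with h0 | h0
  · rw [h0, pow_zero, orderOf_eq_one_iff] at hj
    simp [hj]
  · rcases h.rdiv x (hj ▸ dvd_pow_self r h0.ne') with e | e
    · rw [← e, pow_orderOf_eq_one]
    · exfalso
      have hd : 2 ∣ r ^ j := hj ▸ e ▸ dvd_mul_right 2 r
      exact h.ne_two ((Nat.prime_dvd_prime_iff_eq Nat.prime_two h.prime).mp (Nat.prime_two.dvd_of_dvd_pow hd)).symm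

theorem comm_two (h : Hyp G r) {P : Subgroup G} (hP : IsPGroup 2 P) {a b : G} (ha : a ∈ P) (hb : b ∈ P) :
    a * b = b * a := by
  have h1 := inv_eq_of_mul_eq_one_right (h.sq_eq_one hP (mul_mem ha hb))
  rw [_root_.mul_inv_rev, inv_eq_of_mul_eq_one_right (h.sq_eq_one hP ha),
    inv_eq_of_mul_eq_one_right (h.sq_eq_one hP hb)] at h1
  exact h1.symm

/-- An element commuting with an involution has order dividing `2 r`. -/
theorem pow_of_commute_two (h : Hyp G r) {t c : G} (ht : orderOf t = 2) (hc : Commute t c) : c ^ (2 * r) = 1 := by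
  rcases Nat.even_or_odd (orderOf c) with he | ho
  · rcases h.two c he.two_dvd with e | e
    · rw [pow_mul, ← e, pow_orderOf_eq_one, one_pow]
    · rw [← e, pow_orderOf_eq_one]
  · have hm := hc.orderOf_mul_eq_mul_orderOf_of_coprime (by rw [ht]; exact Nat.coprime_two_left.mpr ho)
    rw [ht] at hm
    rcases h.two _ (hm ▸ dvd_mul_right 2 _) with e | e <;> rw [hm] at e
    · have : orderOf c = 1 := by omega
      rw [orderOf_eq_one_iff] at this
      simp [this]
    · have : orderOf c = r := by omega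
      rw [pow_mul', ← this, pow_orderOf_eq_one, one_pow]

/-- An element commuting with an element of order `r` has order dividing `2 r`. -/
theorem pow_of_commute_r (h : Hyp G r) {x c : G} (hx : orderOf x = r) (hc : Commute x c) : c ^ (2 * r) = 1 := by
  by_cases hr : r ∣ orderOf c
  · rcases h.rdiv c hr with e | e
    · rw [pow_mul', ← e, pow_orderOf_eq_one, one_pow]
    · rw [← e, pow_orderOf_eq_one]
  · have hm := hc.orderOf_mul_eq_mul_orderOf_of_coprime (by rw [hx]; exact h.prime.coprime_iff_not_dvd.mpr hr)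
    rw [hx] at hm
    rcases h.rdiv _ (hm ▸ dvd_mul_right r _) with e | e <;> rw [hm] at e
    · have : orderOf c = 1 := (Nat.mul_eq_left h.prime.ne_zero).mp e
      rw [orderOf_eq_one_iff] at this
      simp [this]
    · have : orderOf c = 2 := Nat.eq_of_mul_eq_mul_left h.prime.pos (e.trans (mul_comm 2 r))
      rw [pow_mul, ← this, pow_orderOf_eq_one, one_pow]

/-- An element of odd order commuting with an involution has order dividing `r`. -/
theorem pow_r_of_commute_two (h : Hyp G r) {t c : G} (ht : orderOf t = 2) (hc : Commute t c)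
    (hodd : Odd (orderOf c)) : c ^ r = 1 :=
  orderOf_dvd_iff_pow_eq_one.mp ((Nat.coprime_two_right.mpr hodd).dvd_of_dvd_mul_left
    (orderOf_dvd_of_pow_eq_one (h.pow_of_commute_two ht hc)))

/-- An element of odd order commuting with an element of order `r` has order dividing `r`. -/
theorem pow_r_of_commute_r (h : Hyp G r) {x c : G} (hx : orderOf x = r) (hc : Commute x c)
    (hodd : Odd (orderOf c)) : c ^ r = 1 :=
  orderOf_dvd_iff_pow_eq_one.mp ((Nat.coprime_two_right.mpr hodd).dvd_of_dvd_mul_left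
    (orderOf_dvd_of_pow_eq_one (h.pow_of_commute_r hx hc)))

/-- A non-trivial element of an `r`-subgroup has order `r`. -/
theorem orderOf_r (h : Hyp G r) {P : Subgroup G} (hP : IsPGroup r P) {x : G} (hx : x ∈ P) (h1 : x ≠ 1) :
    orderOf x = r :=
  haveI := Fact.mk h.prime
  orderOf_eq_prime (h.pow_r hP hx) h1

theorem orderOf_two (h : Hyp G r) {P : Subgroup G} (hP : IsPGroup 2 P) {x : G} (hx : x ∈ P) (h1 : x ≠ 1) :
    orderOf x = 2 :=
  Involutions.orderOf_eq_two_iff'.mpr ⟨h.sq_eq_one hP hx, h1⟩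

/-- A subgroup of exponent dividing `2 r` is solvable. -/
theorem solvable_of_pow (h : Hyp G r) {H : Subgroup G} (hH : ∀ x ∈ H, x ^ (2 * r) = 1) : Group.IsSolvable H := by
  have hp : ∀ p : ℕ, p.Prime → p ∣ Nat.card H → p = 2 ∨ p = r := fun p hp hd => by
    haveI := Fact.mk hp
    obtain ⟨x, hx⟩ := exists_prime_orderOf_dvd_card' (G := H) p hd
    have h1 : p ∣ 2 * r := hx ▸ Subgroup.orderOf_coe x ▸ orderOf_dvd_of_pow_eq_one (hH x x.2)
    rcases hp.dvd_mul.mp h1 with h2 | h2
    · exact Or.inl ((Nat.prime_dvd_prime_iff_eq hp Nat.prime_two).mp h2)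
    · exact Or.inr ((Nat.prime_dvd_prime_iff_eq hp h.prime).mp h2)
  obtain ⟨a, m, hm, ham⟩ := Nat.exists_eq_pow_mul_and_not_dvd (Nat.card_pos (α := H)).ne' 2 (by norm_num)
  have hm0 : m ≠ 0 := fun e => by rw [e] at hm; exact hm (dvd_zero 2)
  have hmr := Nat.eq_prime_pow_of_unique_prime_dvd (p := r) hm0 fun {p} hpp hpd =>
    (hp p hpp (ham ▸ hpd.mul_left _)).resolve_left fun e => hm (e ▸ hpd)
  exact Cfsg.Agent.S0144.result 2 r a _ Nat.prime_two h.prime (by rw [ham, ← hmr])

theorem centralizer_two_solvable (h : Hyp G r) {t : G} (ht : orderOf t = 2) :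
    Group.IsSolvable (centralizer ({t} : Set G)) :=
  h.solvable_of_pow fun _ hx => h.pow_of_commute_two ht (mem_centralizer_singleton_iff.mp hx).symm

theorem centralizer_r_solvable (h : Hyp G r) {x : G} (hx : orderOf x = r) :
    Group.IsSolvable (centralizer ({x} : Set G)) :=
  h.solvable_of_pow fun _ hc => h.pow_of_commute_r hx (mem_centralizer_singleton_iff.mp hc).symm

/-- A subgroup of odd order and exponent dividing `2 r` is an `r`-group. -/
theorem isPGroup_of_odd (h : Hyp G r) {H : Subgroup G} (hodd : Odd (Nat.card H)) (hH : ∀ x ∈ H, x ^ (2 * r) = 1) :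
    IsPGroup r H := by
  intro x
  refine ⟨1, Subtype.ext ?_⟩
  rw [pow_one, Subgroup.coe_pow, Subgroup.coe_one, ← orderOf_dvd_iff_pow_eq_one]
  refine (Nat.coprime_two_right.mpr (hodd.of_dvd_nat ?_)).dvd_of_dvd_mul_left (orderOf_dvd_of_pow_eq_one (hH x x.2))
  rw [Subgroup.orderOf_coe]
  exact orderOf_dvd_natCard x

end Hyp

/-- An endomorphism-free form of the orbit map of a fixed-point-free element. -/
theorem exists_commutator {A : Type v} [Group A] [Finite A] (E : Subgroup A) (y : A)
    (hy : y ∈ normalizer (E : Set A)) (hfpf : ∀ e ∈ E, y * e * y⁻¹ = e → e = 1) {e : A} (he : e ∈ E) :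
    ∃ f ∈ E, e * y = f * y * f⁻¹ := by
  let g : E → E := fun f => ⟨(f : A) * (y * (f : A) * y⁻¹)⁻¹,
    mul_mem f.2 (inv_mem ((Subgroup.mem_normalizer_iff.mp hy f).mp f.2))⟩
  have hg : Function.Injective g := by
    intro f f' e
    have e' : (f : A) * (y * (f : A) * y⁻¹)⁻¹ = f' * (y * (f' : A) * y⁻¹)⁻¹ := congrArg Subtype.val e
    have h1 : y * ((f' : A)⁻¹ * f) * y⁻¹ = (f' : A)⁻¹ * f := by
      calc y * ((f' : A)⁻¹ * f) * y⁻¹
          = (f' : A)⁻¹ * (f' * (y * (f' : A) * y⁻¹)⁻¹) * (y * f * y⁻¹) := by group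
        _ = (f' : A)⁻¹ * (f * (y * (f : A) * y⁻¹)⁻¹) * (y * f * y⁻¹) := by rw [e']
        _ = (f' : A)⁻¹ * f := by group
    exact Subtype.ext (inv_mul_eq_one.mp (hfpf _ (mul_mem (inv_mem f'.2) f.2) h1)).symm
  obtain ⟨f, hf⟩ := Finite.injective_iff_surjective.mp hg ⟨e, he⟩
  refine ⟨f, f.2, ?_⟩
  have : (f : A) * (y * (f : A) * y⁻¹)⁻¹ = e := congrArg Subtype.val hf
  rw [← this]
  group

/-- A group with a fixed-point-free automorphism of prime order fixes a module on which all norms vanish. -/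
theorem fixed_of_norms {V : Type v} [CommGroup V] [Finite V] {A : Type u} [Group A] [Finite A] (ρ : A →* MulAut V)
    (E : Subgroup A) (y : A) {s : ℕ} (hs : s.Prime) (hy : y ∈ normalizer (E : Set A)) (hys : y ^ s = 1)
    (hfpf : ∀ e ∈ E, y * e * y⁻¹ = e → e = 1)
    (hnorm : ∀ e ∈ E, ∀ v : V, ∏ i ∈ Finset.range s, ρ ((e * y) ^ i) v = 1)
    (hcop : ∀ v : V, v ^ Nat.card E = 1 → v = 1) :
    ∀ e ∈ E, ∀ v : V, ρ e v = v := by
  classical
  haveI : Fintype E := Fintype.ofFinite E
  let σ : V → V := fun w => ∏ e : E, ρ (e : A) w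
  have hσ : ∀ d ∈ E, ∀ w, ρ d (σ w) = σ w := by
    intro d hd w
    simp only [σ, map_prod]
    exact Fintype.prod_equiv (Equiv.mulLeft ⟨d, hd⟩) _ _ fun e => by simp [MulAut.mul_apply]
  -- the powers of the elements of the coset
  have hψ : ∀ i : ℕ, ∀ e ∈ E, (e * y) ^ i * (y ^ i)⁻¹ ∈ E := by
    intro i
    induction i with
    | zero => intro e _; simp
    | succ i ih =>
      intro e he
      have : (e * y) ^ (i + 1) * (y ^ (i + 1))⁻¹ = e * (y * ((e * y) ^ i * (y ^ i)⁻¹) * y⁻¹) := by
        rw [pow_succ', pow_succ']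
        group
      rw [this]
      exact mul_mem he ((Subgroup.mem_normalizer_iff.mp hy _).mp (ih e he))
  have hinj : ∀ i : ℕ, 0 < i → i < s →
      Function.Injective (fun e : E => (⟨((e : A) * y) ^ i * (y ^ i)⁻¹, hψ i e e.2⟩ : E)) := by
    intro i hi his e e' h
    have h' : ((e : A) * y) ^ i = ((e' : A) * y) ^ i := mul_right_cancel (congrArg Subtype.val h)
    obtain ⟨f, hf, hef⟩ := exists_commutator E y hy hfpf e.2
    obtain ⟨f', hf', hef'⟩ := exists_commutator E y hy hfpf e'.2
    rw [hef, hef', conj_pow, conj_pow] at h'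
    have hc : Commute (f'⁻¹ * f) (y ^ i) := by
      show f'⁻¹ * f * y ^ i = y ^ i * (f'⁻¹ * f)
      calc f'⁻¹ * f * y ^ i = f'⁻¹ * (f * y ^ i * f⁻¹) * f := by group
        _ = f'⁻¹ * (f' * y ^ i * f'⁻¹) * f := by rw [h']
        _ = y ^ i * (f'⁻¹ * f) := by group
    have hcop' : Nat.Coprime i (orderOf y) := by
      have hd : orderOf y ∣ s := orderOf_dvd_of_pow_eq_one hys
      exact (
        (hs.coprime_iff_not_dvd.mpr fun hdi => absurd (Nat.le_of_dvd hi hdi) (by omega)).symm).coprime_dvd_right hd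
    obtain ⟨m, hm⟩ := exists_pow_eq_self_of_coprime (x := y) hcop'
    have hc' : Commute (f'⁻¹ * f) y := hm ▸ hc.pow_right m
    have h1 : f'⁻¹ * f = 1 := hfpf _ (mul_mem (inv_mem hf') hf) (by rw [← hc'.eq, mul_inv_cancel_right])
    have : f = f' := (inv_mul_eq_one.mp h1).symm
    rw [this, ← hef'] at hef
    exact Subtype.ext (mul_right_cancel hef)
  intro d hd v
  -- sum all norms over the subgroup
  have htot : ∏ i ∈ Finset.range s, ∏ e : E, ρ (((e : A) * y) ^ i) v = 1 := by
    rw [Finset.prod_comm]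
    exact Finset.prod_eq_one fun e _ => hnorm e e.2 v
  obtain ⟨s', rfl⟩ : ∃ s', s = s' + 1 := ⟨s - 1, by have := hs.one_le; omega⟩
  rw [Finset.prod_range_succ'] at htot
  simp only [pow_zero, map_one, MulAut.one_apply, Finset.prod_const, Finset.card_univ] at htot
  rw [← Nat.card_eq_fintype_card] at htot
  have hrest : ρ d (∏ i ∈ Finset.range s', ∏ e : E, ρ (((e : A) * y) ^ (i + 1)) v) =
      ∏ i ∈ Finset.range s', ∏ e : E, ρ (((e : A) * y) ^ (i + 1)) v := by
    rw [map_prod]
    refine Finset.prod_congr rfl fun i hi => ?_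
    have e1 : ∏ e : E, ρ (((e : A) * y) ^ (i + 1)) v = σ (ρ (y ^ (i + 1)) v) := by
      refine Fintype.prod_equiv (Equiv.ofBijective _ (Finite.injective_iff_bijective.mp
        (hinj (i + 1) (by omega) (by have := Finset.mem_range.mp hi; omega)))) _ _ fun e => ?_
      rw [← MulAut.mul_apply, ← map_mul]
      simp
    rw [e1]
    exact hσ d hd _
  have hfix : ρ d (v ^ Nat.card E) = v ^ Nat.card E := by
    rw [eq_inv_of_mul_eq_one_right htot, map_inv, hrest]
  rw [map_pow] at hfix
  exact mul_inv_eq_one.mp (hcop _ (by rw [mul_pow, hfix, ← mul_pow, mul_inv_cancel, one_pow]))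

/-- A power of a twisted product. -/
theorem mul_pow_eq_norm {A : Type v} [Group A] (V : Subgroup A) [IsMulCommutative V] {g : A}
    (hg : g ∈ normalizer (V : Set A)) (v : V) (n : ℕ) :
    ((v : A) * g) ^ n =
      ((∏ i ∈ Finset.range n, V.normalizerMonoidHom ⟨g ^ i, pow_mem hg i⟩ v : V) : A) * g ^ n := by
  induction n with
  | zero => simp
  | succ n ih =>
    rw [Finset.prod_range_succ, pow_succ, ih, Subgroup.coe_mul]
    show _ = _ * (g ^ n * (v : A) * (g ^ n)⁻¹) * g ^ (n + 1)
    rw [pow_succ]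
    group

/-- An abelian normalised subgroup with all twisted powers trivial is centralised. -/
theorem centralize_abelian_aux {A : Type v} [Group A] [Finite A] (V E : Subgroup A) [IsMulCommutative V]
    {p : ℕ} (hexp : ∀ v ∈ V, v ^ p = 1) (hcop : (Nat.card E).Coprime p) (hEV : E ≤ normalizer (V : Set A))
    {y : A} (hyV : y ∈ normalizer (V : Set A)) (hyE : y ∈ normalizer (E : Set A)) {s : ℕ} (hs : s.Prime)
    (hys : y ^ s = 1) (hfpf : ∀ e ∈ E, y * e * y⁻¹ = e → e = 1)
    (hnorm : ∀ e ∈ E, ∀ v ∈ V, (v * (e * y)) ^ s = 1) :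
    ∀ e ∈ E, ∀ v ∈ V, e * v = v * e := by
  set N := normalizer (V : Set A)
  let E' := E.subgroupOf N
  have key := fixed_of_norms (ρ := (V.normalizerMonoidHom)) E' ⟨y, hyV⟩ hs
    (Subgroup.mem_normalizer_fintype fun e he => (Subgroup.mem_normalizer_iff.mp hyE _).mp he)
    (Subtype.ext hys) (fun e he h => Subtype.ext (hfpf e he (congrArg Subtype.val h)))
    (fun e he v => by
      have h1 := mul_pow_eq_norm V (mul_mem (hEV he) hyV) v s
      obtain ⟨f, hf, hef⟩ := exists_commutator E y hyE hfpf (e := (e : A)) he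
      have h2 : ((e : A) * y) ^ s = 1 := by rw [hef, conj_pow, hys, mul_one, mul_inv_cancel]
      replace h1 := (hnorm (e : A) he v v.2).symm.trans (h1.trans (by
        show _ * ((e : A) * y) ^ s = _
        rw [h2, mul_one]))
      refine Subtype.ext ?_
      rw [Subgroup.coe_one, h1]
      rfl)
    (fun v hv => Subtype.ext (by
      have h1 : orderOf (v : A) ∣ p := orderOf_dvd_of_pow_eq_one (hexp v v.2)
      have h2 : orderOf (v : A) ∣ Nat.card E := by
        refine orderOf_dvd_of_pow_eq_one ?_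
        have h3 := congrArg Subtype.val hv
        rwa [Subgroup.coe_pow, Nat.card_congr (Subgroup.subgroupOfEquivOfLe hEV).toEquiv] at h3
      exact orderOf_eq_one_iff.mp (Nat.eq_one_of_dvd_coprimes hcop h2 h1)))
  intro e he v hv
  exact mul_inv_eq_iff_eq_mul.mp (congrArg Subtype.val (key ⟨e, hEV he⟩ he ⟨v, hv⟩))

/-- An abelian subgroup of exponent `r` (or two) is centralised by a subgroup having a fixed-point-free element. -/
theorem centralize_abelian (h : Hyp G r) (V E : Subgroup G) [IsMulCommutative V] {p : ℕ} (hexp : ∀ v ∈ V, v ^ p = 1)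
    (hcop : (Nat.card E).Coprime p) (hEV : E ≤ normalizer (V : Set G)) {y : G} (hyV : y ∈ normalizer (V : Set G))
    (hyE : y ∈ normalizer (E : Set G)) {s : ℕ} (hy : orderOf y = s) (hs : s.Prime) (hs2 : s ≠ 2)
    (hps : p = r ∨ (p = 2 ∧ s ≠ r)) (hfpf : ∀ e ∈ E, y * e * y⁻¹ = e → e = 1) :
    ∀ e ∈ E, ∀ v ∈ V, e * v = v * e := by
  have hys : y ^ s = 1 := hy ▸ pow_orderOf_eq_one y
  refine centralize_abelian_aux V E hexp hcop hEV hyV hyE hs hys hfpf fun e he v hv => ?_
  obtain ⟨f, hf, hef⟩ := exists_commutator E y hyE hfpf he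
  set g := e * y with hg
  have hgV : g ∈ normalizer (V : Set G) := mul_mem (hEV he) hyV
  have hgo : orderOf g = s := by rw [hef, Involutions.orderOf_conj, hy]
  set z := v * g with hz
  have hzs : z ^ s ∈ V := by
    have h1 := mul_pow_eq_norm V hgV ⟨v, hv⟩ s
    rw [show g ^ s = 1 from hgo ▸ pow_orderOf_eq_one g, mul_one] at h1
    rw [show z ^ s = _ from h1]
    exact SetLike.coe_mem _
  have hzps : z ^ (s * p) = 1 := by rw [pow_mul]; exact hexp _ hzs
  have hd : orderOf z ∣ s * p := orderOf_dvd_of_pow_eq_one hzps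
  have hsame : p = r → s = r → z ^ s = 1 := fun hp' hsr => by
    subst hp' hsr
    have hd2 : orderOf z ∣ s ^ 2 := by rwa [pow_two]
    obtain ⟨j, -, hj⟩ := (Nat.dvd_prime_pow hs).mp hd2
    rcases Nat.eq_zero_or_pos j with h0 | h0
    · rw [h0, pow_zero, orderOf_eq_one_iff] at hj; simp [hj]
    · rcases h.rdiv z (hj ▸ dvd_pow_self s h0.ne') with e' | e'
      · rw [← e', pow_orderOf_eq_one]
      · have : 2 ∣ s ^ 2 := (e' ▸ dvd_mul_right 2 s : 2 ∣ orderOf z).trans hd2
        exact absurd ((Nat.prime_dvd_prime_iff_eq Nat.prime_two hs).mp (Nat.prime_two.dvd_of_dvd_pow this)) hs2.symm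
  by_cases hss : p = r ∧ s = r
  · exact hsame hss.1 hss.2
  have hpp : p.Prime := by rcases hps with rfl | ⟨rfl, -⟩ <;> [exact h.prime; exact Nat.prime_two]
  have hne : p ≠ s := by
    rintro rfl
    rcases hps with h' | ⟨h', -⟩
    · exact hss ⟨h', h'⟩
    · exact hs2 h'
  have hcase : orderOf z ∣ s ∨ orderOf z = p ∨ orderOf z = s * p := by
    by_cases hpd : p ∣ orderOf z
    · obtain ⟨k, hk⟩ := hpd
      rw [hk, mul_comm s p] at hd
      rcases (Nat.dvd_prime hs).mp (Nat.dvd_of_mul_dvd_mul_left hpp.pos hd) with e' | e'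
      · exact Or.inr (Or.inl (by rw [hk, e', mul_one]))
      · exact Or.inr (Or.inr (by rw [hk, e', mul_comm]))
    · exact Or.inl ((hpp.coprime_iff_not_dvd.mpr hpd).symm.dvd_of_dvd_mul_right hd)
  rcases hcase with h1 | h1 | h1
  · exact orderOf_dvd_iff_pow_eq_one.mp h1
  · -- `z` would lie in `V`
    exfalso
    have hzV : z ∈ V := by
      obtain ⟨m, hm⟩ := exists_pow_eq_self_of_coprime (x := z)
        (show Nat.Coprime s (orderOf z) by rw [h1]; exact (Nat.coprime_primes hs hpp).mpr hne.symm)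
      exact hm ▸ pow_mem hzs m
    have hgin : g ∈ V := by
      have := mul_mem (inv_mem hv) hzV
      rwa [hz, inv_mul_cancel_left] at this
    have := hgo ▸ orderOf_dvd_of_pow_eq_one (hexp g hgin)
    exact hne ((Nat.prime_dvd_prime_iff_eq hs hpp).mp this).symm
  · exfalso
    rcases hps with rfl | ⟨rfl, hsr⟩
    · rcases h.rdiv z (h1 ▸ dvd_mul_left p s) with e' | e' <;> rw [h1] at e'
      · exact hs.ne_one ((Nat.mul_eq_right h.prime.ne_zero).mp e')
      · exact hs2 (Nat.eq_of_mul_eq_mul_right h.prime.pos e')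
    · rcases h.two z (h1 ▸ dvd_mul_left 2 s) with e' | e' <;> rw [h1] at e'
      · exact hs.ne_one (by omega)
      · exact hsr (by omega)

/-- An `r`-subgroup is centralised by a subgroup having a fixed-point-free element. -/
theorem centralize_rgroup : ∀ (n : ℕ) {G : Type u} [Group G] [Finite G] {r : ℕ} (_ : Hyp G r) (X E : Subgroup G)
    (_ : Nat.card X = n) (_ : IsPGroup r X) (_ : (Nat.card E).Coprime r) (_ : E ≤ normalizer (X : Set G))
    (y : G) (_ : y ∈ normalizer (X : Set G)) (_ : y ∈ normalizer (E : Set G)) (_ : (orderOf y).Prime)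
    (_ : orderOf y ≠ 2) (_ : ∀ e ∈ E, y * e * y⁻¹ = e → e = 1), ∀ e ∈ E, ∀ x ∈ X, e * x = x * e := by
  intro n
  induction n using Nat.strong_induction_on with
  | _ n ih =>
    intro G _ _ r h X E hn hX hcop hEX y hyX hyE hy hy2 hfpf
    haveI := Fact.mk h.prime
    rcases eq_or_ne X ⊥ with hX0 | hX0
    · intro e _ x hx
      rw [hX0, mem_bot] at hx
      simp [hx]
    set Z := (center X).map X.subtype with hZ
    have hZX : Z ≤ X := Subgroup.map_subtype_le _
    have hnormZ : ∀ g ∈ normalizer (X : Set G), g ∈ normalizer (Z : Set G) := by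
      intro g hg
      refine Subgroup.mem_normalizer_fintype fun z hz => ?_
      obtain ⟨w, hw, rfl⟩ := hz
      refine ⟨⟨g * w * g⁻¹, (Subgroup.mem_normalizer_iff.mp hg _).mp w.2⟩, mem_center_iff.mpr fun a => ?_, rfl⟩
      have ha : g⁻¹ * (a : G) * g ∈ X := by
        have := (Subgroup.mem_normalizer_iff.mp (inv_mem hg) (a : G)).mp a.2
        rwa [inv_inv] at this
      have h1 := congrArg Subtype.val (mem_center_iff.mp hw ⟨_, ha⟩)
      simp only [Subgroup.coe_mul] at h1
      apply Subtype.ext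
      show (a : G) * (g * w * g⁻¹) = g * w * g⁻¹ * a
      calc (a : G) * (g * w * g⁻¹) = g * (g⁻¹ * a * g * w) * g⁻¹ := by group
        _ = g * (w * (g⁻¹ * a * g)) * g⁻¹ := by rw [h1]
        _ = _ := by group
    haveI : IsMulCommutative Z := ⟨⟨fun a b => Subtype.ext (by
      obtain ⟨a', ha', hae⟩ := a.2
      obtain ⟨b', hb', hbe⟩ := b.2
      simp only [Subgroup.coe_mul, ← hae, ← hbe]
      exact congrArg Subtype.val (mem_center_iff.mp hb' a'))⟩⟩
    have hZc := centralize_abelian h Z E (p := r) (fun z hz => h.pow_r hX (hZX hz)) hcop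
      (fun e he => hnormZ e (hEX he)) (hnormZ y hyX) hyE rfl hy hy2 (Or.inl rfl) hfpf
    -- the quotient
    set N := normalizer (Z : Set G) with hN
    have hXN : X ≤ N := fun g hg => hnormZ g (Subgroup.le_normalizer hg)
    have hEN : E ≤ N := fun e he => hnormZ e (hEX he)
    have hyN : y ∈ N := hnormZ y hyX
    have hZN : Z ≤ N := hZX.trans hXN
    haveI : (Z.subgroupOf N).Normal := Subgroup.normal_in_normalizer
    set π := QuotientGroup.mk' (Z.subgroupOf N) with hπ
    set X' := (X.subgroupOf N).map π with hX'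
    set E' := (E.subgroupOf N).map π with hE'
    have hker : ∀ g : N, π g = 1 ↔ (g : G) ∈ Z := fun g =>
      (QuotientGroup.eq_one_iff g).trans Subgroup.mem_subgroupOf
    have hEZ : ∀ e ∈ E, e ∈ Z → e = 1 := fun e he hez =>
      orderOf_eq_one_iff.mp (Nat.eq_one_of_dvd_coprimes hcop (E.orderOf_dvd_natCard he)
        (orderOf_dvd_of_pow_eq_one (h.pow_r hX (hZX hez))))
    by_cases hyZ : π ⟨y, hyN⟩ = 1
    · -- then `y` centralises `E`
      intro e he x hx
      have hyZ' : y ∈ Z := (hker ⟨y, hyN⟩).mp hyZ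
      have h1 : y * e * y⁻¹ = e := by rw [← hZc e he y hyZ', mul_inv_cancel_right]
      simp [hfpf e he h1]
    have hlt : Nat.card X' < n := by
      have h1 : Nat.card X' * Nat.card (Z.subgroupOf N ⊓ X.subgroupOf N : Subgroup N) = Nat.card (X.subgroupOf N) := by
        have hc := (π.comp (X.subgroupOf N).subtype).ker.card_mul_index
        have hk : (π.comp (X.subgroupOf N).subtype).ker = (Z.subgroupOf N).subgroupOf (X.subgroupOf N) := by
          rw [hπ, ← MonoidHom.comap_ker, QuotientGroup.ker_mk']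
          rfl
        have hrange : (π.comp (X.subgroupOf N).subtype).range = X' := by
          rw [MonoidHom.range_comp, Subgroup.range_subtype]
        rw [Subgroup.index_ker, hrange, hk] at hc
        rw [← hc, mul_comm, ← Nat.card_congr (Subgroup.subgroupOfEquivOfLe
          (inf_le_right : Z.subgroupOf N ⊓ X.subgroupOf N ≤ X.subgroupOf N)).toEquiv, Subgroup.inf_subgroupOf_right]
      rw [Nat.card_congr (Subgroup.subgroupOfEquivOfLe hXN).toEquiv, hn,
        inf_eq_left.mpr (fun g hg => hZX hg : Z.subgroupOf N ≤ X.subgroupOf N),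
        Nat.card_congr (Subgroup.subgroupOfEquivOfLe hZN).toEquiv] at h1
      haveI : Nontrivial X := (Subgroup.nontrivial_iff_ne_bot X).mpr hX0
      haveI := hX.center_nontrivial
      have h2 : 2 ≤ Nat.card Z := by
        rw [hZ, Subgroup.card_map_of_injective X.subtype_injective]
        exact Finite.one_lt_card
      have h3 : 0 < Nat.card X' := Nat.card_pos
      calc Nat.card X' < Nat.card X' * Nat.card Z := lt_mul_of_one_lt_right h3 (by omega)
        _ = n := h1
    have hnormmap : ∀ (g : N) (S : Subgroup G), (g : G) ∈ normalizer (S : Set G) →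
        π g ∈ normalizer (((S.subgroupOf N).map π : Subgroup _) : Set _) := by
      intro g S hgS
      refine Subgroup.mem_normalizer_fintype fun q hq => ?_
      obtain ⟨w, hw, rfl⟩ := hq
      exact ⟨g * w * g⁻¹, (Subgroup.mem_normalizer_iff.mp hgS (w : G)).mp hw, by simp⟩
    have hyord : orderOf (π ⟨y, hyN⟩) = orderOf y := by
      rcases (Nat.dvd_prime hy).mp (Subgroup.orderOf_mk y hyN ▸ orderOf_map_dvd π ⟨y, hyN⟩) with e | e
      · exact absurd (orderOf_eq_one_iff.mp e) hyZ
      · exact e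
    have key := ih _ hlt (h.subgroup N |>.quotient (Z.subgroupOf N)) X' E' rfl
      ((hX.of_equiv (Subgroup.subgroupOfEquivOfLe hXN).symm).map π)
      (hcop.coprime_dvd_left ((Subgroup.card_map_dvd _ _).trans
        (dvd_of_eq (Nat.card_congr (Subgroup.subgroupOfEquivOfLe hEN).toEquiv))))
      (fun q hq => by
        obtain ⟨w, hw, rfl⟩ := hq
        exact hnormmap w X (hEX hw))
      (π ⟨y, hyN⟩) (hnormmap _ X hyX) (hnormmap _ E hyE) (hyord ▸ hy) (hyord ▸ hy2)
      (fun q hq heq => by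
        obtain ⟨w, hw, rfl⟩ := hq
        rw [← map_mul, ← map_inv, ← map_mul] at heq
        have h1 : π (⟨y, hyN⟩ * w * ⟨y, hyN⟩⁻¹ * w⁻¹) = 1 := by rw [map_mul, heq, map_inv, mul_inv_cancel]
        have h2 := (hker _).mp h1
        simp only [Subgroup.coe_mul, Subgroup.coe_inv] at h2
        have h3 : y * (w : G) * y⁻¹ * (w : G)⁻¹ ∈ E :=
          mul_mem ((Subgroup.mem_normalizer_iff.mp hyE _).mp hw) (inv_mem hw)
        have h4 := hfpf w hw (mul_inv_eq_one.mp (hEZ _ h3 h2))
        rw [show w = 1 from Subtype.ext h4, map_one])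
    intro e he x hx
    have h1 := key (π ⟨e, hEN he⟩) ⟨_, he, rfl⟩ (π ⟨x, hXN hx⟩) ⟨_, hx, rfl⟩
    have h2 : π (⟨e, hEN he⟩ * ⟨x, hXN hx⟩ * ⟨e, hEN he⟩⁻¹ * ⟨x, hXN hx⟩⁻¹) = 1 := by
      rw [map_mul, map_mul, map_mul, h1, map_inv, map_inv, mul_inv_cancel_right, mul_inv_cancel]
    have h3 := (hker _).mp h2
    simp only [Subgroup.coe_mul, Subgroup.coe_inv] at h3
    -- a coprime element moving `x` by a fixed element
    set c := e * x * e⁻¹ * x⁻¹ with hc
    have hcx : e * x * e⁻¹ = c * x := by rw [hc]; group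
    have hce : e * c * e⁻¹ = c := by rw [hZc e he c h3, mul_inv_cancel_right]
    have hpow : ∀ k : ℕ, e ^ k * x * (e ^ k)⁻¹ = c ^ k * x := by
      intro k
      induction k with
      | zero => simp
      | succ k ihk =>
        calc e ^ (k + 1) * x * (e ^ (k + 1))⁻¹ = e * (e ^ k * x * (e ^ k)⁻¹) * e⁻¹ := by
              rw [pow_succ']; group
          _ = (e * c * e⁻¹) ^ k * (e * x * e⁻¹) := by rw [ihk, conj_pow]; group
          _ = c ^ (k + 1) * x := by rw [hce, pow_succ, hc]; group
    have h4 := hpow (Nat.card E)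
    rw [show e ^ Nat.card E = 1 from orderOf_dvd_iff_pow_eq_one.mp (E.orderOf_dvd_natCard he), one_mul, inv_one,
      mul_one] at h4
    have h5 : c = 1 := orderOf_eq_one_iff.mp (Nat.eq_one_of_dvd_coprimes hcop
      (orderOf_dvd_of_pow_eq_one (right_eq_mul.mp h4)) (orderOf_dvd_of_pow_eq_one (h.pow_r hX (hZX h3))))
    rw [h5, one_mul, mul_inv_eq_iff_eq_mul] at hcx
    exact hcx

end CfsgLib.TwoR
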