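import Cfsg.Agent.Lib.CIT.Main
import Cfsg.Agent.Lib.CITQuot.Socle
import Cfsg.Agent.Lib.EppoAlmost.FourPrimes
import Cfsg.Agent.Lib.EppoAlmost.SevenOrders
import Cfsg.Agent.Lib.CITUse.Eppo
import Cfsg.Agent.Lib.PSL2.ClassProduct
import Cfsg.Agent.Lib.SuzukiUnique.CIT
import Cfsg.Agent.Lib.Suzuki.Partition
import Cfsg.Agent.Lib.Suzuki.Semisimple
import Cfsg.Agent.Lib.Suzuki.Lie
import Cfsg.Agent.S2476
import Cfsg.Agent.S0820

/-!
Non-solvable groups in which involution centralisers are two-groups and no element has order eight.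
-/

set_option autoImplicit false
set_option linter.unusedSectionVars false
set_option linter.style.haveILetI false

namespace CfsgLib.TwoR

open Subgroup

universe u v

/-- With no fixed points of elements of odd order, an element of order four whose square inverts an element of odd
order has a free orbit. -/
theorem exists_free {Q : Type u} [Group Q] {A : Type v} [AddCommGroup A] [Nontrivial A] (M : CIT.FpfMod Q A)
    {y k : Q} (hk1 : k ≠ 1) (hodd : Odd (orderOf k)) (hinv : y * y * k * (y * y)⁻¹ = k⁻¹)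
    (hcomm : Commute k (y * k * y⁻¹)) :
    ∃ a : A, a + M.ρ y a + M.ρ (y * y) a + M.ρ (y * y * y) a ≠ 0 := by
  by_contra h
  push Not at h
  have h2 : ∀ a : A, a + a = 0 := M.two
  set t := y * y with ht
  set k' := y * k * y⁻¹ with hk'
  have hkk : k * k ≠ 1 := fun e => by
    have h1 : orderOf k ∣ 2 := orderOf_dvd_of_pow_eq_one (by rw [pow_two, e])
    rcases (Nat.dvd_prime Nat.prime_two).mp h1 with h | h
    · exact hk1 (orderOf_eq_one_iff.mp h)
    · rw [h] at hodd; exact absurd hodd (by decide)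
  have hone : ∀ q : Q, Odd (orderOf q) → ∀ a : A, a ≠ 0 → M.ρ q a = a → q = 1 := fun q hq a ha e =>
    by_contra fun hq1 => ha (M.fpf q hq1 hq a e)
  -- some vector is moved by `t`
  obtain ⟨a, ha⟩ : ∃ a : A, M.ρ t a + a ≠ 0 := by
    by_contra h'
    push Not at h'
    have hfix : ∀ a : A, M.ρ t a = a := fun a => by
      rw [eq_neg_of_add_eq_zero_left (h' a), M.neg_eq]
    obtain ⟨a, ha⟩ := exists_ne (0 : A)
    refine ha (M.fpf (k * k) hkk (hodd.of_dvd_nat (by rw [← pow_two]; exact orderOf_pow_dvd 2)) a ?_)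
    have hti : M.ρ t⁻¹ a = a := by
      conv_lhs => rw [← hfix a]
      exact M.apply_inv_self t a
    have h1 : M.ρ k⁻¹ a = M.ρ k a := by
      rw [← hinv, M.apply_mul, M.apply_mul, hfix, hti]
    rw [M.apply_mul, ← h1, ← M.apply_mul, mul_inv_cancel, M.apply_one]
  -- vectors of the form `x + t x` are fixed by `y`
  have hB : ∀ x : A, M.ρ y (x + M.ρ t x) = x + M.ρ t x := fun x => by
    have h3 : x + M.ρ t x + M.ρ y (x + M.ρ t x) = 0 := by
      rw [map_add, ← M.apply_mul y t, show y * t = t * y by rw [ht]; group]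
      calc x + M.ρ t x + (M.ρ y x + M.ρ (t * y) x) = x + M.ρ y x + M.ρ t x + M.ρ (t * y) x := by abel
        _ = 0 := h x
    rw [eq_neg_of_add_eq_zero_right h3, M.neg_eq]
  obtain ⟨b, hb0, hyb⟩ : ∃ b : A, b ≠ 0 ∧ M.ρ y b = b :=
    ⟨a + M.ρ t a, fun e => ha (by rwa [add_comm]), hB a⟩
  have htb : M.ρ t b = b := by rw [ht, M.apply_mul, hyb, hyb]
  have htk : M.ρ t (M.ρ k b) = M.ρ k⁻¹ b := by
    rw [← hinv, M.apply_mul (t * k), ← M.apply_mul t k]
    congr 1
    conv_rhs => rw [← htb, M.apply_inv_self]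
  have hyk : M.ρ y (M.ρ k b) = M.ρ k' b := by
    rw [hk', M.apply_mul (y * k), ← M.apply_mul y k]
    congr 1
    conv_rhs => rw [← hyb, M.apply_inv_self]
  have hyk' : M.ρ y (M.ρ k⁻¹ b) = M.ρ k'⁻¹ b := by
    rw [hk', show (y * k * y⁻¹)⁻¹ = y * k⁻¹ * y⁻¹ by group, M.apply_mul (y * k⁻¹), ← M.apply_mul y k⁻¹]
    congr 1
    conv_rhs => rw [← hyb, M.apply_inv_self]
  have hX := hB (M.ρ k b)
  rw [htk, map_add, hyk, hyk'] at hX
  -- apply `k k'`
  have hX' := congrArg (M.ρ (k * k')) hX
  rw [map_add, map_add, ← M.apply_mul, ← M.apply_mul, ← M.apply_mul, ← M.apply_mul,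
    mul_inv_cancel_right, show k * k' * k⁻¹ = k' by rw [hcomm.eq, mul_inv_cancel_right],
    show k * k' * k = k * (k * k') by rw [mul_assoc, hcomm.eq]] at hX'
  set c := M.ρ (k * k') b + b with hc
  have hc' : M.ρ k' c = M.ρ k c := by
    rw [hc, map_add, map_add, ← M.apply_mul, ← M.apply_mul, show k' * (k * k') = k * k' * k' by
      rw [← mul_assoc, hcomm.eq]]
    have h4 : M.ρ (k * k' * k') b + M.ρ k b + (M.ρ (k * (k * k')) b + M.ρ k' b) = 0 := by
      rw [hX', h2]
    calc M.ρ (k * k' * k') b + M.ρ k' b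
        = M.ρ (k * (k * k')) b + M.ρ k b +
          (M.ρ (k * k' * k') b + M.ρ k b + (M.ρ (k * (k * k')) b + M.ρ k' b)) := by
          have e1 := h2 (M.ρ (k * (k * k')) b)
          have e2 := h2 (M.ρ k b)
          calc M.ρ (k * k' * k') b + M.ρ k' b
              = M.ρ (k * k' * k') b + M.ρ k' b + (M.ρ (k * (k * k')) b + M.ρ (k * (k * k')) b)
                + (M.ρ k b + M.ρ k b) := by rw [e1, e2, add_zero, add_zero]
            _ = _ := by abel
      _ = _ := by rw [h4, add_zero]
  have hodd' : Odd (orderOf k') := by rw [hk', Involutions.orderOf_conj]; exact hodd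
  have hprododd : ∀ p q : Q, Commute p q → Odd (orderOf p) → Odd (orderOf q) → Odd (orderOf (p * q)) :=
    fun p q hpq hp hq => (hp.mul hq).of_dvd_nat hpq.orderOf_mul_dvd_mul_orderOf
  by_cases hc0 : c = 0
  · have e : M.ρ (k * k') b = b := by rw [eq_neg_of_add_eq_zero_left hc0, M.neg_eq]
    have e' := hone _ (hprododd _ _ hcomm hodd hodd') b hb0 e
    have h5 : k' = k⁻¹ := eq_inv_of_mul_eq_one_right e'
    have h6 : y * k' * y⁻¹ = k⁻¹ := by rw [hk', ← hinv, ht]; group
    rw [h5, show y * k⁻¹ * y⁻¹ = k'⁻¹ by rw [hk']; group, h5, inv_inv] at h6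
    exact hkk (mul_eq_one_iff_eq_inv.mpr h6)
  · have e : M.ρ (k⁻¹ * k') c = c := by rw [M.apply_mul, hc', M.apply_inv_self]
    have e' := hone _ (hprododd _ _ hcomm.inv_left (by rwa [orderOf_inv]) hodd') c hc0 e
    have h5 : k' = k := (inv_mul_eq_one.mp e').symm
    have h6 : y * k' * y⁻¹ = k⁻¹ := by rw [hk', ← hinv, ht]; group
    rw [h5, ← hk', h5] at h6
    exact hkk (mul_eq_one_iff_eq_inv.mpr h6)

variable {G : Type u} [Group G] [Finite G]

/-- An element of even order is a two-element. -/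
theorem two_power_of_even (hC : CIT.IsCIT G) {g : G} (hg : 2 ∣ orderOf g) : ∃ j : ℕ, orderOf g = 2 ^ j := by
  have h1 : orderOf (g ^ (orderOf g / 2)) = 2 := orderOf_pow_orderOf_div (orderOf_pos g).ne' hg
  haveI : Fact (Nat.Prime 2) := ⟨Nat.prime_two⟩
  obtain ⟨j, hj⟩ := IsPGroup.iff_orderOf.mp (hC _ h1)
    ⟨g, mem_centralizer_singleton_iff.mpr ((Commute.refl g).pow_right _).eq⟩
  exact ⟨j, by rwa [← Subgroup.orderOf_coe] at hj⟩

/-- Without elements of order eight, two-elements have fourth power one. -/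
theorem pow_four (h8 : ∀ g : G, orderOf g ≠ 8) {g : G} {j : ℕ} (hj : orderOf g = 2 ^ j) : g ^ 4 = 1 := by
  by_contra h
  have hj3 : 3 ≤ j := by
    by_contra hlt
    refine h (orderOf_dvd_iff_pow_eq_one.mp ?_)
    rw [hj, show 4 = 2 ^ 2 by norm_num]
    exact pow_dvd_pow 2 (by omega)
  refine h8 (g ^ 2 ^ (j - 3)) ?_
  rw [orderOf_pow' _ (by positivity), hj, Nat.gcd_eq_right (pow_dvd_pow 2 (by omega)),
    Nat.pow_div (by omega) (by norm_num), show j - (j - 3) = 3 by omega]

theorem qt_no_eight (h8 : ∀ g : G, orderOf g ≠ 8) : ∀ q : CIT.Qt G, orderOf q ≠ 8 := by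
  intro q hq
  obtain ⟨g, rfl⟩ := QuotientGroup.mk'_surjective (Cfsg.pCore 2 G) q
  have hd : 8 ∣ orderOf g := hq ▸ orderOf_map_dvd _ g
  exact h8 _ (orderOf_pow_orderOf_div (orderOf_pos g).ne' hd)

/-- A free orbit in the core gives an element of order eight. -/
theorem false_of_free (hC : CIT.IsCIT G) (h8 : ∀ g : G, orderOf g ≠ 8) {y : CIT.Qt G} (hy : orderOf y = 4)
    {a : Additive (CIT.Vc G)}
    (ha : a + (CIT.qMod hC).ρ y a + (CIT.qMod hC).ρ (y * y) a + (CIT.qMod hC).ρ (y * y * y) a ≠ 0) : False := by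
  obtain ⟨g, rfl⟩ := QuotientGroup.mk'_surjective (Cfsg.pCore 2 G) y
  set v : G := ((a.toMul : CIT.Vc G) : G) with hv
  have hvk : CIT.qk v = 1 := CIT.qk_eq_one.mpr a.toMul.2.1
  have key : ∀ h : G, CIT.qk h = CIT.qk g → h ^ 4 = 1 := by
    intro h he
    have hd : 4 ∣ orderOf h := by
      rw [← hy]
      show orderOf (CIT.qk g) ∣ _
      rw [← he]
      exact orderOf_map_dvd _ h
    obtain ⟨j, hj⟩ := two_power_of_even hC ((by norm_num : 2 ∣ 4).trans hd)
    exact pow_four h8 hj
  have h1 := key g rfl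
  have h2 := key (v * g) (by rw [map_mul, hvk, one_mul])
  have e : (v * g) ^ 4 =
      v * (g * v * g⁻¹) * (g * g * v * (g * g)⁻¹) * (g * g * g * v * (g * g * g)⁻¹) * g ^ 4 := by
    simp only [pow_succ, pow_zero, one_mul]
    group
  rw [h1, mul_one, h2] at e
  refine ha (Additive.toMul.injective (Subtype.ext ?_))
  exact e.symm

/-- A normaliser of a self-centralising cyclic subgroup of odd order with index four has an element of order four
whose square inverts. -/
theorem exists_four_normalising {S : Type v} [Group S] [Finite S] (A : Subgroup S) [IsCyclic A]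
    (hodd : Odd (Nat.card A)) (h1 : 1 < Nat.card A)
    (hself : ∀ u ∈ A, u ≠ 1 → centralizer ({u} : Set S) = A)
    (hN : Nat.card (normalizer (A : Set S)) = 4 * Nat.card A) :
    ∃ y k : S, orderOf y = 4 ∧ k ≠ 1 ∧ Odd (orderOf k) ∧ y * y * k * (y * y)⁻¹ = k⁻¹ ∧
      Commute k (y * k * y⁻¹) := by
  haveI : Fact (Nat.Prime 2) := ⟨Nat.prime_two⟩
  have hoddA : ∀ a ∈ A, Odd (orderOf a) := fun a ha => hodd.of_dvd_nat (A.orderOf_dvd_natCard ha)
  have hinv : ∀ i ∈ normalizer (A : Set S), orderOf i = 2 → ∀ a ∈ A, i * a * i⁻¹ = a⁻¹ := by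
    intro i hi hio a ha
    set φ := A.normalizerMonoidHom ⟨i, hi⟩ with hφ
    have hfpf : MonoidHom.FixedPointFree (φ : A → A) := fun x hx => by
      by_contra hx1
      have e : i * (x : S) * i⁻¹ = x := congrArg Subtype.val hx
      have : i ∈ centralizer ({(x : S)} : Set S) :=
        mem_centralizer_singleton_iff.mpr (mul_inv_eq_iff_eq_mul.mp e)
      rw [hself x x.2 fun e' => hx1 (Subtype.ext e')] at this
      have := hoddA i this
      rw [hio] at this
      exact absurd this (by decide)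
    have hinvol : Function.Involutive (φ : A → A) := fun x => by
      apply Subtype.ext
      show i * (i * (x : S) * i⁻¹) * i⁻¹ = x
      rw [show i * (i * (x : S) * i⁻¹) * i⁻¹ = i * i * x * (i * i)⁻¹ by group,
        Involutions.mul_self_eq_one_of_orderOf hio]
      group
    exact congrArg Subtype.val (congrFun (MonoidHom.FixedPointFree.coe_eq_inv_of_involutive hfpf hinvol) ⟨a, ha⟩)
  set N := normalizer (A : Set S)
  obtain ⟨R, hR⟩ := Sylow.exists_subgroup_card_pow_prime (G := N) 2 (n := 2) (by rw [hN]; exact dvd_mul_right 4 _)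
  have hRo : ∀ r : R, orderOf (((r : N)) : S) ∣ 4 := fun r => by
    rw [Subgroup.orderOf_coe, Subgroup.orderOf_coe]
    exact (orderOf_dvd_natCard r).trans (dvd_of_eq hR)
  obtain ⟨k, hk⟩ := IsCyclic.exists_ofOrder_eq_natCard (α := A)
  have hk1 : (k : S) ≠ 1 := fun e => by
    rw [← Subgroup.orderOf_coe, e, orderOf_one] at hk
    omega
  obtain ⟨r, hr⟩ : ∃ r : R, orderOf (((r : N)) : S) = 4 := by
    by_contra h
    push Not at h
    have hinv2 : ∀ r : R, r ≠ 1 → orderOf (((r : N)) : S) = 2 := fun r hr => by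
      obtain ⟨j, hj, he⟩ := (Nat.dvd_prime_pow Nat.prime_two).mp (show orderOf (((r : N)) : S) ∣ 2 ^ 2 from hRo r)
      interval_cases j
      · exfalso
        rw [pow_zero, orderOf_eq_one_iff] at he
        exact hr (Subtype.ext (Subtype.ext he))
      · simpa using he
      · exact absurd (by simpa using he) (h r)
    haveI : Fintype R := Fintype.ofFinite R
    have h2 : 2 < Fintype.card R := by rw [← Nat.card_eq_fintype_card, hR]; norm_num
    obtain ⟨a, b, c, hab, hac, hbc⟩ := Fintype.two_lt_card_iff.mp h2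
    obtain ⟨p, q, hp, hq, hpq⟩ : ∃ p q : R, p ≠ 1 ∧ q ≠ 1 ∧ p ≠ q := by
      by_cases ha : a = 1
      · subst ha; exact ⟨b, c, hab.symm, hac.symm, hbc⟩
      by_cases hb : b = 1
      · subst hb; exact ⟨a, c, ha, hbc.symm, hac⟩
      exact ⟨a, b, ha, hb, hab⟩
    have hp' := hinv _ (p : N).2 (hinv2 p hp) k k.2
    have hq' := hinv _ (q : N).2 (hinv2 q hq) k k.2
    have hne : p⁻¹ * q ≠ 1 := fun e => hpq (inv_mul_eq_one.mp e)
    have h3 : (((p⁻¹ * q : R) : N) : S) * k * ((((p⁻¹ * q : R) : N)) : S)⁻¹ = k := by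
      simp only [Subgroup.coe_mul, Subgroup.coe_inv]
      calc ((p : N) : S)⁻¹ * ((q : N) : S) * k * (((p : N) : S)⁻¹ * ((q : N) : S))⁻¹
          = ((p : N) : S)⁻¹ * (((q : N) : S) * k * ((q : N) : S)⁻¹) * ((p : N) : S) := by group
        _ = ((p : N) : S)⁻¹ * (k : S)⁻¹ * ((p : N) : S) := by rw [hq']
        _ = ((p : N) : S)⁻¹ * (((p : N) : S) * k * ((p : N) : S)⁻¹) * ((p : N) : S) := by rw [hp']
        _ = k := by group
    have h4 := mem_centralizer_singleton_iff.mpr (mul_inv_eq_iff_eq_mul.mp h3)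
    rw [hself k k.2 hk1] at h4
    have := hoddA _ h4
    rw [hinv2 _ hne] at this
    exact absurd this (by decide)
  set y : S := ((r : N) : S) with hy
  have hyN : y ∈ N := (r : N).2
  have hy2 : orderOf (y * y) = 2 := by
    rw [← pow_two, orderOf_pow' _ two_ne_zero, hr]
    norm_num
  refine ⟨y, k, hr, hk1, hoddA _ k.2, hinv _ (mul_mem hyN hyN) hy2 k k.2, ?_⟩
  letI := IsCyclic.commGroup (α := A)
  exact congrArg Subtype.val (mul_comm k ⟨y * k * y⁻¹, (Subgroup.mem_normalizer_iff.mp hyN k).mp k.2⟩)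

/-- A Suzuki quotient forces the core to be trivial. -/
theorem core_bot_of_suzuki (hC : CIT.IsCIT G) (h8 : ∀ g : G, orderOf g ≠ 8) {F : Type} [Field F] [Fintype F] {m : ℕ}
    (hm : 1 ≤ m) (hF : Fintype.card F = 2 ^ (2 * m + 1)) (e : CIT.Qt G ≃* ↥(Cfsg.Lie.Sz F (2 ^ (m + 1)))) :
    Cfsg.pCore 2 G = ⊥ := by
  by_contra hD
  haveI := CIT.qMod_nontrivial hD
  obtain ⟨Ap, -, iAp, cAp, hself, hN, -⟩ := Suzuki.classify hF hm
  obtain ⟨-, h5, h2, -⟩ := Suzuki.torusOrder_props hF hm (Or.inr (Or.inl rfl))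
  rw [← cAp] at h5 h2 hN
  obtain ⟨y, k, hy, hk1, hko, hinv, hcomm⟩ :=
    exists_four_normalising Ap (Nat.odd_iff.mpr (by omega)) (by omega) hself hN
  let f : ↥(Cfsg.Sz F m) ≃* CIT.Qt G := (Suzuki.lieEquiv hF hm).trans e.symm
  obtain ⟨a, ha⟩ := exists_free (CIT.qMod hC) (y := f y) (k := f k) (fun h => hk1 (by simpa using h))
    (by rwa [MulEquiv.orderOf_eq]) (by rw [← map_mul, ← map_mul, ← map_inv, ← map_mul, hinv, map_inv])
    (by rw [← map_mul, ← map_inv, ← map_mul]; exact hcomm.map f)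
  exact false_of_free hC h8 (by rw [MulEquiv.orderOf_eq, hy]) ha

/-- Involutions of `PSL₂` in odd characteristic are conjugate. -/
theorem psl_isConj {F : Type} [Field F] [Fintype F] (h2 : (2 : F) ≠ 0)
    {s t : Matrix.ProjectiveSpecialLinearGroup (Fin 2) F} (hs : orderOf s = 2) (ht : orderOf t = 2) : IsConj s t := by
  have tr : ∀ (g : Matrix.SpecialLinearGroup (Fin 2) F), orderOf (PSL2.mk g) = 2 → g.1.trace = 0 := by
    intro g hg
    have h1 : PSL2.mk (g * g) = PSL2.mk 1 := by
      have := pow_orderOf_eq_one (PSL2.mk g)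
      rw [hg, pow_two] at this
      rw [map_mul, map_one]
      exact this
    have hne : PSL2.mk g ≠ PSL2.mk 1 := fun e => by rw [e, map_one, orderOf_one] at hg; omega
    have hd : g.1 0 0 * g.1 1 1 - g.1 0 1 * g.1 1 0 = 1 := by rw [← Matrix.det_fin_two]; exact g.2
    rw [Matrix.trace_fin_two]
    by_contra h0
    rw [PSL2.mk_eq_mk] at h1
    rw [ne_eq, PSL2.mk_eq_mk] at hne
    rw [Matrix.SpecialLinearGroup.coe_mul, Matrix.SpecialLinearGroup.coe_one] at h1
    rw [Matrix.SpecialLinearGroup.coe_one] at hne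
    simp only [← Matrix.ext_iff, Fin.forall_fin_two, Matrix.mul_apply, Fin.sum_univ_two, Matrix.one_apply,
      Matrix.neg_apply] at h1 hne
    norm_num at h1 hne
    rcases h1 with ⟨⟨h00, h01⟩, h10, h11⟩ | ⟨⟨h00, h01⟩, h10, h11⟩
    · have e01 : g.1 0 1 = 0 := (mul_eq_zero.mp (show g.1 0 1 * (g.1 0 0 + g.1 1 1) = 0 by linear_combination -h01)).resolve_right h0
      have e10 : g.1 1 0 = 0 := (mul_eq_zero.mp (show g.1 1 0 * (g.1 0 0 + g.1 1 1) = 0 by linear_combination -h10)).resolve_right h0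
      have e11 : g.1 1 1 = g.1 0 0 := by
        have := mul_eq_zero.mp (show (g.1 0 0 - g.1 1 1) * (g.1 0 0 + g.1 1 1) = 0 by linear_combination h11 - h00)
        exact (sub_eq_zero.mp (this.resolve_right h0)).symm
      rcases mul_eq_zero.mp (show (g.1 0 0 - 1) * (g.1 0 0 + 1) = 0 by
        rw [e01, e10] at h00; linear_combination -h00) with h | h
      · exact hne.1 (sub_eq_zero.mp h).symm e01.symm e10.symm (e11.trans (sub_eq_zero.mp h)).symm
      · exact hne.2 (by rw [eq_neg_of_add_eq_zero_left h, neg_neg]) e01 e10 (by rw [e11, eq_neg_of_add_eq_zero_left h, neg_neg])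
    · apply h0
      have h' : (g.1 0 0 + g.1 1 1) * (g.1 0 0 + g.1 1 1) = 0 := by linear_combination h00 + h11 + 2 * hd
      exact mul_self_eq_zero.mp h'
  obtain ⟨a, rfl⟩ := QuotientGroup.mk'_surjective _ s
  obtain ⟨b, rfl⟩ := QuotientGroup.mk'_surjective _ t
  have ha := tr a hs
  have hb := tr b ht
  refine MonoidHom.map_isConj _ (PSL2Product.isConj_of_trace ?_ (hb.trans ha.symm))
  rw [ha, zero_pow two_ne_zero]
  intro e
  exact mul_ne_zero h2 h2 (by rw [e]; norm_num)

/-- With one class of involutions in the socle the quotient is a two-group. -/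
theorem quotient_two_group (hC : CIT.IsCIT G) (N : Subgroup G) [N.Normal] (h2 : 2 ∣ Nat.card N)
    (hone : ∀ s t : N, orderOf s = 2 → orderOf t = 2 → IsConj s t) : ∃ j : ℕ, N.index = 2 ^ j := by
  haveI : Fact (Nat.Prime 2) := ⟨Nat.prime_two⟩
  obtain ⟨t, ht⟩ := exists_prime_orderOf_dvd_card' (G := N) 2 h2
  have htG : orderOf (t : G) = 2 := by rw [Subgroup.orderOf_coe, ht]
  set π := (QuotientGroup.mk' N).comp (centralizer ({(t : G)} : Set G)).subtype
  have hπ : Function.Surjective π := by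
    intro q
    obtain ⟨g, rfl⟩ := QuotientGroup.mk'_surjective N q
    obtain ⟨c, hc⟩ := isConj_iff.mp (hone t (MulAut.conjNormal g t) ht (by rw [MulEquiv.orderOf_eq, ht]))
    have h := congrArg Subtype.val hc
    simp only [Subgroup.coe_mul, Subgroup.coe_inv, MulAut.conjNormal_apply] at h
    refine ⟨⟨(c : G)⁻¹ * g, mem_centralizer_singleton_iff.mpr ?_⟩, ?_⟩
    · calc (c : G)⁻¹ * g * t = (c : G)⁻¹ * (g * t * g⁻¹) * g := by group
        _ = t * ((c : G)⁻¹ * g) := by rw [← h]; group
    · show QuotientGroup.mk' N ((c : G)⁻¹ * g) = QuotientGroup.mk' N g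
      rw [map_mul, QuotientGroup.mk'_apply, (QuotientGroup.eq_one_iff _).mpr (inv_mem c.2), one_mul]
  obtain ⟨j, hj⟩ := IsPGroup.iff_card.mp ((hC _ htG).of_surjective π hπ)
  exact ⟨j, by rw [Subgroup.index_eq_card, hj]⟩

/-- The element orders are prime powers if those of a normal subgroup with two-group quotient are. -/
theorem epo_of_normal (hC : CIT.IsCIT G) (N : Subgroup G) [N.Normal] {j : ℕ} (hj : N.index = 2 ^ j)
    (hN : ∀ x : N, x ≠ 1 → IsPrimePow (orderOf x)) : EppoAlmost.Epo G := by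
  intro g hg
  rcases Nat.even_or_odd (orderOf g) with he | ho
  · obtain ⟨i, hi⟩ := two_power_of_even hC he.two_dvd
    refine (isPrimePow_nat_iff _).mpr ⟨2, i, Nat.prime_two, Nat.pos_of_ne_zero fun h0 => hg ?_, hi.symm⟩
    rw [h0, pow_zero] at hi
    exact orderOf_eq_one_iff.mp hi
  · have h1 : QuotientGroup.mk' N g = 1 := by
      rw [← orderOf_eq_one_iff]
      refine Nat.eq_one_of_dvd_coprimes ((Nat.coprime_two_left.mpr ho).pow_left j)
        (hj ▸ ?_) (orderOf_map_dvd _ g)
      rw [Subgroup.index_eq_card]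
      exact orderOf_dvd_natCard _
    have hm : g ∈ N := (QuotientGroup.eq_one_iff g).mp h1
    have := hN ⟨g, hm⟩ fun e => hg (congrArg Subtype.val e)
    rwa [← Subgroup.orderOf_coe] at this

/-- A group of order sixteen and exponent four has no self-centralising four-group. -/
theorem no_self_centralising {R : Type v} [Group R] [Finite R] (hR : Nat.card R = 16) (h4 : ∀ g : R, g ^ 4 = 1)
    (C : Subgroup R) (hC : Nat.card C = 4) (hsq : ∀ c ∈ C, c * c = 1) (hself : centralizer (C : Set R) ≤ C) :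
    False := by
  classical
  haveI : Fact (Nat.Prime 2) := ⟨Nat.prime_two⟩
  have hRp : IsPGroup 2 R := IsPGroup.of_card (n := 4) (by rw [hR]; norm_num)
  haveI : Nontrivial R := Finite.one_lt_card_iff_nontrivial.mp (by omega)
  haveI := hRp.center_nontrivial
  obtain ⟨z, hzc, hzo⟩ := CIT.exists_orderOf_two_mem (hRp.to_subgroup (center R))
    ((Subgroup.nontrivial_iff_ne_bot _).mp inferInstance)
  have hzcom : ∀ g : R, g * z = z * g := fun g => mem_center_iff.mp hzc g
  have hzC : z ∈ C := hself fun c _ => hzcom c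
  have hz1 : z ≠ 1 := fun e => by rw [e, orderOf_one] at hzo; omega
  haveI : Fintype C := Fintype.ofFinite C
  obtain ⟨w, hwC, hw1, hwz⟩ : ∃ w ∈ C, w ≠ 1 ∧ w ≠ z := by
    by_contra h
    push Not at h
    have hle : Fintype.card C ≤ ({1, ⟨z, hzC⟩} : Finset C).card :=
      Finset.card_le_card (s := Finset.univ) fun c _ => by
        by_cases hc : (c : R) = 1
        · simp [Subtype.ext_iff, hc]
        · simp [Subtype.ext_iff, h c c.2 hc]
    have := hle.trans Finset.card_le_two
    rw [← Nat.card_eq_fintype_card, hC] at this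
    omega
  have hmem : ∀ c ∈ C, c = 1 ∨ c = z ∨ c = w ∨ c = z * w := by
    intro c hc
    have h1 : z * w ≠ 1 := fun e => hwz (by
      calc w = z * z * w := by rw [hsq z hzC, one_mul]
        _ = z := by rw [mul_assoc, e, mul_one])
    let V : Finset C := {1, ⟨z, hzC⟩, ⟨w, hwC⟩, ⟨z * w, mul_mem hzC hwC⟩}
    have hV : V.card = 4 := by
      simp only [V]
      rw [Finset.card_insert_of_notMem, Finset.card_insert_of_notMem, Finset.card_insert_of_notMem,
        Finset.card_singleton] <;>
        simp [Subtype.ext_iff, hz1.symm, hw1.symm, hwz.symm, h1.symm, hz1, hw1]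
    have h2 : (⟨c, hc⟩ : C) ∈ V := by
      rw [Finset.eq_univ_of_card V (by rw [hV, ← Nat.card_eq_fintype_card, hC])]
      exact Finset.mem_univ _
    simpa [V, Subtype.ext_iff] using h2
  have hcentw : ∀ g : R, g * w = w * g → g ∈ C := fun g hg => hself fun c hc => by
    rcases hmem c hc with rfl | rfl | rfl | rfl
    · simp
    · exact (hzcom g).symm
    · exact hg.symm
    · rw [mul_assoc z w g, ← hg, ← mul_assoc, ← hzcom g, mul_assoc]
  obtain ⟨y, hy⟩ : ∃ y : R, y * w * y⁻¹ ∉ C := by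
    by_contra h
    push Not at h
    have hval : ∀ g : R, g * w * g⁻¹ = w ∨ g * w * g⁻¹ = z * w := by
      intro g
      rcases hmem _ (h g) with e | e | e | e
      · exact absurd (conj_eq_one_iff.mp e) hw1
      · exfalso
        apply hwz
        calc w = g⁻¹ * (g * w * g⁻¹) * g := by group
          _ = z := by rw [e, mul_assoc, ← hzcom g, inv_mul_cancel_left]
      · exact Or.inl e
      · exact Or.inr e
    obtain ⟨g₀, hg₀⟩ | hall : (∃ g₀ : R, g₀ * w * g₀⁻¹ = z * w) ∨ ∀ g : R, g * w * g⁻¹ = w := by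
      by_cases hh : ∀ g : R, g * w * g⁻¹ = w
      · exact Or.inr hh
      · push Not at hh
        obtain ⟨g, hg⟩ := hh
        exact Or.inl ⟨g, (hval g).resolve_left hg⟩
    · let f : (↥C ⊕ ↥C) → R := Sum.elim (fun c : C => (c : R)) (fun c : C => g₀ * (c : R))
      have hf : Function.Surjective f := by
        intro g
        rcases hval g with e | e
        · exact ⟨Sum.inl ⟨g, hcentw g (mul_inv_eq_iff_eq_mul.mp e)⟩, rfl⟩
        · refine ⟨Sum.inr ⟨g₀⁻¹ * g, hcentw _ ?_⟩, mul_inv_cancel_left g₀ g⟩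
          calc g₀⁻¹ * g * w = g₀⁻¹ * (g * w * g⁻¹) * g := by group
            _ = g₀⁻¹ * (g₀ * w * g₀⁻¹) * g := by rw [e, hg₀]
            _ = w * (g₀⁻¹ * g) := by group
      have := Nat.card_le_card_of_surjective f hf
      rw [Nat.card_sum, hR, hC] at this
      omega
    · have : Nat.card R ≤ Nat.card C := Nat.card_le_card_of_injective
        (fun g => (⟨g, hcentw g (mul_inv_eq_iff_eq_mul.mp (hall g))⟩ : C)) fun a b e => congrArg Subtype.val e
      omega
  obtain ⟨M, hM, hCM⟩ := Sylow.exists_subgroup_card_pow_succ (G := R) (p := 2) (n := 2)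
    (by rw [hR]; norm_num) (H := C) (by rw [hC]; norm_num)
  have hMidx : M.index = 2 := by
    have := M.card_mul_index
    rw [hM, hR] at this
    omega
  have hCidx : (C.subgroupOf M).index = 2 := by
    have h1 := (C.subgroupOf M).card_mul_index
    rw [Nat.card_congr (Subgroup.subgroupOfEquivOfLe hCM).toEquiv, hC, hM] at h1
    omega
  have hnorm : ∀ m ∈ M, ∀ c ∈ C, m * c * m⁻¹ ∈ C := fun m hm c hc =>
    (Subgroup.normal_of_index_eq_two hCidx).conj_mem ⟨c, hCM hc⟩ hc ⟨m, hm⟩
  haveI := Subgroup.normal_of_index_eq_two hMidx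
  set v := y * w * y⁻¹ with hv
  have hvM : v ∈ M := (inferInstance : M.Normal).conj_mem w (hCM hwC) y
  have hyy : y * y ∈ M := Subgroup.mul_self_mem_of_index_two hMidx y
  have hww : w * w = 1 := hsq w hwC
  have hvv : v * v = 1 := by
    rw [hv, show y * w * y⁻¹ * (y * w * y⁻¹) = y * (w * w) * y⁻¹ by group, hww]; group
  -- the square of `y` is central in `M`
  have hy2 : y * y = 1 ∨ y * y = z := by
    have hcom : y * (y * y) * y⁻¹ = y * y := by group
    by_cases hin : y * y ∈ C
    · rcases hmem _ hin with e | e | e | e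
      · exact Or.inl e
      · exact Or.inr e
      · exfalso
        apply hy
        rw [hv, show y * w * y⁻¹ = w by rw [← e]; exact hcom]
        exact hwC
      · exfalso
        apply hy
        have e' : y * (z * w) * y⁻¹ = z * w := by rw [← e]; exact hcom
        have : z * v = z * w := by
          rw [← e', hv, ← mul_assoc y z w, hzcom y]; group
        rw [mul_left_cancel this]
        exact hwC
    · exfalso
      have hcv : y * y * v ∈ C := by
        have := (Subgroup.mul_mem_iff_of_index_two hCidx (a := ⟨y * y, hyy⟩) (b := ⟨v, hvM⟩)).mpr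
          ⟨fun h => absurd h hin, fun h => absurd h hy⟩
        simpa [Subgroup.mem_subgroupOf] using this
      have e : y * y = y * y * v * v := by rw [mul_assoc (y * y), hvv, mul_one]
      have hpow : y * y * (y * y) = 1 := by
        have := h4 y
        simpa [pow_succ, mul_assoc] using this
      rcases hmem _ hcv with e' | e' | e' | e' <;> rw [e'] at e
      · rw [one_mul] at e
        apply hin
        have h5 : y * (y * y) * y⁻¹ = v := by rw [hcom, e]
        rw [e] at h5 ⊢
        rw [hv] at h5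
        have : v = w := by
          have h6 := congrArg (fun q => y⁻¹ * q * y) h5
          rw [← hv] at h6
          calc v = y⁻¹ * (y * v * y⁻¹) * y := by group
            _ = y⁻¹ * (y * w * y⁻¹) * y := h6
            _ = w := by group
        rw [this]; exact hwC
      · -- `y² = z v`
        apply hin
        have h5 : y * (z * v) * y⁻¹ = z * v := by rw [← e]; exact hcom
        have h6 : y * v * y⁻¹ = v := by
          apply mul_left_cancel (a := z)
          calc z * (y * v * y⁻¹) = y * (z * v) * y⁻¹ := by rw [← mul_assoc y z v, hzcom y]; group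
            _ = _ := h5
        have : v = w := by
          calc v = y⁻¹ * (y * v * y⁻¹) * y := by group
            _ = w := by rw [h6, hv]; group
        exact absurd (this ▸ hwC) hy
      · -- `y² = w v` has order four
        apply hy
        apply hcentw
        rw [e] at hpow
        have h7 := inv_eq_of_mul_eq_one_right hpow
        rw [_root_.mul_inv_rev, inv_eq_of_mul_eq_one_right hvv, inv_eq_of_mul_eq_one_right hww] at h7
        exact h7
      · apply hy
        apply hcentw
        rw [e, show z * w * v * (z * w * v) = z * z * (w * v * (w * v)) by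
          rw [show z * w * v * (z * w * v) = z * ((w * v) * z) * (w * v) by group, hzcom (w * v)]; group,
          hsq z hzC, one_mul] at hpow
        have h7 := inv_eq_of_mul_eq_one_right hpow
        rw [_root_.mul_inv_rev, inv_eq_of_mul_eq_one_right hvv, inv_eq_of_mul_eq_one_right hww] at h7
        exact h7
  have hcy : ∀ g : R, y * y * g = g * (y * y) := fun g => by
    rcases hy2 with e | e <;> rw [e]
    · simp
    · exact (hzcom g).symm
  have hy4 : y * y * (y * y) = 1 := by
    rcases hy2 with e | e <;> rw [e]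
    · simp
    · exact hsq z hzC
  apply hy
  apply hcentw
  have h5 : (y * w) ^ 4 = v * (y * y) * w * (v * (y * y) * w) := by
    rw [hv]
    simp only [pow_succ, pow_zero, one_mul]
    group
  rw [h4, show v * (y * y) * w * (v * (y * y) * w) = v * ((y * y) * w) * (v * ((y * y) * w)) by group,
    hcy w, show v * (w * (y * y)) * (v * (w * (y * y))) = v * w * ((y * y) * (v * w)) * (y * y) by group,
    hcy (v * w), show v * w * (v * w * (y * y)) * (y * y) = v * w * (v * w) * (y * y * (y * y)) by group,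
    hy4, mul_one] at h5
  have h7 := inv_eq_of_mul_eq_one_right h5.symm
  rw [_root_.mul_inv_rev, inv_eq_of_mul_eq_one_right hvv, inv_eq_of_mul_eq_one_right hww] at h7
  exact h7.symm

/-- No extension of index two of the simple group of order 360. -/
theorem index_ne_two (hC : CIT.IsCIT G) (h8 : ∀ g : G, orderOf g ≠ 8) (N : Subgroup G) [N.Normal]
    (hcard : Nat.card N = 360) (e : N ≃* alternatingGroup (Fin 6)) : N.index ≠ 2 := by
  intro hidx
  haveI : Fact (Nat.Prime 2) := ⟨Nat.prime_two⟩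
  haveI : Fact (Nat.Prime 3) := ⟨Nat.prime_three⟩
  let s₀ : alternatingGroup (Fin 6) := ⟨Equiv.swap 0 1 * Equiv.swap 2 3, by
    rw [Equiv.Perm.mem_alternatingGroup]; decide⟩
  let x₀ : alternatingGroup (Fin 6) := ⟨Equiv.swap 0 1 * Equiv.swap 1 2, by
    rw [Equiv.Perm.mem_alternatingGroup]; decide⟩
  let u₀ := x₀ * s₀ * x₀⁻¹
  obtain ⟨e1, e2, e3, e4, e5, e6, e7⟩ : s₀ * s₀ = 1 ∧ s₀ ≠ 1 ∧ x₀ ^ 3 = 1 ∧ x₀ ≠ 1 ∧ s₀ * u₀ = u₀ * s₀ ∧
      x₀⁻¹ * s₀ * x₀ = s₀ * u₀ ∧ s₀ ≠ u₀ := by decide
  let f : alternatingGroup (Fin 6) →* G := N.subtype.comp e.symm.toMonoidHom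
  have hf : Function.Injective f := N.subtype_injective.comp e.symm.injective
  set s := f s₀ with hs
  set x := f x₀ with hx
  set u := f u₀ with hu
  have hxo : orderOf x = 3 := by
    rw [hx, orderOf_injective f hf]
    exact orderOf_eq_prime e3 e4
  have hss : s * s = 1 := by rw [hs, ← map_mul, e1, map_one]
  have hu' : u = x * s * x⁻¹ := by rw [hu, hx, hs, ← map_inv, ← map_mul, ← map_mul]
  have hsxu : x⁻¹ * s * x = s * u := by rw [hu, hx, hs, ← map_inv, ← map_mul, ← map_mul, ← map_mul, e6]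
  have hsu : s * u = u * s := by rw [hu, hs, ← map_mul, ← map_mul, e5]
  have huu : u * u = 1 := by
    rw [hu', show x * s * x⁻¹ * (x * s * x⁻¹) = x * (s * s) * x⁻¹ by group, hss]
    group
  have hs1 : s ≠ 1 := fun h => e2 (hf (by rw [← hs, h, map_one]))
  have hu1 : u ≠ 1 := fun h => hs1 (conj_eq_one_iff.mp (hu'.symm.trans h))
  have hsu1 : s ≠ u := fun h => e7 (hf h)
  set C := centralizer ({s, u} : Set G) with hCdef
  have hmemC : ∀ g : G, g ∈ C ↔ g * s = s * g ∧ g * u = u * g := by
    intro g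
    rw [hCdef, Subgroup.mem_centralizer_iff]
    constructor
    · intro h; exact ⟨(h s (by simp)).symm, (h u (by simp)).symm⟩
    · rintro ⟨h1, h2⟩ v hv
      simp only [Set.mem_insert_iff, Set.mem_singleton_iff] at hv
      rcases hv with rfl | rfl
      · exact h1.symm
      · exact h2.symm
  have hso : orderOf s = 2 := orderOf_eq_prime (by rw [pow_two, hss]) hs1
  have hC2 : IsPGroup 2 C := (hC s hso).to_le fun g hg =>
    mem_centralizer_singleton_iff.mpr ((hmemC g).mp hg).1
  have hsC : s ∈ C := (hmemC s).mpr ⟨rfl, hsu⟩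
  have huC : u ∈ C := (hmemC u).mpr ⟨hsu.symm, rfl⟩
  have hxC : x ∈ normalizer (C : Set G) := by
    refine Subgroup.mem_normalizer_fintype fun g hg => ?_
    obtain ⟨h1, h2⟩ := (hmemC g).mp hg
    refine (hmemC _).mpr ⟨?_, ?_⟩
    · calc x * g * x⁻¹ * s = x * (g * (x⁻¹ * s * x)) * x⁻¹ := by group
        _ = x * ((x⁻¹ * s * x) * g) * x⁻¹ := by
          rw [hsxu, show g * (s * u) = s * u * g by rw [← mul_assoc g, h1, mul_assoc s, h2, ← mul_assoc]]
        _ = s * (x * g * x⁻¹) := by group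
    · rw [hu']
      calc x * g * x⁻¹ * (x * s * x⁻¹) = x * (g * s) * x⁻¹ := by group
        _ = x * (s * g) * x⁻¹ := by rw [h1]
        _ = x * s * x⁻¹ * (x * g * x⁻¹) := by group
  obtain ⟨R, hCR⟩ := hC2.exists_le_sylow
  have hGcard : Nat.card G = 720 := by rw [← N.card_mul_index, hcard, hidx]
  have hRc : Nat.card (R : Subgroup G) = 16 := by
    rw [R.card_eq_multiplicity, hGcard]
    rw [show (720 : ℕ) = 2 ^ 4 * 45 by norm_num, Nat.factorization_mul (by norm_num) (by norm_num),
      Finsupp.add_apply, Nat.Prime.factorization_pow Nat.prime_two, Finsupp.single_eq_same,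
      Nat.factorization_eq_zero_of_not_dvd (by norm_num : ¬ 2 ∣ 45)]
    norm_num
  have h16 : ∀ g : (R : Subgroup G), g ^ 4 = 1 := fun g => by
    obtain ⟨i, hi⟩ := R.2 g
    have hy' : (g : G) ^ 2 ^ i = 1 := congrArg Subtype.val hi
    obtain ⟨j, -, hj⟩ := (Nat.dvd_prime_pow Nat.prime_two).mp (orderOf_dvd_of_pow_eq_one hy')
    exact Subtype.ext (by simpa using pow_four h8 hj)
  have hC4 : Nat.card C = 4 := by
    have hmod := CITQuot.card_mod hC (r := 3) (by norm_num) hxo C hC2 hxC
    obtain ⟨i, hi, hic⟩ := (Nat.dvd_prime_pow Nat.prime_two).mp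
      (show Nat.card C ∣ 2 ^ 4 by
        have := Subgroup.card_dvd_of_le hCR
        rwa [hRc] at this)
    have h3 : 3 ≤ Nat.card C := by
      classical
      haveI : Fintype C := Fintype.ofFinite C
      have : ({1, ⟨s, hsC⟩, ⟨u, huC⟩} : Finset C).card = 3 := by
        rw [Finset.card_insert_of_notMem (by simp [Subtype.ext_iff, hs1.symm, hu1.symm]),
          Finset.card_pair (by simp [Subtype.ext_iff, hsu1])]
      rw [Nat.card_eq_fintype_card, ← this]
      exact Finset.card_le_univ _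
    rw [hic] at hmod h3 ⊢
    have hi24 : i = 2 ∨ i = 4 := by
      interval_cases i <;> simp_all
    rcases hi24 with rfl | rfl
    · norm_num
    exfalso
    have hCeq : C = R := Subgroup.eq_of_le_of_card_ge hCR (by rw [hRc, hic]; norm_num)
    have hxP : x ∈ normalizer ((C ⊓ N : Subgroup G) : Set G) := Subgroup.mem_normalizer_fintype fun g hg =>
      ⟨(Subgroup.mem_normalizer_iff.mp hxC g).mp hg.1, (inferInstance : N.Normal).conj_mem g hg.2 x⟩
    have h8' : Nat.card (C ⊓ N : Subgroup G) = 8 := by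
      have h1 : N.relIndex C ∣ 2 := hidx ▸ Subgroup.relIndex_dvd_index_of_normal N C
      have h2 := (N.subgroupOf C).card_mul_index
      have h5 : Nat.card (N.subgroupOf C) = Nat.card (C ⊓ N : Subgroup G) := by
        rw [← Subgroup.inf_subgroupOf_left]
        exact Nat.card_congr (Subgroup.subgroupOfEquivOfLe inf_le_left).toEquiv
      have h6 : Nat.card (C ⊓ N : Subgroup G) ∣ 360 := hcard ▸ Subgroup.card_dvd_of_le inf_le_right
      rw [h5, hic, show (N.subgroupOf C).index = N.relIndex C from rfl] at h2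
      rcases (Nat.dvd_prime Nat.prime_two).mp h1 with h | h
      · rw [h, mul_one] at h2
        rw [h2] at h6
        norm_num at h6
      · rw [h] at h2; omega
    have := CITQuot.card_mod hC (r := 3) (by norm_num) hxo _ (hC2.to_le inf_le_left) hxP
    rw [h8'] at this
    norm_num at this
  refine no_self_centralising hRc h16 (C.subgroupOf (R : Subgroup G))
    (by rw [Nat.card_congr (Subgroup.subgroupOfEquivOfLe hCR).toEquiv, hC4]) (fun c hc => ?_) fun c hc => ?_
  · -- the four-group is elementary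
    have hcC : (c : G) ∈ C := hc
    classical
    haveI : Fintype C := Fintype.ofFinite C
    let V : Finset C := {1, ⟨s, hsC⟩, ⟨u, huC⟩, ⟨s * u, mul_mem hsC huC⟩}
    have hV : V.card = 4 := by
      have a1 : s * u ≠ 1 := fun h => hsu1 (by
        calc s = s * (u * u) := by rw [huu, mul_one]
          _ = u := by rw [← mul_assoc, h, one_mul])
      simp only [V]
      rw [Finset.card_insert_of_notMem, Finset.card_insert_of_notMem, Finset.card_insert_of_notMem,
        Finset.card_singleton] <;>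
        simp [Subtype.ext_iff, hs1.symm, hu1.symm, hsu1, a1.symm, hs1, hu1]
    have h2 : (⟨(c : G), hcC⟩ : C) ∈ V := by
      rw [Finset.eq_univ_of_card V (by rw [hV, ← Nat.card_eq_fintype_card, hC4])]
      exact Finset.mem_univ _
    apply Subtype.ext
    show (c : G) * c = 1
    simp only [V, Finset.mem_insert, Finset.mem_singleton, Subtype.ext_iff, Subgroup.coe_one] at h2
    rcases h2 with h2 | h2 | h2 | h2 <;> rw [h2]
    · simp
    · exact hss
    · exact huu
    · rw [show s * u * (s * u) = s * (u * s) * u by group, ← hsu, ← mul_assoc, hss, one_mul, huu]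
  · show (c : G) ∈ C
    exact (hmemC _).mpr ⟨(congrArg Subtype.val (hc ⟨s, hCR hsC⟩ hsC)).symm,
      (congrArg Subtype.val (hc ⟨u, hCR huC⟩ huC)).symm⟩

/-- The simple groups in question without elements of order eight, inside a group with trivial core. -/
theorem small_index (hC : CIT.IsCIT G) (h8 : ∀ g : G, orderOf g ≠ 8) (N : Subgroup G) [N.Normal]
    (hbad : CIT.OddLinType N ∨ CIT.L34Type N) :
    N.index = 1 ∧ ((∃ (F : Type) (_ : Field F) (_ : Fintype F), (Fintype.card F = 7 ∨ Fintype.card F = 9) ∧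
        Nonempty (N ≃* Matrix.ProjectiveSpecialLinearGroup (Fin 2) F)) ∨
      ∃ (F : Type) (_ : Field F) (_ : Fintype F), Fintype.card F = 4 ∧
        Nonempty (N ≃* Matrix.ProjectiveSpecialLinearGroup (Fin 3) F)) := by
  classical
  haveI : Fact (Nat.Prime 2) := ⟨Nat.prime_two⟩
  haveI : Fact (Nat.Prime 5) := ⟨by norm_num⟩
  haveI : Fact (Nat.Prime 7) := ⟨by norm_num⟩
  rcases hbad with ⟨F, iF, iFt, hF, ⟨e⟩⟩ | ⟨F, iF, iFt, hF, ⟨e⟩⟩
  · obtain ⟨p, _, hp2, _⟩ : ∃ (p : ℕ) (_ : Fact p.Prime), p ≠ 2 ∧ CharP F p := by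
      rcases hF with h | ⟨h7, hp, -⟩
      · haveI : Fact (Nat.Prime 3) := ⟨Nat.prime_three⟩
        exact ⟨3, inferInstance, by norm_num, charP_of_card_eq_prime_pow (f := 2) (by rw [h]; norm_num)⟩
      · haveI : Fact (Fintype.card F).Prime := ⟨hp⟩
        exact ⟨Fintype.card F, inferInstance, by omega, charP_of_card_eq_prime_pow (f := 1) (by rw [pow_one])⟩
    have h2F : (2 : F) ≠ 0 := by
      intro h
      have h' : ((2 : ℕ) : F) = 0 := by exact_mod_cast h
      rw [CharP.cast_eq_zero_iff F p] at h'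
      exact hp2 ((Nat.prime_dvd_prime_iff_eq (Fact.out) Nat.prime_two).mp h')
    have hd : Nat.gcd 2 (Fintype.card F - 1) = 2 := by
      have hodd : Fintype.card F % 2 = 1 := by
        refine FiniteField.odd_card_of_char_ne_two ?_
        rw [ringChar.eq F p]
        exact hp2
      exact Nat.gcd_eq_left (by omega)
    have hord : ∀ n : ℕ, ((∃ x : Matrix.ProjectiveSpecialLinearGroup (Fin 2) F, orderOf x = n) ↔
        n ∣ (Fintype.card F - 1) / 2 ∨ n ∣ (Fintype.card F + 1) / 2 ∨ n = p) := fun n => by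
      have := PSL2Spectrum.psl_orders (F := F) p n
      rwa [hd] at this
    have hF' : Fintype.card F = 7 ∨ Fintype.card F = 9 := by
      rcases hF with h | ⟨h7, hp, k, hk⟩
      · exact Or.inr h
      rcases eq_or_lt_of_le h7 with h | h
      · exact Or.inl h.symm
      exfalso
      have hk4 : 4 ≤ k := by
        by_contra hlt
        rcases hk with hk | hk <;> interval_cases k <;> norm_num at hk <;> simp_all (config := { decide := true })
      have h8d : 8 ∣ (Fintype.card F - 1) / 2 ∨ 8 ∣ (Fintype.card F + 1) / 2 := by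
        have h16 : 2 ^ k = 2 ^ (k - 4) * 16 := by
          rw [show (16 : ℕ) = 2 ^ 4 by norm_num, ← pow_add]; congr 1; omega
        rcases hk with hk | hk
        · left; rw [hk, h16]; omega
        · right; rw [hk, h16]; omega
      obtain ⟨x, hx⟩ := (hord 8).mpr (h8d.elim Or.inl fun h => Or.inr (Or.inl h))
      exact h8 ((e.symm x : N) : G) (by rw [Subgroup.orderOf_coe, MulEquiv.orderOf_eq, hx])
    have hcard := EppoAlmost.card_psl_two (F := F)
    rw [← Nat.card_congr e.toEquiv, hd] at hcard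
    have hone : ∀ s t : N, orderOf s = 2 → orderOf t = 2 → IsConj s t := fun s t hs ht => by
      have := MonoidHom.map_isConj e.symm.toMonoidHom
        (psl_isConj h2F (s := e s) (t := e t) (by rw [MulEquiv.orderOf_eq, hs]) (by rw [MulEquiv.orderOf_eq, ht]))
      simpa using this
    have hp' : p = 7 ∧ Fintype.card F = 7 ∨ p = 3 ∧ Fintype.card F = 9 := by
      obtain ⟨f, hpp, hq⟩ := FiniteField.card F p
      rcases hF' with h | h
      · refine Or.inl ⟨?_, h⟩
        rw [h] at hq
        exact (Nat.prime_dvd_prime_iff_eq hpp (by norm_num)).mp (hq ▸ dvd_pow_self p f.2.ne')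
      · refine Or.inr ⟨?_, h⟩
        rw [h] at hq
        exact (Nat.prime_dvd_prime_iff_eq hpp Nat.prime_three).mp
          (hpp.dvd_of_dvd_pow (show p ∣ 3 ^ 2 by norm_num; exact hq ▸ dvd_pow_self p f.2.ne'))
    have hNepo : ∀ x : N, x ≠ 1 → IsPrimePow (orderOf x) := by
      intro x hx
      have h1 : orderOf x ≠ 1 := fun h => hx (orderOf_eq_one_iff.mp h)
      have h3 := (hord (orderOf x)).mp ⟨e x, MulEquiv.orderOf_eq e x⟩
      rcases hp' with ⟨hp7, hq⟩ | ⟨hp3, hq⟩ <;> rw [hq] at h3
      · rcases h3 with h | h | h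
        · rw [(Nat.dvd_prime Nat.prime_three).mp (by norm_num at h ⊢; exact h) |>.resolve_left h1]
          exact Nat.prime_three.isPrimePow
        · obtain ⟨i, hi, hi'⟩ := (Nat.dvd_prime_pow Nat.prime_two).mp (show orderOf x ∣ 2 ^ 2 by norm_num at h ⊢; exact h)
          exact (isPrimePow_nat_iff _).mpr ⟨2, i, Nat.prime_two, Nat.pos_of_ne_zero fun e0 => h1 (by rw [hi', e0, pow_zero]), hi'.symm⟩
        · rw [h, hp7]; exact (show Nat.Prime 7 by norm_num).isPrimePow
      · rcases h3 with h | h | h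
        · obtain ⟨i, hi, hi'⟩ := (Nat.dvd_prime_pow Nat.prime_two).mp (show orderOf x ∣ 2 ^ 2 by norm_num at h ⊢; exact h)
          exact (isPrimePow_nat_iff _).mpr ⟨2, i, Nat.prime_two, Nat.pos_of_ne_zero fun e0 => h1 (by rw [hi', e0, pow_zero]), hi'.symm⟩
        · rw [(Nat.dvd_prime (show Nat.Prime 5 by norm_num)).mp (by norm_num at h ⊢; exact h) |>.resolve_left h1]
          exact (show Nat.Prime 5 by norm_num).isPrimePow
        · rw [h, hp3]; exact Nat.prime_three.isPrimePow
    have h2N : 2 ∣ Nat.card N := by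
      rcases hF' with h | h <;> rw [h] at hcard <;> omega
    obtain ⟨j, hj⟩ := quotient_two_group hC N h2N hone
    have hepo := epo_of_normal hC N hj hNepo
    refine ⟨?_, Or.inl ⟨F, iF, iFt, hF', ⟨e⟩⟩⟩
    rcases hp' with ⟨-, hq⟩ | ⟨-, hq⟩ <;> rw [hq] at hcard
    · exact (EppoAlmost.index_one_168 hepo N (by omega)).1
    · have h360 : Nat.card N = 360 := by omega
      obtain ⟨a, b, k, hkb, hb, -, heq, hmod, -, -, -⟩ :=
        EppoAlmost.normaliser_dvd (p := 5) hepo N (by rw [h360]; norm_num) (by rw [h360]; norm_num)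
      rw [h360] at hmod
      have hk4 : k ∈ Nat.divisors 4 := Nat.mem_divisors.mpr ⟨hkb.trans hb, by norm_num⟩
      rw [show Nat.divisors 4 = {1, 2, 4} by decide] at hk4
      simp only [Finset.mem_insert, Finset.mem_singleton] at hk4
      have hk : k = 2 := by rcases hk4 with rfl | rfl | rfl <;> first | rfl | norm_num at hmod
      subst hk
      have h1 : N.index * 2 ∣ 5 ^ a * b := ⟨5, by rw [← heq]; ring⟩
      have h2 : N.index * 2 ∣ b := by
        refine Nat.Coprime.dvd_of_dvd_mul_left ?_ h1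
        rw [hj, ← pow_succ]
        exact Nat.Coprime.pow _ _ (by norm_num)
      have h3 : N.index ≤ 2 := by
        have := Nat.le_of_dvd (by norm_num) (h2.trans (show b ∣ 4 from hb))
        omega
      have h4 := Subgroup.index_ne_zero_of_finite (H := N)
      have hsimp : IsSimpleGroup N := by
        haveI : IsSimpleGroup (Matrix.ProjectiveSpecialLinearGroup (Fin 2) F) :=
          Matrix.ProjectiveSpecialLinearGroup.rank_two_simple (by rw [Nat.card_eq_fintype_card, hq]; norm_num)
        exact e.isSimpleGroup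
      obtain ⟨e6⟩ := CITUse.psl_nine_alt hq e
      have := index_ne_two hC h8 N h360 e6
      omega
  · haveI : CharP F 2 := charP_of_card_eq_prime_pow (f := 2) (by rw [hF]; norm_num)
    have hone : ∀ s t : N, orderOf s = 2 → orderOf t = 2 → IsConj s t := fun s t hs ht => by
      have := MonoidHom.map_isConj e.symm.toMonoidHom
        (Cfsg.Agent.S0820.result hF (e s) (e t) (by rw [MulEquiv.orderOf_eq, hs]) (by rw [MulEquiv.orderOf_eq, ht]))
      simpa using this
    have hcard : Nat.card N = 20160 := by rw [Nat.card_congr e.toEquiv, EppoAlmost.card_psl_three_four hF]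
    have hNepo : ∀ x : N, x ≠ 1 → IsPrimePow (orderOf x) := by
      intro x hx
      have h1 : orderOf x ≠ 1 := fun h => hx (orderOf_eq_one_iff.mp h)
      have hm : orderOf x ∈ Set.range (orderOf : Matrix.ProjectiveSpecialLinearGroup (Fin 3) F → ℕ) :=
        ⟨e x, MulEquiv.orderOf_eq e x⟩
      rw [Cfsg.Agent.S2476.result 2, Set.mem_ofPred_eq, hF] at hm
      norm_num at hm
      have hp : ∀ r : ℕ, r.Prime → orderOf x ∣ r → IsPrimePow (orderOf x) := fun r hr hd => by
        rw [((Nat.dvd_prime hr).mp hd).resolve_left h1]; exact hr.isPrimePow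
      rcases hm with h | h | h | h | h
      · exact hp 7 (by norm_num) h
      · exact hp 5 (by norm_num) h
      · exact hp 3 (by norm_num) h
      · exact hp 2 (by norm_num) h
      · obtain ⟨i, hi, hi'⟩ := (Nat.dvd_prime_pow Nat.prime_two).mp (show orderOf x ∣ 2 ^ 2 by norm_num; exact h)
        exact (isPrimePow_nat_iff _).mpr ⟨2, i, Nat.prime_two, Nat.pos_of_ne_zero fun e0 => h1 (by rw [hi', e0, pow_zero]), hi'.symm⟩
    obtain ⟨j, hj⟩ := quotient_two_group hC N (by rw [hcard]; norm_num) hone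
    have hepo := epo_of_normal hC N hj hNepo
    refine ⟨?_, Or.inr ⟨F, iF, iFt, hF, ⟨e⟩⟩⟩
    obtain ⟨a, b, k, hkb, hb, hbp, -, hmod, -, hsmall, -⟩ :=
      EppoAlmost.normaliser_dvd (p := 7) hepo N (by rw [hcard]; norm_num) (by rw [hcard]; norm_num)
    rw [hcard] at hmod
    have hk6 : k ∈ Nat.divisors 6 := Nat.mem_divisors.mpr ⟨hkb.trans hb, by norm_num⟩
    rw [show Nat.divisors 6 = {1, 2, 3, 6} by decide] at hk6
    simp only [Finset.mem_insert, Finset.mem_singleton] at hk6
    have hk : k = 3 := by rcases hk6 with rfl | rfl | rfl | rfl <;> first | rfl | norm_num at hmod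
    subst hk
    have hb3 : b = 3 := Nat.dvd_antisymm
      (by simpa using EppoAlmost.eq_of_pp hbp Nat.prime_three hkb hb (e := 1) (by norm_num)) hkb
    refine Nat.eq_one_of_dvd_coprimes (Nat.Coprime.pow j a (show Nat.Coprime 2 7 by norm_num)) (dvd_of_eq hj) ?_
    exact hsmall hb3.symm

/-- The non-solvable groups with two-group involution centralisers and no element of order eight. -/
theorem cit_case (hC : CIT.IsCIT G) (h8 : ∀ g : G, orderOf g ≠ 8) (hns : ¬ Group.IsSolvable G) :
    (∃ (F : Type) (_ : Field F) (_ : Fintype F) (n : ℕ), 2 ≤ n ∧ Fintype.card F = 2 ^ n ∧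
        Nonempty (CIT.Qt G ≃* Matrix.ProjectiveSpecialLinearGroup (Fin 2) F)) ∨
    (∃ (F : Type) (_ : Field F) (_ : Fintype F), (Fintype.card F = 7 ∨ Fintype.card F = 9) ∧
        Nonempty (G ≃* Matrix.ProjectiveSpecialLinearGroup (Fin 2) F)) ∨
    (∃ (F : Type) (_ : Field F) (_ : Fintype F), Fintype.card F = 4 ∧
        Nonempty (G ≃* Matrix.ProjectiveSpecialLinearGroup (Fin 3) F)) ∨
    (∃ (F : Type) (_ : Field F) (_ : Fintype F) (m : ℕ), 1 ≤ m ∧ Fintype.card F = 2 ^ (2 * m + 1) ∧
        IsSimpleGroup G ∧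
        Nat.card G = (2 ^ (2 * m + 1)) ^ 2 * ((2 ^ (2 * m + 1)) ^ 2 + 1) * (2 ^ (2 * m + 1) - 1) ∧
        Nonempty (G ≃* ↥(Cfsg.Lie.Sz F (2 ^ (m + 1))))) := by
  haveI : Fact (Nat.Prime 2) := ⟨Nat.prime_two⟩
  have hQ := hC.quot
  have hQ8 := qt_no_eight h8
  have hQns : ¬ Group.IsSolvable (CIT.Qt G) := by
    intro h
    haveI := h
    haveI := (CIT.core_two (X := G)).isNilpotent
    exact hns ((Group.isSolvable_iff_subgroup_quotient (Cfsg.pCore 2 G)).mpr ⟨inferInstance, h⟩)
  obtain ⟨N, hN, hNs, hNc⟩ := CITQuot.exists_simple hQ hQns CIT.pCore_qt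
  haveI := hN
  haveI := hNs
  have hne : ∃ a b : N, a * b ≠ b * a := by
    by_contra h
    push Not at h
    exact hNc ⟨⟨h⟩⟩
  have core_iso : Cfsg.pCore 2 G = ⊥ → Nonempty (G ≃* CIT.Qt G) := fun hD =>
    ⟨(QuotientGroup.quotientBot (G := G)).symm.trans (QuotientGroup.quotientMulEquivOfEq hD.symm)⟩
  have hout := CIT.classification hne (hQ.subgroup N)
  rcases hout with ⟨hTI, htype⟩ | hbad
  · have htop := CIT.eq_top_of_ti hQ N hne hTI htype
    let e : N ≃* CIT.Qt G := (MulEquiv.subgroupCongr htop).trans Subgroup.topEquiv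
    rcases htype with ⟨F, iF, iFt, n, hn, hF, ⟨e'⟩⟩ | hS
    · exact Or.inl ⟨F, iF, iFt, n, hn, hF, ⟨e.symm.trans e'⟩⟩
    · obtain ⟨F, iF, iFt, m, hm, hF, hcard, ⟨e'⟩⟩ :=
        SuzukiUnique.exists_equiv_of_suzType hne (hQ.subgroup N) hTI hS
      have hD := core_bot_of_suzuki hC h8 hm hF (e.symm.trans e')
      obtain ⟨e0⟩ := core_iso hD
      refine Or.inr (Or.inr (Or.inr ⟨F, iF, iFt, m, hm, hF, ?_, ?_, ⟨(e0.trans e.symm).trans e'⟩⟩))
      · exact (e0.trans e.symm).isSimpleGroup
      · rw [Nat.card_congr (e0.trans e.symm).toEquiv, hcard]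
  · have hD : Cfsg.pCore 2 G = ⊥ := by
      by_contra hD
      haveI := CIT.qMod_nontrivial hD
      rcases hbad with h | h
      · exact ((CIT.qMod hC).comap N.subtype N.subtype_injective).no_oddLin h
      · exact ((CIT.qMod hC).comap N.subtype N.subtype_injective).no_L34 h
    obtain ⟨e0⟩ := core_iso hD
    obtain ⟨hidx, h⟩ := small_index hQ hQ8 N hbad
    let e : N ≃* CIT.Qt G := (MulEquiv.subgroupCongr (Subgroup.index_eq_one.mp hidx)).trans Subgroup.topEquiv
    rcases h with ⟨F, iF, iFt, hF, ⟨e'⟩⟩ | ⟨F, iF, iFt, hF, ⟨e'⟩⟩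
    · exact Or.inr (Or.inl ⟨F, iF, iFt, hF, ⟨(e0.trans e.symm).trans e'⟩⟩)
    · exact Or.inr (Or.inr (Or.inl ⟨F, iF, iFt, hF, ⟨(e0.trans e.symm).trans e'⟩⟩))

end CfsgLib.TwoR
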