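import Cfsg.Agent.Lib.TwoR.Setup
import Cfsg.Agent.Lib.CentTI.Zass
import Cfsg.Agent.Lib.ZassenhausDegree.Main

/-!
One maximal invariant `r`-subgroup containing the cores of all involution centralisers is impossible in a simple
group.
-/

set_option autoImplicit false
set_option linter.unusedSectionVars false
set_option linter.style.haveILetI false

namespace CfsgLib.TwoR

open Subgroup Cfsg

universe u

/-- The data of the case. -/
structure CaseOne {G : Type u} [Group G] [Finite G] (r : ℕ) (T : Sylow 2 G) (P : Subgroup G) : Prop where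
  max : Maximal (Inv r T) P
  ne : P ≠ ⊥
  all : ∀ t ∈ (T : Subgroup G), orderOf t = 2 → KK t ≤ P
  some : ∃ a ∈ (T : Subgroup G), orderOf a = 2 ∧ KK a ≠ ⊥

variable {G : Type u} [Group G] [Finite G] [IsSimpleGroup G] {r : ℕ} {T : Sylow 2 G} {P : Subgroup G}
  (h : Hyp G r) (hna : ∃ a b : G, a * b ≠ b * a) (hc : CaseOne r T P)

include h hna hc

theorem CaseOne.ne_top : normalizer (P : Set G) ≠ ⊤ := by
  intro e
  haveI hn : P.Normal := Subgroup.normalizer_eq_top_iff.mp e
  rcases hn.eq_bot_or_eq_top with h1 | h1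
  · exact hc.ne h1
  · haveI := Fact.mk h.prime
    haveI : Group.IsNilpotent P := hc.max.1.1.isNilpotent
    apply not_solvable hna
    refine Group.isSolvable_of_surjective (G := P) (f := P.subtype) fun x => ⟨⟨x, h1 ▸ mem_top x⟩, rfl⟩

theorem CaseOne.normalizer_le : normalizer ((T : Subgroup G) : Set G) ≤ normalizer (P : Set G) := by
  intro n hn
  obtain ⟨a, ha, hao, haK⟩ := hc.some
  set P' := P.map (MulAut.conj n).toMonoidHom
  have hP' : Inv r T P' := by
    refine ⟨hc.max.1.1.map _, fun b hb => Subgroup.mem_normalizer_fintype fun x hx => ?_⟩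
    obtain ⟨y, hy, rfl⟩ := hx
    have hb' : n⁻¹ * b * n ∈ (T : Subgroup G) := by
      have := (Subgroup.mem_normalizer_iff.mp (inv_mem hn) b).mp hb
      rwa [inv_inv] at this
    refine ⟨n⁻¹ * b * n * y * (n⁻¹ * b * n)⁻¹, (Subgroup.mem_normalizer_iff.mp (hc.max.1.2 hb') y).mp hy, ?_⟩
    show n * (n⁻¹ * b * n * y * (n⁻¹ * b * n)⁻¹) * n⁻¹ = b * (n * y * n⁻¹) * b⁻¹
    group
  have ha' : n * a * n⁻¹ ∈ (T : Subgroup G) := (Subgroup.mem_normalizer_iff.mp hn a).mp ha
  have hK : KK (n * a * n⁻¹) ≤ P' := by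
    rw [← KK_conj]
    exact Subgroup.map_mono (hc.all a ha hao)
  have hK1 : KK (n * a * n⁻¹) ≠ ⊥ := by
    rw [← KK_conj, Ne, Subgroup.map_eq_bot_iff_of_injective _ (MulAut.conj n).injective]
    exact haK
  have hle : P' ≤ P := le_of_meets h (four_le hna T) hc.max hP'
    (ne_bot_of_le_ne_bot hK1 (le_inf hK (hc.all _ ha' (by rw [Involutions.orderOf_conj, hao]))))
  have heq : P' = P := Subgroup.eq_of_le_of_card_ge hle
    (by rw [Subgroup.card_map_of_injective (MulAut.conj n).injective])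
  refine Subgroup.mem_normalizer_fintype fun x hx => ?_
  exact heq.le ⟨x, hx, rfl⟩

theorem CaseOne.centralizer_le {t : G} (ht : t ∈ (T : Subgroup G)) (hto : orderOf t = 2) :
    centralizer ({t} : Set G) ≤ normalizer (P : Set G) := by
  intro g hg
  obtain ⟨k, hk, n, hn, -, rfl⟩ := centralizer_decomp h ht hto (mem_centralizer_singleton_iff.mp hg).symm
  exact mul_mem (Subgroup.le_normalizer (hc.all t ht hto hk)) (hc.normalizer_le h hna hn)

theorem CaseOne.embedded : IsStronglyEmbedded (normalizer (P : Set G)) := by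
  refine strongly_embedded_of T (hc.ne_top h hna) ?_ (hc.normalizer_le h hna) (fun t ht hto => hc.centralizer_le h hna ht hto)
    (h.sylow_comm T)
  obtain ⟨a, ha, hao, -⟩ := hc.some
  intro e
  rw [e, Subgroup.mem_bot] at ha
  rw [ha, orderOf_one] at hao
  omega

theorem CaseOne.core_le : OO (normalizer (P : Set G)) ≤ P := by
  haveI := local_solvable h hc.max.1 hc.ne
  refine le_of_meets h (four_le hna T) hc.max (inv_OO h (four_le hna T) hc.max.1.2) ?_
  rw [inf_eq_right.mpr (le_OO Subgroup.le_normalizer le_rfl (h.odd_card hc.max.1.1))]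
  exact hc.ne

theorem CaseOne.transitive {s s' : G} (hs : s ∈ (T : Subgroup G)) (hso : orderOf s = 2)
    (hs' : s' ∈ (T : Subgroup G)) (hso' : orderOf s' = 2) :
    ∃ n ∈ normalizer ((T : Subgroup G) : Set G), n * s * n⁻¹ = s' := by
  have hTM : (T : Subgroup G) ≤ normalizer (P : Set G) := hc.max.1.2
  haveI := local_solvable h hc.max.1 hc.ne
  obtain ⟨g, hg, hgs⟩ := CIT.conj_of_stronglyEmbedded (hc.embedded h hna) (hTM hs) hso (hTM hs') hso'
  obtain ⟨o, ho, n, hn, -, rfl⟩ := exists_decomp (h.sylow_comm T) hTM hg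
  refine ⟨n, hn, ?_⟩
  have hτ : n * s * n⁻¹ ∈ (T : Subgroup G) := (Subgroup.mem_normalizer_iff.mp hn s).mp hs
  have hoP := hc.core_le h hna ho
  set τ := n * s * n⁻¹ with hτdef
  have h1 : s' * τ⁻¹ ∈ P := by
    have e : s' * τ⁻¹ = o * (τ * o⁻¹ * τ⁻¹) := by rw [← hgs, hτdef]; group
    rw [e]
    exact mul_mem hoP ((Subgroup.mem_normalizer_iff.mp (hTM hτ) _).mp (inv_mem hoP))
  have h2 : s' * τ⁻¹ ∈ (T : Subgroup G) := mul_mem hs' (inv_mem hτ)
  have h3 : s' * τ⁻¹ = 1 := orderOf_eq_one_iff.mp (Nat.eq_one_of_dvd_coprimes h.coprime_two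
    (orderOf_dvd_of_pow_eq_one (by rw [pow_two]; exact h.sq_eq_one T.2 h2))
    (orderOf_dvd_of_pow_eq_one (h.pow_r hc.max.1.1 h1)))
  exact (mul_inv_eq_one.mp h3).symm

theorem CaseOne.central : ∀ t ∈ (T : Subgroup G), ∀ x ∈ P, t * x = x * t := by
  obtain ⟨y, E, hyT, hyp, hy2, hET, hE1, hyE, hcop, hfpf⟩ := exists_moving_pair h hna T
  have hcent := centralize_rgroup _ h P E rfl hc.max.1.1 hcop (hET.trans hc.max.1.2) y
    (hc.normalizer_le h hna hyT) hyE hyp hy2 hfpf
  obtain ⟨t₀, ht₀E, ht₀1⟩ := (Subgroup.bot_or_exists_ne_one E).resolve_left hE1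
  intro t ht x hx
  by_cases ht1 : t = 1
  · simp [ht1]
  obtain ⟨n, hn, hnt⟩ := hc.transitive h hna (hET ht₀E) (h.sylow_two (hET ht₀E) ht₀1) ht (h.sylow_two ht ht1)
  have hx' : n⁻¹ * x * n ∈ P := by
    have := (Subgroup.mem_normalizer_iff.mp (inv_mem (hc.normalizer_le h hna hn)) x).mp hx
    rwa [inv_inv] at this
  have h1 := hcent t₀ ht₀E _ hx'
  rw [← hnt]
  calc n * t₀ * n⁻¹ * x = n * (t₀ * (n⁻¹ * x * n)) * n⁻¹ := by group
    _ = n * (n⁻¹ * x * n * t₀) * n⁻¹ := by rw [h1]
    _ = _ := by group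

theorem CaseOne.normalizer_eq : normalizer (P : Set G) = normalizer ((T : Subgroup G) : Set G) := by
  refine le_antisymm (fun g hg => ?_) (hc.normalizer_le h hna)
  haveI := local_solvable h hc.max.1 hc.ne
  obtain ⟨o, ho, n, hn, -, rfl⟩ := exists_decomp (h.sylow_comm T) hc.max.1.2 hg
  refine mul_mem (Subgroup.mem_normalizer_fintype fun a ha => ?_) hn
  have := hc.central h hna a ha o (hc.core_le h hna ho)
  rw [← this, mul_inv_cancel_right]
  exact ha

/-- The elements centralising the Sylow subgroup. -/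
theorem CaseOne.centralizing {c : G} (hcT : ∀ a ∈ (T : Subgroup G), a * c = c * a) :
    ∃ o ∈ P, ∃ a ∈ (T : Subgroup G), c = o * a := by
  haveI := local_solvable h hc.max.1 hc.ne
  have hcN : c ∈ normalizer (P : Set G) := hc.normalizer_le h hna (Subgroup.mem_normalizer_fintype fun a ha => by
    rw [← hcT a ha, mul_inv_cancel_right]; exact ha)
  obtain ⟨o, ho, a, ha, e⟩ := mem_of_centralizes (h.sylow_comm T) hc.max.1.2 hcN hcT
  exact ⟨o, hc.core_le h hna ho, a, ha, e⟩

/-- An element of the normaliser fixing an involution of the Sylow subgroup centralises it. -/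
theorem CaseOne.stabiliser {g : G} (hg : g ∈ normalizer ((T : Subgroup G) : Set G)) {t : G}
    (ht : t ∈ (T : Subgroup G)) (hto : orderOf t = 2) (hgt : g * t * g⁻¹ = t) :
    ∀ a ∈ (T : Subgroup G), g * a * g⁻¹ = a := by
  classical
  haveI := Fact.mk h.prime
  rw [← conjT_eq_one (hg := hg)]
  by_contra hne
  set α : autT T := ⟨conjT T ⟨g, hg⟩, _, rfl⟩ with hα
  have hαfix : (α : MulAut (T : Subgroup G)) ⟨t, ht⟩ = ⟨t, ht⟩ := Subtype.ext hgt
  have hα1 : α ≠ 1 := fun e => hne (congrArg Subtype.val e)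
  have hαo : orderOf α = r := by
    have hdvd : orderOf α ∣ 2 * r := by
      refine dvd_trans ?_ (orderOf_dvd_of_pow_eq_one
        (h.pow_of_commute_two hto (mul_inv_eq_iff_eq_mul.mp hgt).symm))
      rw [← Subgroup.orderOf_coe, ← Subgroup.orderOf_mk g hg]
      exact orderOf_map_dvd _ _
    exact ((Nat.dvd_prime h.prime).mp
      ((Nat.coprime_two_right.mpr (autT_orderOf_odd h α)).dvd_of_dvd_mul_left hdvd)).resolve_left
      (fun e => hα1 (orderOf_eq_one_iff.mp e))
  haveI := autT_solvable (T := T) h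
  set F := fittingSubgroup (autT T) with hF
  have hF1 : F ≠ ⊥ := by
    intro e
    have h1 := CfsgLib.centralizer_fitting_le (G := autT T)
    rw [← hF, e] at h1
    exact hα1 (Subgroup.mem_bot.mp (h1 (Subgroup.mem_centralizer_iff.mpr fun x hx => by
      rw [SetLike.mem_coe, Subgroup.mem_bot] at hx
      simp [hx])))
  by_cases hall : IsPGroup r (autT T)
  · refine hα1 (autT_regular_of_pgroup h hall (four_le hna T) (fun a b ha hb => ?_)
      (t := ⟨t, ht⟩) (fun e => ?_) hαfix)
    · obtain ⟨n, hn, hnab⟩ := hc.transitive h hna a.2 (h.sylow_two a.2 fun e => ha (Subtype.ext e)) b.2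
        (h.sylow_two b.2 fun e => hb (Subtype.ext e))
      exact ⟨⟨conjT T ⟨n, hn⟩, _, rfl⟩, Subtype.ext hnab⟩
    · have : t = 1 := congrArg Subtype.val e
      rw [this, orderOf_one] at hto
      omega
  obtain ⟨β, hβ, hβr⟩ : ∃ β : autT T, (orderOf β).Prime ∧ orderOf β ≠ r := by
    by_contra hh
    push Not at hh
    refine hall (IsPGroup.of_card (Nat.eq_prime_pow_of_unique_prime_dvd Nat.card_pos.ne' fun {p} hp hd => ?_))
    haveI := Fact.mk hp
    obtain ⟨β, hβ⟩ := exists_prime_orderOf_dvd_card' (G := autT T) p hd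
    exact hβ ▸ hh β (hβ ▸ hp)
  -- a non-trivial normal subgroup of prime power order
  obtain ⟨q, hq, hqF⟩ := Nat.exists_prime_and_dvd (fun e => hF1 (Subgroup.card_eq_one.mp e) : Nat.card F ≠ 1)
  haveI := Fact.mk hq
  obtain ⟨Q₀⟩ : Nonempty (Sylow q F) := inferInstance
  haveI : Group.IsNilpotent F := CfsgLib.isNilpotent_fittingSubgroup
  haveI hQ₀n : (Q₀ : Subgroup F).Normal := inferInstance
  haveI : (Q₀ : Subgroup F).Characteristic := Sylow.characteristic_of_normal Q₀ hQ₀n
  set Fq := (Q₀ : Subgroup F).map F.subtype with hFq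
  haveI hFqn : Fq.Normal := inferInstance
  have hFqp : IsPGroup q Fq := Q₀.2.map _
  have hFq1 : Fq ≠ ⊥ := by
    rw [hFq, Ne, Subgroup.map_eq_bot_iff_of_injective _ F.subtype_injective]
    exact Q₀.ne_bot_of_dvd_card hqF
  by_cases hqr : q = r
  · exact hFq1 (autT_rgroup_bot h Fq (hqr ▸ hFqp) (β := β)
      (by rw [Subgroup.normalizer_eq_top_iff.mpr hFqn]; exact mem_top β) hβ hβr)
  -- the element of order `r` acts without fixed points on a lift
  set N := normalizer ((T : Subgroup G) : Set G)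
  set M1 := (Fq.map (autT T).subtype).comap (conjT T) with hM1
  haveI : M1.Normal := ⟨fun m hm n => by
    rw [hM1, Subgroup.mem_comap] at hm ⊢
    obtain ⟨f, hf, hfe⟩ := hm
    refine ⟨⟨conjT T n, n, rfl⟩ * f * ⟨conjT T n, n, rfl⟩⁻¹, hFqn.conj_mem f hf _, ?_⟩
    simp [← hfe]⟩
  obtain ⟨Q⟩ : Nonempty (Sylow q M1) := inferInstance
  have htop := Sylow.normalizer_sup_eq_top Q
  have hgmem : (⟨g, hg⟩ : N) ∈ normalizer (((Q : Subgroup M1).map M1.subtype : Subgroup N) : Set N) ⊔ M1 :=
    htop ▸ mem_top _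
  rw [← SetLike.mem_coe, Subgroup.mul_normal] at hgmem
  obtain ⟨y₀, hy₀, m, hm, hym⟩ := hgmem
  set E := ((Q : Subgroup M1).map M1.subtype).map N.subtype with hE
  have hEp : IsPGroup q E := (Q.2.map _).map _
  have hqM1 : q ∣ Nat.card M1 := by
    have h1 : q ∣ Nat.card (Fq.map (autT T).subtype) := by
      rw [Subgroup.card_map_of_injective (autT T).subtype_injective]
      obtain ⟨i, hi⟩ := IsPGroup.iff_card.mp hFqp
      rw [hi]
      exact dvd_pow_self q fun e0 => hFq1 (Subgroup.card_eq_one.mp (by rw [hi, e0, pow_zero]))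
    refine h1.trans ?_
    rw [← Subgroup.map_comap_eq_self (Subgroup.map_subtype_le Fq : Fq.map (autT T).subtype ≤ (conjT T).range), ← hM1]
    exact Subgroup.card_map_dvd _ _
  -- the image of `y₀` is that of `g` up to `Fq`
  obtain ⟨f, hf, hfe⟩ := hm
  set γ : autT T := ⟨conjT T y₀, y₀, rfl⟩ with hγ
  have hγα : α = γ * f := Subtype.ext (by
    show conjT T ⟨g, hg⟩ = conjT T y₀ * (f : MulAut (T : Subgroup G))
    rw [← hym, map_mul]
    exact congrArg (conjT T y₀ * ·) hfe.symm)
  have hrγ : r ∣ orderOf γ := by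
    have hq' : orderOf (QuotientGroup.mk' Fq α) = r := by
      rcases (Nat.dvd_prime h.prime).mp (hαo ▸ orderOf_map_dvd (QuotientGroup.mk' Fq) α) with e | e
      · exfalso
        have hmem : α ∈ Fq := (QuotientGroup.eq_one_iff α).mp (orderOf_eq_one_iff.mp e)
        obtain ⟨i, hi⟩ := IsPGroup.iff_orderOf.mp hFqp ⟨α, hmem⟩
        rw [Subgroup.orderOf_mk, hαo] at hi
        have hd : r ∣ q ^ i := hi ▸ dvd_rfl
        exact hqr ((Nat.prime_dvd_prime_iff_eq h.prime hq).mp (h.prime.dvd_of_dvd_pow hd)).symm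
      · exact e
    have : QuotientGroup.mk' Fq α = QuotientGroup.mk' Fq γ := by
      rw [hγα, map_mul, show QuotientGroup.mk' Fq f = 1 from (QuotientGroup.eq_one_iff f).mpr hf, mul_one]
    rw [← hq', this]
    exact orderOf_map_dvd _ γ
  have hd : r ∣ orderOf (y₀ : G) := hrγ.trans (by
    rw [← Subgroup.orderOf_coe γ, Subgroup.orderOf_coe y₀]
    exact orderOf_map_dvd _ y₀)
  set y : G := (y₀ : G) ^ (orderOf (y₀ : G) / r) with hy
  have hyo : orderOf y = r := orderOf_pow_orderOf_div (orderOf_pos _).ne' hd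
  have hyN : y ∈ N := pow_mem y₀.2 _
  have hyE : y ∈ normalizer (E : Set G) := by
    refine pow_mem (Subgroup.mem_normalizer_fintype fun x hx => ?_) _
    obtain ⟨x', hx', rfl⟩ := hx
    exact ⟨y₀ * x' * y₀⁻¹, (Subgroup.mem_normalizer_iff.mp hy₀ x').mp hx', rfl⟩
  have hfpf : ∀ e ∈ E, y * e * y⁻¹ = e → e = 1 := by
    intro e he hec
    obtain ⟨i, hi⟩ := IsPGroup.iff_orderOf.mp hEp ⟨e, he⟩
    rw [Subgroup.orderOf_mk] at hi
    have hq2 : q ≠ 2 := by
      rintro rfl
      obtain ⟨i', hi'⟩ := IsPGroup.iff_card.mp hFqp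
      have h1 : Odd (Nat.card Fq) := (autT_odd h).of_dvd_nat (Subgroup.card_subgroup_dvd_card Fq)
      rw [hi'] at h1
      rcases Nat.eq_zero_or_pos i' with h0 | h0
      · exact hFq1 (Subgroup.card_eq_one.mp (by rw [hi', h0, pow_zero]))
      · exact absurd h1 (Nat.not_odd_iff_even.mpr (Nat.even_pow.mpr ⟨even_two, h0.ne'⟩))
    have h1 := h.pow_r_of_commute_r hyo (mul_inv_eq_iff_eq_mul.mp hec) (hi ▸ (hq.odd_of_ne_two hq2).pow)
    exact orderOf_eq_one_iff.mp (Nat.eq_one_of_dvd_coprimes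
      (hi ▸ ((Nat.coprime_primes hq h.prime).mpr hqr).pow_left i) dvd_rfl (orderOf_dvd_of_pow_eq_one h1))
  obtain ⟨j, hj⟩ := IsPGroup.iff_card.mp hEp
  have hcent := centralize_rgroup _ h P E rfl hc.max.1.1 (hj ▸ ((Nat.coprime_primes hq h.prime).mpr hqr).pow_left j)
    (fun e he => hc.normalizer_le h hna (Subgroup.map_subtype_le _ he)) y (hc.normalizer_le h hna hyN) hyE
    (hyo ▸ h.prime) (hyo ▸ h.ne_two) hfpf
  obtain ⟨x, hxP, hx1⟩ := (Subgroup.bot_or_exists_ne_one P).resolve_left hc.ne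
  have hxo := h.orderOf_r hc.max.1.1 hxP hx1
  have hE1 : E = ⊥ := by
    rw [eq_bot_iff]
    intro e he
    rw [Subgroup.mem_bot]
    obtain ⟨i, hi⟩ := IsPGroup.iff_orderOf.mp hEp ⟨e, he⟩
    rw [Subgroup.orderOf_mk] at hi
    have h2 := h.pow_of_commute_r hxo (hcent e he x hxP).symm
    by_contra he1
    have hi0 : i ≠ 0 := fun e0 => he1 (orderOf_eq_one_iff.mp (by rw [hi, e0, pow_zero]))
    rcases hq.dvd_mul.mp ((dvd_pow_self q hi0).trans (hi ▸ orderOf_dvd_of_pow_eq_one h2)) with h' | h'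
    · have hq2 := (Nat.prime_dvd_prime_iff_eq hq Nat.prime_two).mp h'
      subst hq2
      obtain ⟨i', hi'⟩ := IsPGroup.iff_card.mp hFqp
      have h1 : Odd (Nat.card Fq) := (autT_odd h).of_dvd_nat (Subgroup.card_subgroup_dvd_card Fq)
      rw [hi'] at h1
      rcases Nat.eq_zero_or_pos i' with h0 | h0
      · exact hFq1 (Subgroup.card_eq_one.mp (by rw [hi', h0, pow_zero]))
      · exact absurd h1 (Nat.not_odd_iff_even.mpr (Nat.even_pow.mpr ⟨even_two, h0.ne'⟩))
    · exact hqr ((Nat.prime_dvd_prime_iff_eq hq h.prime).mp h')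
  rw [hE, Subgroup.map_eq_bot_iff_of_injective _ N.subtype_injective,
    Subgroup.map_eq_bot_iff_of_injective _ M1.subtype_injective] at hE1
  exact Q.ne_bot_of_dvd_card hqM1 hE1

/-- The case does not occur. -/
theorem CaseOne.false : False := by
  classical
  haveI : Fact (Nat.Prime 2) := ⟨Nat.prime_two⟩
  haveI := Fact.mk h.prime
  set N := normalizer ((T : Subgroup G) : Set G) with hN
  have hMN : normalizer (P : Set G) = N := hc.normalizer_eq h hna
  have hse : IsStronglyEmbedded N := by rw [← hMN]; exact hc.embedded h hna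
  have hA : ∀ c : G, c ∈ CentTI.Aa T ↔ ∀ a ∈ (T : Subgroup G), a * c = c * a := by
    intro c
    rw [CentTI.mem_A_iff]
    refine ⟨fun hh a ha => ?_, fun hh t ht _ => hh t ht⟩
    by_cases ha1 : a = 1
    · simp [ha1]
    · exact hh a ha (h.sylow_two ha ha1)
  have hP : P ≤ CentTI.Aa T := fun x hx => (hA x).mpr fun a ha => hc.central h hna a ha x hx
  obtain ⟨a₀, ha₀, b₀, hb₀, hao, hbo, hne⟩ := exists_two h T (four_le hna T)
  have hsplit : ∀ o ∈ P, ∀ a ∈ (T : Subgroup G), (o * a) ^ r = a := by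
    intro o ho a ha
    rw [(show Commute o a from (hc.central h hna a ha o ho).symm).mul_pow, h.pow_r hc.max.1.1 ho, one_mul]
    obtain ⟨i, hi⟩ := h.odd
    rw [hi, pow_succ, pow_mul, pow_two, h.sq_eq_one T.2 ha, one_pow, one_mul]
  have hcentP : ∀ b ∈ P, b ≠ 1 → ∀ x : G, Commute b x → x ∈ N := by
    intro b hb hb1 x hx
    haveI := h.centralizer_r_solvable (h.orderOf_r hc.max.1.1 hb hb1)
    have hT : (T : Subgroup G) ≤ centralizer ({b} : Set G) := fun a ha =>
      mem_centralizer_singleton_iff.mpr (hc.central h hna a ha b hb)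
    obtain ⟨o, ho, n, hn, -, rfl⟩ := exists_decomp (h.sylow_comm T) hT (mem_centralizer_singleton_iff.mpr hx.eq.symm)
    refine mul_mem ?_ hn
    have hz : zpowers b ≤ OO (centralizer ({b} : Set G)) := by
      refine le_OO_of_invariant (h.sylow_comm T) hT (Subgroup.zpowers_le.mpr (mem_centralizer_singleton_iff.mpr rfl))
        ?_ fun a ha => Subgroup.mem_normalizer_fintype fun z hz => ?_
      · rw [Nat.card_zpowers, h.orderOf_r hc.max.1.1 hb hb1]; exact h.odd
      · obtain ⟨i, rfl⟩ := hz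
        refine ⟨i, ?_⟩
        have hab : Commute a (b ^ i) := (show Commute a b from hc.central h hna a ha b hb).zpow_right i
        show b ^ i = a * b ^ i * a⁻¹
        rw [hab.eq, mul_inv_cancel_right]
    have hle := le_of_meets h (four_le hna T) hc.max (inv_OO h (four_le hna T) hT)
      (ne_bot_of_le_ne_bot (Subgroup.zpowers_ne_bot.mpr hb1) (le_inf hz (Subgroup.zpowers_le.mpr hb)))
    exact hMN ▸ Subgroup.le_normalizer (hle ho)
  have hHyp : CentTI.Hyp T := by
    refine ⟨⟨a₀, ha₀, b₀, hb₀, hao, hbo, hne⟩, fun x hx => (hA x).mpr fun a ha => h.sylow_comm T a ha x hx,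
      fun c hc' => ?_, ?_, ?_, ?_, hse⟩
    · exact Subgroup.mem_normalizer_fintype fun a ha => by
        rw [← (hA c).mp hc' a ha, mul_inv_cancel_right]; exact ha
    · intro t ht hto x hx
      have hxN : x ∈ N := hMN ▸ hc.centralizer_le h hna ht hto (mem_centralizer_singleton_iff.mpr hx)
      refine (hA x).mpr fun a ha => ?_
      exact (mul_inv_eq_iff_eq_mul.mp (hc.stabiliser h hna hxN ht hto (by rw [hx, mul_inv_cancel_right]) a ha)).symm
    · intro b hb hb1 x hx
      obtain ⟨o, ho, a, ha, rfl⟩ := hc.centralizing h hna ((hA b).mp hb)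
      by_cases ha1 : a = 1
      · rw [ha1, mul_one] at hx hb1
        exact hcentP o ho hb1 x hx.symm
      · have h1 : Commute x a := hsplit o ho a ha ▸ (show Commute x (o * a) from hx).pow_right r
        show x ∈ N
        rw [← hMN]
        exact hc.centralizer_le h hna ha (h.sylow_two ha ha1) (mem_centralizer_singleton_iff.mpr h1.eq)
    · intro b hb g hg hgb
      obtain ⟨o, ho, a, ha, rfl⟩ := hc.centralizing h hna ((hA b).mp hb)
      obtain ⟨o', ho', a', ha', e'⟩ := hc.centralizing h hna ((hA _).mp hgb)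
      have he : g⁻¹ * a * g = a' := by
        rw [← hsplit o' ho' a' ha', ← e', show g⁻¹ * (o * a) * g = g⁻¹ * (o * a) * g⁻¹⁻¹ by group, conj_pow,
          hsplit o ho a ha, inv_inv]
      by_cases ha1 : a = 1
      · subst ha1
        have ha'1 : a' = 1 := by rw [← he]; group
        rw [ha'1, mul_one, mul_one] at e'
        rw [mul_one]
        by_contra ho1
        -- two Sylow subgroups of the centraliser
        have hT : (T : Subgroup G) ≤ centralizer ({o} : Set G) := fun c hc' =>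
          mem_centralizer_singleton_iff.mpr (hc.central h hna c hc' o ho)
        have hT' : ((g • T : Sylow 2 G) : Subgroup G) ≤ centralizer ({o} : Set G) := by
          intro c hc'
          rw [Sylow.coe_subgroup_smul, Subgroup.mem_pointwise_smul_iff_inv_smul_mem, MulAut.smul_def,
            MulAut.conj_inv_apply] at hc'
          refine mem_centralizer_singleton_iff.mpr ?_
          have h1 := hc.central h hna _ hc' o' ho'
          rw [← e'] at h1
          calc c * o = g * (g⁻¹ * c * g * (g⁻¹ * o * g)) * g⁻¹ := by group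
            _ = g * (g⁻¹ * o * g * (g⁻¹ * c * g)) * g⁻¹ := by rw [h1]
            _ = o * c := by group
        obtain ⟨k, hk⟩ := MulAction.exists_smul_eq (centralizer ({o} : Set G)) (T.subtype hT) ((g • T).subtype hT')
        have hkN : (k : G) ∈ N := hcentP o ho ho1 k (mem_centralizer_singleton_iff.mp k.2).symm
        have hTT : (T : Subgroup G) = ((g • T : Sylow 2 G) : Subgroup G) := by
          have h1 := congrArg (fun Q : Sylow 2 (centralizer ({o} : Set G)) =>
            (Q : Subgroup (centralizer ({o} : Set G))).map (Subgroup.subtype _)) hk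
          simp only [Sylow.coe_subgroup_smul, Sylow.coe_subtype] at h1
          rw [Subgroup.subgroupOf_map_subtype, inf_eq_left.mpr (Sylow.coe_subgroup_smul (g := g) (P := T) ▸ hT')] at h1
          rw [Sylow.coe_subgroup_smul, ← h1]
          ext x
          rw [Subgroup.mem_map]
          constructor
          · intro hx
            refine ⟨⟨x, hT hx⟩, ?_, rfl⟩
            rw [Subgroup.mem_pointwise_smul_iff_inv_smul_mem, Subgroup.mem_subgroupOf, MulAut.smul_def,
              MulAut.conj_inv_apply]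
            have := (Subgroup.mem_normalizer_iff.mp (inv_mem hkN) x).mp hx
            simpa using this
          · rintro ⟨⟨z, hz⟩, hz', rfl⟩
            rw [Subgroup.mem_pointwise_smul_iff_inv_smul_mem, Subgroup.mem_subgroupOf, MulAut.smul_def,
              MulAut.conj_inv_apply] at hz'
            have := (Subgroup.mem_normalizer_iff.mp hkN _).mp hz'
            simpa [mul_assoc] using this
        exact hg (Sylow.smul_eq_iff_mem_normalizer.mp (Sylow.ext hTT.symm))
      · exfalso
        refine hg ?_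
        have := StrongEmb.mem_of_conj hse (s := a) (Subgroup.le_normalizer ha) (h.sylow_two ha ha1) (g := g⁻¹)
          (by rw [inv_inv, he]; exact Subgroup.le_normalizer ha')
        simpa using inv_mem this
  haveI := Fintype.ofFinite G
  haveI := Fintype.ofFinite (G ⧸ CentTI.Nn T)
  obtain ⟨D, hDH, -, -⟩ := CentTI.exists_datum hHyp
  have hpp := D.isPrimePow_card
  rw [hDH] at hpp
  have h2 : 2 ∣ Nat.card (CentTI.Aa T) :=
    hao ▸ Subgroup.orderOf_dvd_natCard _ (hHyp.T_le ha₀)
  obtain ⟨x, hxP, hx1⟩ := (Subgroup.bot_or_exists_ne_one P).resolve_left hc.ne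
  have hr : r ∣ Nat.card (CentTI.Aa T) :=
    h.orderOf_r hc.max.1.1 hxP hx1 ▸ Subgroup.orderOf_dvd_natCard _ (hP hxP)
  obtain ⟨p, k, hp, -, hpk⟩ := (isPrimePow_nat_iff _).mp hpp
  rw [← hpk] at h2 hr
  exact h.ne_two (((Nat.prime_dvd_prime_iff_eq h.prime hp).mp (h.prime.dvd_of_dvd_pow hr)).trans
    ((Nat.prime_dvd_prime_iff_eq Nat.prime_two hp).mp (Nat.prime_two.dvd_of_dvd_pow h2)).symm)

end CfsgLib.TwoR
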