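import Cfsg.Agent.Lib.TwoR.CaseI
import Cfsg.Agent.Lib.BSW.Dihedral
import Cfsg.Agent.Lib.PSL2Spectrum

/-!
A simple group with a non-trivial core in the centraliser of an involution is a two-dimensional projective special
linear group.
-/

set_option autoImplicit false
set_option linter.unusedSectionVars false
set_option linter.style.haveILetI false

namespace CfsgLib.TwoR

open Subgroup

universe u

variable {G : Type u} [Group G] [Finite G] {r : ℕ} {T : Sylow 2 G}

/-- An involution without fixed points on an odd subgroup inverts it. -/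
theorem inverts_of_fpf {X : Subgroup G} {e : G} (he : orderOf e = 2) (heX : e ∈ normalizer (X : Set G))
    (hfix : ∀ x ∈ X, Commute e x → x = 1) : ∀ x ∈ X, e * x * e⁻¹ = x⁻¹ := by
  intro x hx
  set φ := X.normalizerMonoidHom ⟨e, heX⟩ with hφ
  have hfpf : MonoidHom.FixedPointFree (φ : X → X) := fun z hz =>
    Subtype.ext (hfix z z.2 (mul_inv_eq_iff_eq_mul.mp (congrArg Subtype.val hz)))
  have hinvol : Function.Involutive (φ : X → X) := fun z => by
    apply Subtype.ext
    show e * (e * (z : G) * e⁻¹) * e⁻¹ = z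
    rw [show e * (e * (z : G) * e⁻¹) * e⁻¹ = e * e * z * (e * e)⁻¹ by group,
      Involutions.mul_self_eq_one_of_orderOf he]
    group
  exact congrArg Subtype.val (congrFun (MonoidHom.FixedPointFree.coe_eq_inv_of_involutive hfpf hinvol) ⟨x, hx⟩)

/-- An element of odd order interchanging two elements fixes them. -/
theorem eq_of_swap {y x x' : G} (hy : Odd (orderOf y)) (h1 : y * x * y⁻¹ = x') (h2 : y * x' * y⁻¹ = x) : x' = x := by
  have hc : Commute (y ^ 2) x := by
    refine (mul_inv_eq_iff_eq_mul.mp ?_ : y ^ 2 * x = x * y ^ 2)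
    calc y ^ 2 * x * (y ^ 2)⁻¹ = y * (y * x * y⁻¹) * y⁻¹ := by rw [pow_two]; group
      _ = x := by rw [h1, h2]
  obtain ⟨m, hm⟩ := exists_pow_eq_self_of_coprime (x := y) (Nat.coprime_two_left.mpr hy)
  have hc' := hc.pow_left m
  rw [hm] at hc'
  rw [← h1, hc'.eq, mul_inv_cancel_right]

/-- The lines of a projective plane of order two cannot be two-coloured. -/
theorem fano : ∀ a b c d e f g : Bool, (a = b ∧ b = d) ∨ (a = c ∧ c = e) ∨ (b = c ∧ c = f) ∨ (a = f ∧ f = g) ∨
    (b = e ∧ e = g) ∨ (c = d ∧ d = g) ∨ (d = e ∧ e = f) := by decide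

/-- A line of constant colour in an elementary group of order at least eight. -/
theorem exists_line (h : Hyp G r) (T : Sylow 2 G) (h8 : 8 ≤ Nat.card (T : Subgroup G)) (col : G → Prop) :
    ∃ x ∈ (T : Subgroup G), ∃ y ∈ (T : Subgroup G), x ≠ 1 ∧ y ≠ 1 ∧ x ≠ y ∧
      ((col x ∧ col y ∧ col (x * y)) ∨ (¬ col x ∧ ¬ col y ∧ ¬ col (x * y))) := by
  classical
  haveI : Fintype (T : Subgroup G) := Fintype.ofFinite _
  rw [Nat.card_eq_fintype_card] at h8
  have hsq : ∀ a : (T : Subgroup G), a * a = 1 := fun a => Subtype.ext (h.sq_eq_one T.2 a.2)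
  have hcm : ∀ a b : (T : Subgroup G), a * b = b * a := fun a b => Subtype.ext (h.sylow_comm T a a.2 b b.2)
  have pick : ∀ s : Finset (T : Subgroup G), s.card < 8 → ∃ a, a ∉ s := by
    intro s hs
    by_contra hh
    push Not at hh
    have : (Finset.univ : Finset (T : Subgroup G)).card ≤ s.card := Finset.card_le_card fun a _ => hh a
    rw [Finset.card_univ] at this
    omega
  obtain ⟨a, ha⟩ := pick {1} (by simp)
  obtain ⟨b, hb⟩ := pick {1, a} (by have := Finset.card_le_two (a := (1 : (T : Subgroup G))) (b := a); omega)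
  obtain ⟨c, hc⟩ := pick {1, a, b, a * b} (by
    have := Finset.card_le_four (a := (1 : (T : Subgroup G))) (b := a) (c := b) (d := a * b)
    omega)
  simp only [Finset.mem_insert, Finset.mem_singleton, not_or] at ha hb hc
  have inv_eq : ∀ p q : (T : Subgroup G), p * q = 1 → p = q := fun p q e => by
    rw [mul_eq_one_iff_eq_inv.mp e, inv_eq_iff_mul_eq_one.mpr (hsq q)]
  have key : ∀ p q : (T : Subgroup G), p ≠ 1 → q ≠ 1 → p ≠ q → ((decide (col p) : Bool) = decide (col q)) →
      ((decide (col q) : Bool) = decide (col ((p * q : (T : Subgroup G)) : G))) →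
      ∃ x ∈ (T : Subgroup G), ∃ y ∈ (T : Subgroup G), x ≠ 1 ∧ y ≠ 1 ∧ x ≠ y ∧
        ((col x ∧ col y ∧ col (x * y)) ∨ (¬ col x ∧ ¬ col y ∧ ¬ col (x * y))) := by
    intro p q hp hq hpq e1 e2
    rw [decide_eq_decide] at e1 e2
    refine ⟨p, p.2, q, q.2, fun e => hp (Subtype.ext e), fun e => hq (Subtype.ext e),
      fun e => hpq (Subtype.ext e), ?_⟩
    by_cases hh : col p
    · exact Or.inl ⟨hh, e1.mp hh, e2.mp (e1.mp hh)⟩
    · exact Or.inr ⟨hh, fun h' => hh (e1.mpr h'), fun h' => hh (e1.mpr (e2.mpr h'))⟩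
  have hab : a * b ≠ 1 := fun e => hb.2 (inv_eq a b e).symm
  have hac : a * c ≠ 1 := fun e => hc.2.1 (inv_eq a c e).symm
  have hbc : b * c ≠ 1 := fun e => hc.2.2.1 (inv_eq b c e).symm
  rcases fano (decide (col a)) (decide (col b)) (decide (col c)) (decide (col ((a * b : (T : Subgroup G)) : G)))
      (decide (col ((a * c : (T : Subgroup G)) : G))) (decide (col ((b * c : (T : Subgroup G)) : G)))
      (decide (col ((a * b * c : (T : Subgroup G)) : G))) with
    e | e | e | e | e | e | e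
  · exact key a b ha hb.1 (Ne.symm hb.2) e.1 e.2
  · exact key a c ha hc.1 (Ne.symm hc.2.1) e.1 e.2
  · exact key b c hb.1 hc.1 (Ne.symm hc.2.2.1) e.1 e.2
  · refine key a (b * c) ha hbc (fun e' => hc.2.2.2 ?_) e.1 ?_
    · rw [e', hcm b c, mul_assoc, hsq, mul_one]
    · rw [← mul_assoc]; exact e.2
  · refine key b (a * c) hb.1 hac (fun e' => hc.2.2.2 ?_) e.1 ?_
    · rw [e', ← mul_assoc, hsq, one_mul]
    · rw [← mul_assoc, hcm b a]; exact e.2
  · refine key c (a * b) hc.1 hab (fun e' => hc.2.2.2 e') e.1 ?_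
    rw [hcm c]; exact e.2
  · refine key (a * b) (a * c) hab hac (fun e' => hc.2.2.1 (mul_left_cancel e').symm) e.1 ?_
    rw [show a * b * (a * c) = b * c by rw [hcm a b, mul_assoc, ← mul_assoc a a c, hsq, one_mul]]
    exact e.2

/-- Fixed points of an involution on an invariant `r`-subgroup lie in its core. -/
theorem mem_KK_of_commute (h : Hyp G r) {t : G} (ht : t ∈ (T : Subgroup G)) (hto : orderOf t = 2) {X : Subgroup G}
    (hX : Inv r T X) {x : G} (hx : x ∈ X) (hc : Commute t x) : x ∈ KK t :=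
  le_KK h ht hto (X := X ⊓ centralizer ({t} : Set G))
    ⟨hX.1.to_le inf_le_left, fun a ha => Subgroup.mem_normalizer_fintype fun z hz =>
      ⟨(Subgroup.mem_normalizer_iff.mp (hX.2 ha) z).mp hz.1,
        (centralizer ({t} : Set G)).mul_mem ((centralizer ({t} : Set G)).mul_mem (T_le_centralizer h ht ha) hz.2)
          ((centralizer ({t} : Set G)).inv_mem (T_le_centralizer h ht ha))⟩⟩
    (fun _ hz => (mem_centralizer_singleton_iff.mp hz.2).symm) ⟨hx, mem_centralizer_singleton_iff.mpr hc.eq.symm⟩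

section

variable (h : Hyp G r) (h4 : 4 ≤ Nat.card (T : Subgroup G))

include h h4

/-- An involution with a fixed point on an invariant subgroup of a maximal one has its core there. -/
theorem KK_le_of_fixed {t : G} (ht : t ∈ (T : Subgroup G)) (hto : orderOf t = 2) {P : Subgroup G}
    (hP : Maximal (Inv r T) P) {x : G} (hx : x ∈ P) (hx1 : x ≠ 1) (hc : Commute t x) : KK t ≤ P :=
  le_of_meets h h4 hP (inv_KK h h4 ht) fun e => hx1 ((Subgroup.eq_bot_iff_forall _).mp e x
    ⟨mem_KK_of_commute h ht hto hP.1 hx hc, hx⟩)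

/-- In rank at least three one maximal invariant subgroup contains all the cores. -/
theorem all_cores_le (h8 : 8 ≤ Nat.card (T : Subgroup G)) {a : G} (ha : a ∈ (T : Subgroup G)) (haK : KK a ≠ ⊥)
    {P : Subgroup G} (hP : Maximal (Inv r T) P) (haP : KK a ≤ P) {b : G} (hb : b ∈ (T : Subgroup G)) :
    KK b ≤ P := by
  by_cases hbK : KK b = ⊥
  · rw [hbK]; exact bot_le
  obtain ⟨Q, hbQ, hQ⟩ := exists_maximal_inv (inv_KK h h4 hb)
  obtain ⟨x, hx, y, hy, hx1, hy1, hxy, hcol⟩ :=
    exists_line h T h8 fun c => ∃ z ∈ KK a, z ≠ 1 ∧ Commute c z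
  have hxo := h.sylow_two hx hx1
  have hyo := h.sylow_two hy hy1
  rcases hcol with ⟨hcx, hcy, hcxy⟩ | ⟨hcx, hcy, hcxy⟩
  · obtain ⟨z, hz, hz1, hzc⟩ := exists_fixed (OO_odd _) hbK hxo hyo (h.sylow_comm T x hx y hy) hxy
      ((inv_KK h h4 hb).2 hx) ((inv_KK h h4 hb).2 hy)
    obtain ⟨c, hcT, hc1, hcz, z', hz', hz'1, hcz'⟩ :
        ∃ c ∈ (T : Subgroup G), c ≠ 1 ∧ Commute c z ∧ ∃ z' ∈ KK a, z' ≠ 1 ∧ Commute c z' := by
      rcases hzc with hzc | hzc | hzc
      · exact ⟨x, hx, hx1, hzc, hcx⟩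
      · exact ⟨y, hy, hy1, hzc, hcy⟩
      · refine ⟨x * y, mul_mem hx hy, fun e => hxy ?_, hzc, hcxy⟩
        rw [mul_eq_one_iff_eq_inv.mp e, Involutions.inv_eq_self_of_orderOf hyo]
    have hco := h.sylow_two hcT hc1
    have h1 : KK c ≤ P := KK_le_of_fixed h h4 hcT hco hP (haP hz') hz'1 hcz'
    have h2 : KK c ≤ Q := KK_le_of_fixed h h4 hcT hco hQ (hbQ hz) hz1 hcz
    rw [maximal_inv_eq h h4 hP hQ fun e => hz'1 ((Subgroup.eq_bot_iff_forall _).mp
      (eq_bot_iff.mpr ((le_inf h1 h2).trans e.le)) z' (mem_KK_of_commute h hcT hco (inv_KK h h4 ha) hz' hcz'))]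
    exact hbQ
  · exfalso
    obtain ⟨z, hz, hz1, hzc⟩ := exists_fixed (OO_odd _) haK hxo hyo (h.sylow_comm T x hx y hy) hxy
      ((inv_KK h h4 ha).2 hx) ((inv_KK h h4 ha).2 hy)
    rcases hzc with hzc | hzc | hzc
    · exact hcx ⟨z, hz, hz1, hzc⟩
    · exact hcy ⟨z, hz, hz1, hzc⟩
    · exact hcxy ⟨z, hz, hz1, hzc⟩

end

/-- Identification of the field. -/
theorem field_conditions (h : Hyp G r) (h2r : ∃ g : G, orderOf g = 2 * r) (F : Type) [Field F] [Fintype F]
    (hodd : Odd (Fintype.card F)) (e : G ≃* Matrix.ProjectiveSpecialLinearGroup (Fin 2) F) :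
    5 < Fintype.card F ∧ (Fintype.card F % 8 = 3 ∨ Fintype.card F % 8 = 5) := by
  set p := ringChar F
  haveI : CharP F p := ringChar.charP F
  haveI := Fact.mk (CharP.char_is_prime F p)
  obtain ⟨f, hp, hq⟩ := FiniteField.card F p
  have hp2 : p ≠ 2 := fun e2 => by
    rw [hq, e2] at hodd
    exact Nat.not_odd_iff_even.mpr (Nat.even_pow.mpr ⟨even_two, f.2.ne'⟩) hodd
  have hq1 : 1 < Fintype.card F := Fintype.one_lt_card
  obtain ⟨i, hi⟩ := hodd
  have hg : Nat.gcd 2 (Fintype.card F - 1) = 2 := Nat.gcd_eq_left ⟨i, by omega⟩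
  have ord : ∀ n : ℕ, (∃ g : G, orderOf g = n) ↔ n ∣ (Fintype.card F - 1) / 2 ∨ n ∣ (Fintype.card F + 1) / 2 ∨ n = p := by
    intro n
    have := PSL2Spectrum.psl_orders (F := F) p n
    rw [hg] at this
    rw [← this]
    exact ⟨fun ⟨g, hg'⟩ => ⟨e g, by rw [e.orderOf_eq, hg']⟩, fun ⟨g, hg'⟩ => ⟨e.symm g, by rw [e.symm.orderOf_eq, hg']⟩⟩
  have h4 : ¬ ∃ g : G, orderOf g = 4 := by
    rintro ⟨g, hg'⟩
    rcases h.two g (by rw [hg']; exact ⟨2, rfl⟩) with e' | e'
    · omega
    · have := h.odd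
      rcases this with ⟨j, hj⟩
      omega
  rw [ord] at h4
  push Not at h4
  refine ⟨?_, ?_⟩
  · by_contra hle
    have hr3 : 3 ≤ r := by
      have := h.prime.two_le
      have := h.ne_two
      omega
    rcases (ord _).mp h2r with h' | h' | h'
    · by_cases h0 : (Fintype.card F - 1) / 2 = 0
      · omega
      · have := Nat.le_of_dvd (Nat.pos_of_ne_zero h0) h'
        omega
    · have := Nat.le_of_dvd (by omega) h'
      omega
    · exact hp2 ((Nat.prime_dvd_prime_iff_eq Nat.prime_two (CharP.char_is_prime F p)).mp (h' ▸ dvd_mul_right 2 r)).symm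
  · have h1 : ¬ 4 ∣ (Fintype.card F - 1) / 2 := h4.1
    have h2 : ¬ 4 ∣ (Fintype.card F + 1) / 2 := h4.2.1
    omega

/-- Some core is non-trivial: the group is a two-dimensional projective special linear group. -/
theorem psl_of_core [IsSimpleGroup G] (h : Hyp G r) (hna : ∃ a b : G, a * b ≠ b * a)
    (h2r : ∃ g : G, orderOf g = 2 * r) (T : Sylow 2 G) {a : G} (ha : a ∈ (T : Subgroup G)) (hao : orderOf a = 2)
    (haK : KK a ≠ ⊥) :
    ∃ (F : Type) (_ : Field F) (_ : Fintype F), 5 < Fintype.card F ∧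
      (Fintype.card F % 8 = 3 ∨ Fintype.card F % 8 = 5) ∧
      Nonempty (G ≃* Matrix.ProjectiveSpecialLinearGroup (Fin 2) F) := by
  classical
  haveI : Fact (Nat.Prime 2) := ⟨Nat.prime_two⟩
  have h4 := four_le hna T
  obtain ⟨P, haP, hP⟩ := exists_maximal_inv (inv_KK h h4 ha)
  by_cases hall : ∀ t ∈ (T : Subgroup G), orderOf t = 2 → KK t ≤ P
  · exact (CaseOne.false h hna ⟨hP, ne_bot_of_le_ne_bot haK haP, hall, ⟨a, ha, hao, haK⟩⟩).elim
  push Not at hall
  obtain ⟨b, hb, hbo, hbP⟩ := hall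
  have hcard : Nat.card (T : Subgroup G) = 4 := by
    obtain ⟨j, hj⟩ := IsPGroup.iff_card.mp T.2
    by_contra hne
    rw [hj] at h4 hne
    have hj3 : 3 ≤ j := by
      by_contra hlt
      interval_cases j <;> simp_all
    exact hbP (all_cores_le h (hj ▸ h4) (by rw [hj]; exact le_trans (by norm_num) (Nat.pow_le_pow_right two_pos hj3))
      ha haK hP haP hb)
  have hne : b ≠ a := fun e => hbP (e ▸ haP)
  set c := a * b with hc
  have hcT : c ∈ (T : Subgroup G) := mul_mem ha hb
  have hc1 : c ≠ 1 := fun e => hne (by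
    have e' : a * b = 1 := e
    rw [mul_eq_one_iff_eq_inv.mp e', Involutions.inv_eq_self_of_orderOf hbo])
  have hco := h.sylow_two hcT hc1
  have hca : c ≠ a := fun e => by
    rw [hc, mul_eq_left] at e
    rw [e, orderOf_one] at hbo
    omega
  have hcb : c ≠ b := fun e => by
    rw [hc, mul_eq_right] at e
    rw [e, orderOf_one] at hao
    omega
  have ha1 : a ≠ 1 := fun e => by rw [e, orderOf_one] at hao; omega
  have hb1 : b ≠ 1 := fun e => by rw [e, orderOf_one] at hbo; omega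
  have hel : ∀ x ∈ (T : Subgroup G), x = 1 ∨ x = a ∨ x = b ∨ x = c := by
    haveI : Fintype (T : Subgroup G) := Fintype.ofFinite _
    rw [Nat.card_eq_fintype_card] at hcard
    have hs : ({1, ⟨a, ha⟩, ⟨b, hb⟩, ⟨c, hcT⟩} : Finset (T : Subgroup G)) = Finset.univ := by
      refine Finset.eq_univ_of_card _ ?_
      rw [hcard, Finset.card_insert_of_notMem (by simp [Subtype.ext_iff, ha1.symm, hb1.symm, hc1.symm]),
        Finset.card_insert_of_notMem (by simp [Subtype.ext_iff, Ne.symm hne, Ne.symm hca]),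
        Finset.card_pair (by simp [Subtype.ext_iff, Ne.symm hcb])]
    intro x hx
    have := hs ▸ Finset.mem_univ (⟨x, hx⟩ : (T : Subgroup G))
    simpa [Subtype.ext_iff] using this
  -- an element of the normaliser rotating the three involutions
  obtain ⟨z, hzT, hza, hzc⟩ : ∃ z ∈ normalizer ((T : Subgroup G) : Set G), z * a * z⁻¹ = c ∧ z * c * z⁻¹ = b := by
    obtain ⟨n, hn, hact⟩ := exists_moving hna T
    obtain ⟨y, -, hyT, hyp, hy2, w, hw, hyw⟩ := exists_prime_acting h T hn hact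
    have hyodd := hyp.odd_of_ne_two hy2
    have hin : ∀ x ∈ (T : Subgroup G), y * x * y⁻¹ ∈ (T : Subgroup G) := fun x hx =>
      (Subgroup.mem_normalizer_iff.mp hyT x).mp hx
    have hinj : ∀ p q : G, y * p * y⁻¹ = y * q * y⁻¹ → p = q := fun p q e => mul_left_cancel (mul_right_cancel e)
    have hne1 : ∀ p : G, p ≠ 1 → y * p * y⁻¹ ≠ 1 := fun p hp e => hp (conj_eq_one_iff.mp e)
    have hfa : y * a * y⁻¹ ≠ a := by
      intro e
      have hfb : y * b * y⁻¹ = b := by
        rcases hel _ (hin b hb) with e' | e' | e' | e'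
        · exact absurd e' (hne1 b hb1)
        · exact absurd (hinj b a (e'.trans e.symm)) hne
        · exact e'
        · have : y * c * y⁻¹ = b := by
            rw [hc, show y * (a * b) * y⁻¹ = y * a * y⁻¹ * (y * b * y⁻¹) by group, e, e', hc, ← mul_assoc,
              h.sq_eq_one T.2 ha, one_mul]
          exact absurd (eq_of_swap hyodd e' this) hcb
      apply hyw
      rcases hel w hw with rfl | rfl | rfl | rfl
      · simp
      · exact e
      · exact hfb
      · rw [hc, show y * (a * b) * y⁻¹ = y * a * y⁻¹ * (y * b * y⁻¹) by group, e, hfb]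
    rcases hel _ (hin a ha) with e | e | e | e
    · exact absurd e (hne1 a ha1)
    · exact absurd e hfa
    · -- `a ↦ b`
      have hyb : y * b * y⁻¹ = c := by
        rcases hel _ (hin b hb) with e' | e' | e' | e'
        · exact absurd e' (hne1 b hb1)
        · exact absurd (eq_of_swap hyodd e e') hne
        · exact absurd (hinj b a (e'.trans e.symm)) hne
        · exact e'
      have hyc : y * c * y⁻¹ = a := by
        rw [hc, show y * (a * b) * y⁻¹ = y * a * y⁻¹ * (y * b * y⁻¹) by group, e, hyb, hc,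
          ← mul_assoc, h.sylow_comm T b hb a ha, mul_assoc, h.sq_eq_one T.2 hb, mul_one]
      refine ⟨y * y, mul_mem hyT hyT, ?_, ?_⟩
      · rw [show y * y * a * (y * y)⁻¹ = y * (y * a * y⁻¹) * y⁻¹ by group, e, hyb]
      · rw [show y * y * c * (y * y)⁻¹ = y * (y * c * y⁻¹) * y⁻¹ by group, hyc, e]
    · refine ⟨y, hyT, e, ?_⟩
      rcases hel _ (hin c hcT) with e' | e' | e' | e'
      · exact absurd e' (hne1 c hc1)
      · exact absurd (eq_of_swap hyodd e e') hca
      · exact e'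
      · exact absurd (hinj c a (e'.trans e.symm)) hca
  have hconj : ∀ Q : Subgroup G, Maximal (Inv r T) Q → Inv r T (Q.map (MulAut.conj z).toMonoidHom) := fun Q hQ =>
    ⟨hQ.1.1.map _, fun s hs => Subgroup.mem_normalizer_fintype fun x hx => by
      obtain ⟨x', hx', rfl⟩ := hx
      have hs' : z⁻¹ * s * z ∈ (T : Subgroup G) := by
        have := (Subgroup.mem_normalizer_iff.mp (inv_mem hzT) s).mp hs
        rwa [inv_inv] at this
      refine ⟨z⁻¹ * s * z * x' * (z⁻¹ * s * z)⁻¹, (Subgroup.mem_normalizer_iff.mp (hQ.1.2 hs') x').mp hx', ?_⟩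
      show z * (z⁻¹ * s * z * x' * (z⁻¹ * s * z)⁻¹) * z⁻¹ = s * (z * x' * z⁻¹) * s⁻¹
      group⟩
  have hcP : ¬ KK c ≤ P := by
    intro hcP
    have hKc : KK c ≠ ⊥ := by
      rw [← hza, ← KK_conj, Ne, Subgroup.map_eq_bot_iff_of_injective _ (MulAut.conj z).injective]
      exact haK
    have h1 : P.map (MulAut.conj z).toMonoidHom ≤ P := le_of_meets h h4 hP (hconj P hP) (ne_bot_of_le_ne_bot hKc
      (le_inf (hza ▸ KK_conj a z ▸ Subgroup.map_mono haP) hcP))
    exact hbP (hzc ▸ KK_conj c z ▸ (Subgroup.map_mono hcP).trans h1)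
  -- the two other involutions invert `P`
  have hinvP : ∀ s ∈ (T : Subgroup G), s = b ∨ s = c → ∀ x ∈ P, s * x * s⁻¹ = x⁻¹ := by
    intro s hs hsbc
    have hso : orderOf s = 2 := by rcases hsbc with rfl | rfl <;> assumption
    have hsP : ¬ KK s ≤ P := by rcases hsbc with rfl | rfl <;> assumption
    refine inverts_of_fpf hso (hP.1.2 hs) fun x hx hcx => ?_
    by_contra hx1
    exact hsP (KK_le_of_fixed h h4 hs hso hP hx hx1 hcx)
  have haPc : ∀ x ∈ P, Commute a x := by
    intro x hx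
    have e : a = c * b := by rw [hc, mul_assoc, h.sq_eq_one T.2 hb, mul_one]
    refine (mul_inv_eq_iff_eq_mul.mp ?_ : a * x = x * a)
    rw [e, show c * b * x * (c * b)⁻¹ = c * (b * x * b⁻¹) * c⁻¹ by group, hinvP b hb (Or.inl rfl) x hx,
      hinvP c hcT (Or.inr rfl) x⁻¹ (inv_mem hx), inv_inv]
  have hKP : KK a = P := le_antisymm haP (le_KK h ha hao hP.1 haPc)
  have hfpf : ∀ s ∈ (T : Subgroup G), s = b ∨ s = c → ∀ x ∈ P, Commute s x → x = 1 := by
    intro s hs hsbc x hx hcx
    have h1 := hinvP s hs hsbc x hx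
    rw [hcx.eq, mul_inv_cancel_right] at h1
    have h2 : x ^ 2 = 1 := by
      rw [pow_two]
      exact eq_inv_iff_mul_eq_one.mp h1
    exact orderOf_eq_one_iff.mp (Nat.eq_one_of_dvd_coprimes h.coprime_two (orderOf_dvd_of_pow_eq_one h2)
      (orderOf_dvd_of_pow_eq_one (h.pow_r hP.1.1 hx)))
  obtain ⟨F, _, _, hodd, ⟨e⟩⟩ : ∃ (F : Type) (_ : Field F) (_ : Fintype F), Odd (Fintype.card F) ∧
      Nonempty (G ≃* Matrix.ProjectiveSpecialLinearGroup (Fin 2) F) := by
    haveI : Nontrivial (T : Subgroup G) := ⟨⟨⟨a, ha⟩, 1, fun e => ha1 (congrArg Subtype.val e)⟩⟩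
    haveI : IsKleinFour (T : Subgroup G) :=
      ⟨hcard, (Monoid.exponent_eq_prime_iff Nat.prime_two).mpr fun g hg => by
        rw [← Subgroup.orderOf_coe]
        exact h.sylow_two g.2 fun e => hg (Subtype.ext e)⟩
    haveI : IsKleinFour (DihedralGroup 2) := inferInstance
    refine BSW.psl2_of_dihedral T 2 le_rfl (IsKleinFour.nonempty_mulEquiv.some) a hao ha
      (fun s hs => h.sylow_comm T s hs a ha) (KK a) rfl (fun hO => ?_) (fun s hs hsC y hy => ?_) (fun Y hY hY1 => ?_)
    · have hS : (T : Subgroup G) ⊓ centralizer (KK a : Set G) = zpowers a := by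
        refine le_antisymm (fun s hs => ?_) (Subgroup.zpowers_le.mpr ⟨ha, Subgroup.mem_centralizer_iff.mpr
          fun x hx => (haPc x (hKP ▸ hx)).eq.symm⟩)
        obtain ⟨x, hx, hx1⟩ := (Subgroup.bot_or_exists_ne_one _).resolve_left haK
        rcases hel s hs.1 with rfl | rfl | rfl | rfl
        · exact one_mem _
        · exact mem_zpowers _
        · exact absurd (hfpf _ hs.1 (Or.inl rfl) x (hKP ▸ hx) (Subgroup.mem_centralizer_iff.mp hs.2 x hx).symm) hx1
        · exact absurd (hfpf _ hs.1 (Or.inr rfl) x (hKP ▸ hx) (Subgroup.mem_centralizer_iff.mp hs.2 x hx).symm) hx1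
      rw [hS]
      refine ⟨inferInstance, ?_⟩
      have h1 := Subgroup.card_mul_index ((zpowers a).subgroupOf (T : Subgroup G))
      rw [Nat.card_congr (Subgroup.subgroupOfEquivOfLe (Subgroup.zpowers_le.mpr ha)).toEquiv, Nat.card_zpowers,
        hao, hcard] at h1
      show ((zpowers a).subgroupOf (T : Subgroup G)).index = 2
      omega
    · rcases hel s hs with rfl | rfl | rfl | rfl
      · exact absurd (one_mem _) hsC
      · exact absurd (Subgroup.mem_centralizer_iff.mpr fun x hx => (haPc x (hKP ▸ hx)).eq.symm) hsC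
      · exact hinvP _ hs (Or.inl rfl) y (hKP ▸ hy)
      · exact hinvP _ hs (Or.inr rfl) y (hKP ▸ hy)
    · have hYP : Y ≤ P := hKP ▸ hY
      have hTY : (T : Subgroup G) ≤ normalizer (Y : Set G) := fun s hs => Subgroup.mem_normalizer_fintype fun x hx => by
        rcases hel s hs with rfl | rfl | rfl | rfl
        · simpa using hx
        · rw [(haPc x (hYP hx)).eq, mul_inv_cancel_right]; exact hx
        · rw [hinvP _ hs (Or.inl rfl) x (hYP hx)]; exact inv_mem hx
        · rw [hinvP _ hs (Or.inr rfl) x (hYP hx)]; exact inv_mem hx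
      have hYinv : Inv r T Y := ⟨hP.1.1.to_le hYP, hTY⟩
      haveI := local_solvable h hYinv hY1
      intro g hg
      obtain ⟨o, ho, n, hn, hnY, rfl⟩ := exists_decomp (h.sylow_comm T) hTY hg
      have hoP : OO (normalizer (Y : Set G)) ≤ P := le_of_meets h h4 hP (inv_OO h h4 hTY)
        (ne_bot_of_le_ne_bot hY1 (le_inf (le_OO Subgroup.le_normalizer le_rfl (h.odd_card hYinv.1)) hYP))
      refine mul_mem (mem_centralizer_singleton_iff.mpr (haPc o (hoP ho)).eq.symm)
        (mem_centralizer_singleton_iff.mpr ?_)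
      obtain ⟨x, hx, hx1⟩ := (Subgroup.bot_or_exists_ne_one _).resolve_left hY1
      have hs : n * a * n⁻¹ ∈ (T : Subgroup G) := (Subgroup.mem_normalizer_iff.mp hn a).mp ha
      have hx' : n⁻¹ * x * n ∈ Y := by
        have := (Subgroup.mem_normalizer_iff.mp (inv_mem hnY) x).mp hx
        rwa [inv_inv] at this
      have hcx : Commute (n * a * n⁻¹) x := by
        show n * a * n⁻¹ * x = x * (n * a * n⁻¹)
        calc n * a * n⁻¹ * x = n * (a * (n⁻¹ * x * n)) * n⁻¹ := by group
          _ = n * (n⁻¹ * x * n * a) * n⁻¹ := by rw [(haPc _ (hYP hx')).eq]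
          _ = _ := by group
      rcases hel _ hs with e | e | e | e
      · exact absurd (conj_eq_one_iff.mp e) ha1
      · exact mul_inv_eq_iff_eq_mul.mp e
      · exact absurd (hfpf _ hb (Or.inl rfl) x (hYP hx) (e ▸ hcx)) hx1
      · exact absurd (hfpf _ hcT (Or.inr rfl) x (hYP hx) (e ▸ hcx)) hx1
  obtain ⟨h5, h8⟩ := field_conditions h h2r F hodd e
  exact ⟨F, inferInstance, inferInstance, h5, h8, ⟨e⟩⟩

end CfsgLib.TwoR
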