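import Cfsg.Agent.Lib.TwoR.CaseI
import Cfsg.Agent.Lib.NoDivPair.Basic

/-!
Trivial cores: the automorphisms induced on the Sylow two-subgroup form a cyclic group acting regularly, extended
by a group of order `r`.
-/

set_option autoImplicit false
set_option linter.unusedSectionVars false
set_option linter.style.haveILetI false

namespace CfsgLib.TwoR

open Subgroup
open scoped IsMulCommutative

universe u

/-- A group of automorphisms of odd prime power order without fixed points on an abelian group is cyclic. -/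
theorem isCyclic_pgroup_fpf {M : Type u} [CommGroup M] [Finite M] [Nontrivial M] {p : ℕ} [Fact p.Prime] (hp2 : p ≠ 2)
    (A : Subgroup (MulAut M)) (hA : IsPGroup p A) (hfpf : ∀ a ∈ A, a ≠ 1 → ∀ m, a m = m → m = 1) : IsCyclic A := by
  haveI : Finite A := Finite.of_injective (fun a : A => ((a : MulAut M) : M → M))
    fun a b h => Subtype.ext (MulEquiv.ext (congrFun h))
  haveI : Finite (M ⋊[A.subtype] A) := Finite.of_equiv _ SemidirectProduct.equivProd.symm
  set V := (SemidirectProduct.inl (φ := A.subtype)).range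
  set A' := (SemidirectProduct.inr (φ := A.subtype)).range
  haveI : IsMulCommutative V := ⟨⟨fun a b => Subtype.ext (by
    obtain ⟨x, hx⟩ := a.2
    obtain ⟨y, hy⟩ := b.2
    rw [Subgroup.coe_mul, Subgroup.coe_mul, ← hx, ← hy, ← map_mul, ← map_mul, mul_comm])⟩⟩
  have hVn : V.Normal := by
    show (SemidirectProduct.inl (φ := A.subtype)).range.Normal
    rw [SemidirectProduct.range_inl_eq_ker_rightHom]; infer_instance
  have hV : V ≠ ⊥ := by
    obtain ⟨m, hm⟩ := exists_ne (1 : M)
    intro e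
    exact hm (SemidirectProduct.inl_injective ((Subgroup.mem_bot.mp (e ▸ ⟨m, rfl⟩ :
      SemidirectProduct.inl m ∈ (⊥ : Subgroup (M ⋊[A.subtype] A)))).trans (map_one _).symm))
  have hf : ∀ x ∈ A', x ≠ 1 → V ⊓ Subgroup.centralizer {x} = ⊥ := by
    rintro _ ⟨a, rfl⟩ hne
    refine eq_bot_iff.mpr ?_
    rintro _ ⟨⟨m, rfl⟩, hc⟩
    have h1 := Subgroup.mem_centralizer_singleton_iff.mp hc
    have ha : (a : MulAut M) ≠ 1 := fun e => hne (by rw [show a = 1 from Subtype.ext e, map_one])
    have h2 := congrArg SemidirectProduct.left h1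
    simp at h2
    rw [Subgroup.mem_bot, hfpf a a.2 ha m h2.symm, map_one]
  have e := MonoidHom.ofInjective (f := SemidirectProduct.inr (φ := A.subtype)) SemidirectProduct.inr_injective
  have hu := Frob.uniqSub_of_fpf hV (A := A') (by rw [Subgroup.normalizer_eq_top_iff.mpr hVn]; exact le_top) hf
    (hA.of_equiv e)
  haveI := Frob.isCyclic_of_uniq_odd hp2 (hA.of_equiv e) hu
  exact isCyclic_of_surjective e.symm e.symm.surjective

variable {G : Type u} [Group G] [Finite G] {r : ℕ}

/-- The data when all cores are trivial. -/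
structure Three (r : ℕ) (T : Sylow 2 G) (F : Subgroup (autT T)) : Prop where
  four : 4 ≤ Nat.card (T : Subgroup G)
  cent : ∀ t ∈ (T : Subgroup G), orderOf t = 2 → ∀ g : G, Commute t g → g ∈ normalizer ((T : Subgroup G) : Set G)
  centT : ∀ g : G, (∀ a ∈ (T : Subgroup G), a * g = g * a) → g ∈ (T : Subgroup G)
  embedded : Cfsg.IsStronglyEmbedded (normalizer ((T : Subgroup G) : Set G))
  normal : F.Normal
  cyclic : IsCyclic F
  card_F : Nat.card F + 1 = Nat.card (T : Subgroup G)
  card_A : Nat.card (autT T) = Nat.card F * r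
  lt : r < Nat.card F
  mem_iff : ∀ β : autT T, β ∈ F ↔ ¬ r ∣ orderOf β
  semiregular : ∀ f ∈ F, ∀ a : (T : Subgroup G), a ≠ 1 → (f : MulAut (T : Subgroup G)) a = a → f = 1

/-- The structure when all cores are trivial. -/
theorem exists_three [IsSimpleGroup G] (h : Hyp G r) (hna : ∃ a b : G, a * b ≠ b * a)
    (h2r : ∃ g : G, orderOf g = 2 * r) (T : Sylow 2 G)
    (hK : ∀ t ∈ (T : Subgroup G), orderOf t = 2 → KK t = ⊥) : ∃ F, Three r T F := by
  classical
  haveI : Fact (Nat.Prime 2) := ⟨Nat.prime_two⟩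
  haveI := Fact.mk h.prime
  haveI : IsMulCommutative (T : Subgroup G) := ⟨⟨fun a b => Subtype.ext (h.sylow_comm T a a.2 b b.2)⟩⟩
  set N := normalizer ((T : Subgroup G) : Set G) with hN
  have h4 := four_le hna T
  have hcent : ∀ t ∈ (T : Subgroup G), orderOf t = 2 → ∀ g : G, Commute t g → g ∈ N := by
    intro t ht hto g hg
    obtain ⟨k, hk, n, hn, -, rfl⟩ := centralizer_decomp h ht hto hg
    rw [hK t ht hto, Subgroup.mem_bot] at hk
    rw [hk, one_mul]
    exact hn
  obtain ⟨t₀, ht₀, -, -, hto₀, -, -⟩ := exists_two h T h4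
  have hcentT : ∀ g : G, (∀ a ∈ (T : Subgroup G), a * g = g * a) → g ∈ (T : Subgroup G) := by
    intro g hg
    haveI := h.centralizer_two_solvable hto₀
    obtain ⟨o, ho, a, ha, rfl⟩ := mem_of_centralizes (h.sylow_comm T) (T_le_centralizer h ht₀)
      (mem_centralizer_singleton_iff.mpr (hg t₀ ht₀).symm) hg
    have ho' : o ∈ KK t₀ := ho
    rw [hK t₀ ht₀ hto₀, Subgroup.mem_bot] at ho'
    rw [ho', one_mul]
    exact ha
  have hNtop : N ≠ ⊤ := by
    intro e
    haveI hn : (T : Subgroup G).Normal := Subgroup.normalizer_eq_top_iff.mp e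
    rcases hn.eq_bot_or_eq_top with h1 | h1
    · rw [h1, Subgroup.card_bot] at h4; omega
    · obtain ⟨a, b, hab⟩ := hna
      exact hab (h.sylow_comm T a (h1 ▸ mem_top a) b (h1 ▸ mem_top b))
  have hse : Cfsg.IsStronglyEmbedded N := strongly_embedded_of T hNtop
    (fun e => by rw [e, Subgroup.card_bot] at h4; omega) le_rfl
    (fun t ht hto g hg => hcent t ht hto g (mem_centralizer_singleton_iff.mp hg).symm) (h.sylow_comm T)
  have htr : ∀ a b : (T : Subgroup G), a ≠ 1 → b ≠ 1 → ∃ α : autT T, (α : MulAut (T : Subgroup G)) a = b := by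
    intro a b ha hb
    obtain ⟨g, hg, e⟩ := CIT.conj_of_stronglyEmbedded hse (Subgroup.le_normalizer a.2)
      (h.sylow_two a.2 fun e => ha (Subtype.ext e)) (Subgroup.le_normalizer b.2)
      (h.sylow_two b.2 fun e => hb (Subtype.ext e))
    exact ⟨⟨conjT T ⟨g, hg⟩, _, rfl⟩, Subtype.ext e⟩
  -- an element of order `r` fixing an involution
  obtain ⟨n, t, hn, ht, hno, hto, hnt⟩ : ∃ n t : G, n ∈ N ∧ t ∈ (T : Subgroup G) ∧ orderOf n = r ∧ orderOf t = 2 ∧
      Commute t n := by
    obtain ⟨g, hg⟩ := h2r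
    have hu : orderOf (g ^ r) = 2 := by
      rw [orderOf_pow_of_dvd h.prime.ne_zero (hg ▸ dvd_mul_left r 2), hg, Nat.mul_div_cancel _ h.prime.pos]
    have hx : orderOf (g ^ 2) = r := by
      rw [orderOf_pow_of_dvd two_ne_zero (hg ▸ dvd_mul_right 2 r), hg, Nat.mul_div_cancel_left _ two_pos]
    obtain ⟨Q, hQ⟩ := (IsPGroup.of_card (n := 1) (by rw [Nat.card_zpowers, hu, pow_one]) :
      IsPGroup 2 (zpowers (g ^ r))).exists_le_sylow
    obtain ⟨c, hc⟩ := MulAction.exists_smul_eq G Q T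
    have ht : c * g ^ r * c⁻¹ ∈ (T : Subgroup G) := by
      rw [← hc, Sylow.coe_subgroup_smul]
      exact Subgroup.smul_mem_pointwise_smul _ (MulAut.conj c) _ (hQ (mem_zpowers _))
    have hcom : Commute (c * g ^ r * c⁻¹) (c * g ^ 2 * c⁻¹) :=
      (Commute.pow_pow_self g r 2).map (MulAut.conj c).toMonoidHom
    have hto : orderOf (c * g ^ r * c⁻¹) = 2 := by rw [Involutions.orderOf_conj, hu]
    exact ⟨_, _, hcent _ ht hto _ hcom, ht, by rw [Involutions.orderOf_conj, hx], hto, hcom⟩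
  have hlift : ∀ (g : G) (hg : g ∈ N), (⟨conjT T ⟨g, hg⟩, _, rfl⟩ : autT T) = 1 → g ∈ (T : Subgroup G) := by
    intro g hg e
    refine hcentT g fun a ha => ?_
    exact (mul_inv_eq_iff_eq_mul.mp ((conjT_eq_one (hg := hg)).mp (congrArg Subtype.val e) a ha)).symm
  set α : autT T := ⟨conjT T ⟨n, hn⟩, _, rfl⟩ with hαdef
  have hαo : orderOf α = r := by
    have hd : orderOf α ∣ r := by
      rw [← hno, ← Subgroup.orderOf_coe, ← Subgroup.orderOf_mk n hn]
      exact orderOf_map_dvd _ _
    refine ((Nat.dvd_prime h.prime).mp hd).resolve_left fun e => ?_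
    have hnT := hlift n hn (orderOf_eq_one_iff.mp e)
    have h2 := h.sq_eq_one T.2 hnT
    have := orderOf_dvd_of_pow_eq_one (pow_two n ▸ h2 : n ^ 2 = 1)
    rw [hno] at this
    exact h.ne_two ((Nat.prime_dvd_prime_iff_eq h.prime Nat.prime_two).mp this)
  have ht1 : (⟨t, ht⟩ : (T : Subgroup G)) ≠ 1 := fun e => by
    rw [show t = 1 from congrArg Subtype.val e, orderOf_one] at hto
    omega
  have hαt : (α : MulAut (T : Subgroup G)) ⟨t, ht⟩ = ⟨t, ht⟩ :=
    Subtype.ext (show n * t * n⁻¹ = t by rw [← hnt.eq, mul_inv_cancel_right])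
  have hα1 : α ≠ 1 := fun e => by rw [e, orderOf_one] at hαo; exact h.prime.ne_one hαo.symm
  have hnotr : ¬ IsPGroup r (autT T) := fun hall => hα1 (autT_regular_of_pgroup h hall h4 htr ht1 hαt)
  obtain ⟨β₀, hβ₀, hβ₀r⟩ : ∃ β : autT T, (orderOf β).Prime ∧ orderOf β ≠ r := by
    by_contra hh
    push Not at hh
    refine hnotr (IsPGroup.of_card (Nat.eq_prime_pow_of_unique_prime_dvd Nat.card_pos.ne' fun {p} hp hd => ?_))
    haveI := Fact.mk hp
    obtain ⟨β, hβ⟩ := exists_prime_orderOf_dvd_card' (G := autT T) p hd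
    exact hβ ▸ hh β (hβ ▸ hp)
  haveI := autT_solvable (T := T) h
  set F := Cfsg.fittingSubgroup (autT T) with hFdef
  haveI hFn : F.Normal := inferInstance
  haveI : Group.IsNilpotent F := CfsgLib.isNilpotent_fittingSubgroup
  have hrF : ¬ r ∣ Nat.card F := by
    intro hd
    obtain ⟨Q₀⟩ : Nonempty (Sylow r F) := inferInstance
    haveI hQ₀n : (Q₀ : Subgroup F).Normal := inferInstance
    haveI : (Q₀ : Subgroup F).Characteristic := Sylow.characteristic_of_normal Q₀ hQ₀n
    have hnorm : ((Q₀ : Subgroup F).map F.subtype).Normal := inferInstance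
    have := autT_rgroup_bot h ((Q₀ : Subgroup F).map F.subtype) (Q₀.2.map _) (β := β₀)
      (by rw [Subgroup.normalizer_eq_top_iff.mpr hnorm]; exact mem_top β₀) hβ₀ hβ₀r
    rw [Subgroup.map_eq_bot_iff_of_injective _ F.subtype_injective] at this
    exact Q₀.ne_bot_of_dvd_card hd this
  have hordF : ∀ f ∈ F, ¬ r ∣ orderOf f := fun f hf hd => hrF (hd.trans (F.orderOf_dvd_natCard hf))
  have hsemi : ∀ f ∈ F, ∀ a : (T : Subgroup G), a ≠ 1 → (f : MulAut (T : Subgroup G)) a = a → f = 1 := by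
    intro f hf a ha hfa
    obtain ⟨g, hg, hgf⟩ := exists_lift f
    have hcom : Commute (a : G) g := by
      have h1 : g * a * g⁻¹ = a := by
        have := congrArg Subtype.val hfa
        rw [← hgf] at this
        exact this
      exact (mul_inv_eq_iff_eq_mul.mp h1).symm
    have h1 := orderOf_dvd_of_pow_eq_one (h.pow_of_commute_two (h.sylow_two a.2 fun e => ha (Subtype.ext e)) hcom)
    have h2 : orderOf f ∣ 2 * r := by
      refine dvd_trans ?_ h1
      rw [← Subgroup.orderOf_coe, ← hgf, ← Subgroup.orderOf_mk g hg]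
      exact orderOf_map_dvd _ _
    have h3 := (Nat.coprime_two_right.mpr (autT_orderOf_odd h f)).dvd_of_dvd_mul_left h2
    rcases (Nat.dvd_prime h.prime).mp h3 with e | e
    · exact orderOf_eq_one_iff.mp e
    · exact absurd (dvd_of_eq e.symm) (hordF f hf)
  have hFfpf : ∀ γ : autT T, orderOf γ = r → ∀ f ∈ F, Commute γ f → f = 1 :=
    fun γ hγ f hf hc => autT_commute_r h hγ hc (hordF f hf)
  -- cyclic
  haveI : Nontrivial (T : Subgroup G) := ⟨⟨⟨t, ht⟩, 1, ht1⟩⟩
  haveI : IsZGroup F := ⟨fun p hp Q => by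
    haveI := Fact.mk hp
    by_cases hp2 : p = 2
    · subst hp2
      have : (Q : Subgroup F) = ⊥ := by
        rw [← Subgroup.card_eq_one]
        obtain ⟨j, hj⟩ := IsPGroup.iff_card.mp Q.2
        have h1 : Odd (Nat.card (Q : Subgroup F)) :=
          ((autT_odd h).of_dvd_nat (Subgroup.card_subgroup_dvd_card F)).of_dvd_nat (Subgroup.card_subgroup_dvd_card _)
        rw [hj] at h1
        rcases Nat.eq_zero_or_pos j with h0 | h0
        · rw [hj, h0, pow_zero]
        · exact absurd h1 (Nat.not_odd_iff_even.mpr (Nat.even_pow.mpr ⟨even_two, h0.ne'⟩))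
      show IsCyclic (Q : Subgroup F)
      rw [this]
      infer_instance
    set Qm := ((Q : Subgroup F).map F.subtype).map (autT T).subtype with hQm
    haveI := isCyclic_pgroup_fpf hp2 Qm ((Q.2.map _).map _) (fun a ha ha1 m hm => by
      obtain ⟨a', ⟨f, -, rfl⟩, rfl⟩ := ha
      by_contra hm1
      exact ha1 (congrArg Subtype.val (hsemi f f.2 m hm1 hm)))
    exact isCyclic_of_surjective _
      (((Q : Subgroup F).equivMapOfInjective ((autT T).subtype.comp F.subtype)
        ((autT T).subtype_injective.comp F.subtype_injective)).trans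
        (MulEquiv.subgroupCongr (Subgroup.map_map _ _ _).symm)).symm.surjective⟩
  haveI hFc : IsCyclic F := inferInstance
  have hFcomm : ∀ f ∈ F, ∀ f' ∈ F, f * f' = f' * f := fun f hf f' hf' =>
    congrArg Subtype.val (IsMulCommutative.is_comm.comm (⟨f, hf⟩ : F) ⟨f', hf'⟩)
  have hcf : Subgroup.centralizer (F : Set (autT T)) ≤ F := CfsgLib.centralizer_fitting_le (G := autT T)
  have hF1 : F ≠ ⊥ := by
    intro e
    apply hα1
    have h1 : α ∈ F := hcf (Subgroup.mem_centralizer_iff.mpr fun x hx => by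
      rw [e, SetLike.mem_coe, Subgroup.mem_bot] at hx
      simp [hx])
    rw [e, Subgroup.mem_bot] at h1
    exact h1
  have hcommF : ∀ a b : autT T, a * b * a⁻¹ * b⁻¹ ∈ F := by
    intro a b
    refine hcf (Subgroup.mem_centralizer_iff.mpr fun f hf => ?_)
    set φ := (MulAut.conjNormal : autT T →* MulAut F)
    have hab : φ a * φ b = φ b * φ a := by
      obtain ⟨i, hi⟩ := MonoidHom.map_cyclic (φ a).toMonoidHom
      obtain ⟨j, hj⟩ := MonoidHom.map_cyclic (φ b).toMonoidHom
      refine MulEquiv.ext fun x => ?_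
      have hi' : ∀ x, φ a x = x ^ i := hi
      have hj' : ∀ x, φ b x = x ^ j := hj
      show φ a (φ b x) = φ b (φ a x)
      rw [hi', hj', hj', hi', ← zpow_mul, ← zpow_mul, mul_comm]
    have h1 : φ (a * b * a⁻¹ * b⁻¹) = 1 := by
      rw [map_mul, map_mul, map_mul, map_inv, map_inv, hab]; group
    have h2 := congrArg Subtype.val (MulEquiv.congr_fun h1 ⟨f, hf⟩)
    exact (mul_inv_eq_iff_eq_mul.mp h2).symm
  -- the complement
  set C := centralizer ({α} : Set (autT T)) with hCdef
  have hdecomp : ∀ β : autT T, ∃ f ∈ F, ∃ c ∈ C, β = c * f := by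
    intro β
    let θ : F → F := fun f => ⟨α * f * α⁻¹ * (f : autT T)⁻¹, F.mul_mem (hFn.conj_mem f f.2 α) (F.inv_mem f.2)⟩
    have hinj : Function.Injective θ := by
      intro f f' e
      have e' : α * f * α⁻¹ * (f : autT T)⁻¹ = α * f' * α⁻¹ * (f' : autT T)⁻¹ := congrArg Subtype.val e
      have hc : Commute α ((f' : autT T)⁻¹ * f) := by
        refine (mul_inv_eq_iff_eq_mul.mp ?_ : α * ((f' : autT T)⁻¹ * f) = (f' : autT T)⁻¹ * f * α)
        calc α * ((f' : autT T)⁻¹ * f) * α⁻¹
            = (α * f' * α⁻¹)⁻¹ * (α * f * α⁻¹ * (f : autT T)⁻¹) * f := by group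
          _ = _ := by rw [e']; group
      exact Subtype.ext (inv_mul_eq_one.mp (hFfpf α hαo _ (F.mul_mem (F.inv_mem f'.2) f.2) hc)).symm
    have hsurj := Finite.injective_iff_surjective.mp hinj
    set γ := β⁻¹ * α * β * α⁻¹ with hγ
    have hγF : γ ∈ F := by
      have := hcommF β⁻¹ α
      rw [inv_inv] at this
      exact this
    obtain ⟨f, hf⟩ := hsurj ⟨γ⁻¹, F.inv_mem hγF⟩
    have hf' : α * f * α⁻¹ * (f : autT T)⁻¹ = γ⁻¹ := congrArg Subtype.val hf
    refine ⟨(f : autT T)⁻¹, F.inv_mem f.2, β * f, mem_centralizer_singleton_iff.mpr ?_, by group⟩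
    calc β * f * α = β * γ * (γ⁻¹ * f) * α := by group
      _ = β * γ * (α * f * α⁻¹ * (f : autT T)⁻¹ * f) * α := by rw [hf']
      _ = α * (β * f) := by rw [hγ]; group
  have hCexp : ∀ c ∈ C, c ^ r = 1 := by
    intro c hc
    by_cases hd : r ∣ orderOf c
    · exact orderOf_dvd_iff_pow_eq_one.mp (dvd_of_eq (autT_order_r h hd))
    · rw [autT_commute_r h hαo (mem_centralizer_singleton_iff.mp hc).symm hd, one_pow]
  have hCF : ∀ c ∈ C, c ∈ F → c = 1 := fun c hc hcF =>
    hFfpf α hαo c hcF (mem_centralizer_singleton_iff.mp hc).symm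
  obtain ⟨q, hq, hqF⟩ := Nat.exists_prime_and_dvd (fun e => hF1 (Subgroup.card_eq_one.mp e) : Nat.card F ≠ 1)
  haveI := Fact.mk hq
  obtain ⟨f₀, hf₀⟩ := exists_prime_orderOf_dvd_card' (G := F) q hqF
  haveI hQn : ((zpowers f₀).map F.subtype).Normal := by
    refine ⟨fun x hx g => ?_⟩
    obtain ⟨x', hx', rfl⟩ := hx
    obtain ⟨i, hi⟩ := MonoidHom.map_cyclic ((MulAut.conjNormal : autT T →* MulAut F) g).toMonoidHom
    refine ⟨x' ^ i, zpow_mem hx' i, ?_⟩
    exact (congrArg Subtype.val (hi x')).symm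
  set Q := (zpowers f₀).map F.subtype with hQ
  have hQc : Nat.card Q = q := by
    rw [hQ, Subgroup.card_map_of_injective F.subtype_injective, Nat.card_zpowers, hf₀]
  haveI : IsCyclic Q := isCyclic_of_prime_card hQc
  haveI : IsCyclic (MulAut Q) := by
    haveI : IsCyclic (ZMod (Nat.card Q))ˣ := by rw [hQc]; infer_instance
    exact isCyclic_of_surjective _ (IsCyclic.mulAutMulEquiv Q).symm.surjective
  set ψ : C →* MulAut Q := (MulAut.conjNormal : autT T →* MulAut Q).comp C.subtype
  have hψ : Function.Injective ψ := by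
    rw [injective_iff_map_eq_one]
    intro c hc
    by_contra hc1
    have hco : orderOf (c : autT T) = r := orderOf_eq_prime (hCexp c c.2) fun e => hc1 (Subtype.ext e)
    have hf₀Q : (f₀ : autT T) ∈ Q := ⟨f₀, mem_zpowers _, rfl⟩
    have h2 : (c : autT T) * f₀ * (c : autT T)⁻¹ = f₀ := congrArg Subtype.val (MulEquiv.congr_fun hc ⟨_, hf₀Q⟩)
    have h3 := hFfpf c hco f₀ f₀.2 (mul_inv_eq_iff_eq_mul.mp h2)
    rw [show f₀ = 1 from Subtype.ext h3, orderOf_one] at hf₀
    exact hq.ne_one hf₀.symm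
  haveI : IsCyclic C := isCyclic_of_injective ψ hψ
  have hαC : α ∈ C := mem_centralizer_singleton_iff.mpr rfl
  have hCcard : Nat.card C = r := by
    refine Nat.dvd_antisymm ?_ (hαo ▸ C.orderOf_dvd_natCard hαC)
    obtain ⟨g, hg⟩ := IsCyclic.exists_generator (α := C)
    rw [← orderOf_eq_card_of_forall_mem_zpowers hg]
    exact orderOf_dvd_of_pow_eq_one (Subtype.ext (hCexp g g.2))
  have hlt : r < q := by
    have h1 : r ∣ Nat.card (MulAut Q) := hCcard ▸ Subgroup.card_dvd_of_injective ψ hψ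
    rw [Nat.card_congr (IsCyclic.mulAutMulEquiv Q).toEquiv, hQc, Nat.card_eq_fintype_card,
      ZMod.card_units_eq_totient, Nat.totient_prime hq] at h1
    have := Nat.le_of_dvd (by have := hq.two_le; omega) h1
    have := hq.two_le
    omega
  have hmem : ∀ β : autT T, β ∈ F ↔ ¬ r ∣ orderOf β := by
    intro β
    refine ⟨hordF β, fun hd => ?_⟩
    obtain ⟨f, hf, c, hc, rfl⟩ := hdecomp β
    by_contra hβF
    have hcF : c ∉ F := fun hcF => hβF (F.mul_mem hcF hf)
    have h1 : orderOf (QuotientGroup.mk' F (c * f)) = r := by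
      rw [map_mul, show QuotientGroup.mk' F f = 1 from (QuotientGroup.eq_one_iff f).mpr hf, mul_one]
      exact orderOf_eq_prime (by rw [← map_pow, hCexp c hc, map_one]) fun e => hcF ((QuotientGroup.eq_one_iff c).mp e)
    exact hd (h1 ▸ orderOf_map_dvd _ _)
  have hbij : Function.Bijective (fun p : C × F => (p.1 : autT T) * p.2) := by
    refine ⟨fun ⟨c, f⟩ ⟨c', f'⟩ e => ?_, fun β => ?_⟩
    · have e' : (c : autT T) * f = c' * f' := e
      have h1 : (c' : autT T)⁻¹ * c = f' * (f : autT T)⁻¹ := by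
        calc (c' : autT T)⁻¹ * c = (c' : autT T)⁻¹ * (c * f) * (f : autT T)⁻¹ := by group
          _ = _ := by rw [e']; group
      have h2 : (c' : autT T)⁻¹ * c = 1 :=
        hCF _ (C.mul_mem (C.inv_mem c'.2) c.2) (h1 ▸ F.mul_mem f'.2 (F.inv_mem f.2))
      have hcc : c = c' := Subtype.ext (inv_mul_eq_one.mp h2).symm
      subst hcc
      exact Prod.ext rfl (Subtype.ext (mul_left_cancel e'))
    · obtain ⟨f, hf, c, hc, rfl⟩ := hdecomp β
      exact ⟨(⟨c, hc⟩, ⟨f, hf⟩), rfl⟩
  have hA : Nat.card (autT T) = Nat.card F * r := by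
    rw [← Nat.card_eq_of_bijective _ hbij, Nat.card_prod, hCcard, mul_comm]
  -- transitivity
  let W := {a : (T : Subgroup G) // a ≠ 1}
  letI : MulAction (autT T) W :=
    { smul := fun β a => ⟨(β : MulAut (T : Subgroup G)) a.1, fun e => a.2 (by simpa using e)⟩
      one_smul := fun a => rfl
      mul_smul := fun β γ a => rfl }
  let w : W := ⟨⟨t, ht⟩, ht1⟩
  have horb : MulAction.orbit (autT T) w = Set.univ := Set.eq_univ_of_forall fun b => by
    obtain ⟨β, hβ⟩ := htr _ b.1 ht1 b.2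
    exact ⟨β, Subtype.ext hβ⟩
  set S := MulAction.stabilizer (autT T) w with hS
  have hScard : Nat.card S = r := by
    have hαS : α ∈ S := Subtype.ext hαt
    refine le_antisymm ?_ (Nat.le_of_dvd Nat.card_pos (hαo ▸ S.orderOf_dvd_natCard hαS))
    rw [← hCcard]
    refine Nat.card_le_card_of_injective (fun s : S => ((Equiv.ofBijective _ hbij).symm (s : autT T)).1) ?_
    intro s s' e
    set p := (Equiv.ofBijective _ hbij).symm (s : autT T) with hp
    set p' := (Equiv.ofBijective _ hbij).symm (s' : autT T) with hp'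
    have hs : (s : autT T) = p.1 * p.2 := ((Equiv.ofBijective _ hbij).apply_symm_apply _).symm
    have hs' : (s' : autT T) = p'.1 * p'.2 := ((Equiv.ofBijective _ hbij).apply_symm_apply _).symm
    have e' : p.1 = p'.1 := e
    have hd : (s' : autT T)⁻¹ * s ∈ F := by
      rw [hs, hs', e', show ((p'.1 : autT T) * p'.2)⁻¹ * (p'.1 * p.2) = (p'.2 : autT T)⁻¹ * p.2 by group]
      exact F.mul_mem (F.inv_mem p'.2.2) p.2.2
    have hst : (s' : autT T)⁻¹ * s ∈ S := S.mul_mem (S.inv_mem s'.2) s.2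
    exact Subtype.ext (inv_mul_eq_one.mp (hsemi _ hd ⟨t, ht⟩ ht1 (congrArg Subtype.val hst))).symm
  have hWc : Nat.card W = Nat.card (T : Subgroup G) - 1 := by
    haveI : Fintype (T : Subgroup G) := Fintype.ofFinite _
    rw [Nat.card_eq_fintype_card, Fintype.card_subtype_compl, Fintype.card_subtype_eq, Nat.card_eq_fintype_card]
  have hcount := S.card_mul_index
  rw [MulAction.index_stabilizer, horb, Set.ncard_univ, hScard, hWc, hA, mul_comm (Nat.card F) r,
    Nat.mul_left_cancel_iff h.prime.pos] at hcount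
  refine ⟨F, h4, hcent, hcentT, hse, hFn, hFc, by omega, hA,
    lt_of_lt_of_le hlt (Nat.le_of_dvd Nat.card_pos hqF), hmem, hsemi⟩

end CfsgLib.TwoR
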