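import Cfsg.Agent.Lib.TwoR.Basic
import Mathlib.LinearAlgebra.Matrix.ProjectiveSpecialLinearGroup
import Mathlib.GroupTheory.Solvable

/-!
The two statements of the classification with an element of order `2 r`: for simple and for non-solvable groups.
-/

set_option autoImplicit false

namespace CfsgLib.TwoR

universe u

/-- The simple groups with an element of order `2 r` under the hypothesis on orders. -/
def RSimple : Prop :=
  ∀ (G : Type u) [Group G] [Finite G] [IsSimpleGroup G] (r : ℕ), Hyp G r → (∃ a b : G, a * b ≠ b * a) →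
    (∃ g : G, orderOf g = 2 * r) →
    ∃ (F : Type) (_ : Field F) (_ : Fintype F), 5 < Fintype.card F ∧
      (Fintype.card F % 8 = 3 ∨ Fintype.card F % 8 = 5) ∧
      Nonempty (G ≃* Matrix.ProjectiveSpecialLinearGroup (Fin 2) F)

/-- The non-solvable groups with an element of order `2 r` under the hypothesis on orders. -/
def RCase : Prop :=
  ∀ (G : Type u) [Group G] [Finite G] (r : ℕ), Hyp G r → ¬ Group.IsSolvable G → (∃ g : G, orderOf g = 2 * r) →
    ∃ (F : Type) (_ : Field F) (_ : Fintype F), 5 < Fintype.card F ∧
      (Fintype.card F % 8 = 3 ∨ Fintype.card F % 8 = 5) ∧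
      Nonempty (G ≃* Matrix.ProjectiveSpecialLinearGroup (Fin 2) F)

end CfsgLib.TwoR
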