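import Cfsg.Agent.Lib.TransferOrbit
import Cfsg.Agent.Lib.Frobenius.UniqueSubgroup
import Mathlib.GroupTheory.Sylow
import Mathlib.GroupTheory.Abelianization.Defs

/-!
A simple group whose three-subgroups have exponent three has no element of order three with centraliser of order
eighteen that is not conjugate to its inverse.
-/

set_option autoImplicit false
set_option linter.unusedSectionVars false
set_option linter.style.haveILetI false

namespace CfsgLib.TwoR

open Subgroup

universe u

/-- Subsets without opposite elements of a plane over three elements have non-zero sum unless their size is a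
multiple of three. -/
theorem plane_sum : ∀ s : Finset (Fin 3 × Fin 3), (∀ x ∈ s, -x ∉ s) → s.sum id = 0 → 3 ∣ s.card := by
  decide +kernel

variable {G : Type u} [Group G] [Finite G]

/-- The same in an abelian group of order nine and exponent three. -/
theorem prod_ne_one_of_nine {W : Type u} [CommGroup W] [Finite W] (hW : Nat.card W = 9) (h3 : ∀ w : W, w ^ 3 = 1)
    (O : Finset W) (hO : ∀ x ∈ O, x⁻¹ ∉ O) (hd : ¬ 3 ∣ O.card) : ∏ x ∈ O, x ≠ 1 := by
  classical
  haveI : Fact (Nat.Prime 3) := ⟨Nat.prime_three⟩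
  haveI : Fintype W := Fintype.ofFinite _
  obtain ⟨a, ha⟩ : ∃ a : W, a ≠ 1 := by
    haveI : Nontrivial W := Finite.one_lt_card_iff_nontrivial.mp (by omega)
    exact exists_ne 1
  have hao : orderOf a = 3 := orderOf_eq_prime (h3 a) ha
  obtain ⟨b, hb⟩ : ∃ b : W, b ∉ zpowers a := by
    by_contra hh
    push Not at hh
    have := Subgroup.card_le_of_le (fun w _ => hh w : (⊤ : Subgroup W) ≤ zpowers a)
    rw [Subgroup.card_top, Nat.card_zpowers, hao, hW] at this
    omega
  have hmod : ∀ (x : W) (m : ℕ), x ^ (m % 3) = x ^ m := fun x m => by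
    conv_rhs => rw [← Nat.mod_add_div m 3, pow_add, pow_mul, h3, one_pow, mul_one]
  let f : Fin 3 × Fin 3 → W := fun p => a ^ (p.1 : ℕ) * b ^ (p.2 : ℕ)
  have hadd : ∀ p q, f (p + q) = f p * f q := by
    intro p q
    show a ^ ((p.1 + q.1 : Fin 3) : ℕ) * b ^ ((p.2 + q.2 : Fin 3) : ℕ) =
      a ^ (p.1 : ℕ) * b ^ (p.2 : ℕ) * (a ^ (q.1 : ℕ) * b ^ (q.2 : ℕ))
    rw [Fin.val_add, Fin.val_add, hmod, hmod, pow_add, pow_add, mul_mul_mul_comm]
  have hzero : f 0 = 1 := by simp [f]
  have hker : ∀ p, f p = 1 → p = 0 := by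
    rintro ⟨i, j⟩ e
    have e' : a ^ (i : ℕ) * b ^ (j : ℕ) = 1 := e
    have hj0 : (j : ℕ) = 0 := by
      by_contra hj
      have hjb : b ^ (j : ℕ) ∈ zpowers a := by
        rw [eq_inv_of_mul_eq_one_right e']
        exact inv_mem (pow_mem (mem_zpowers a) _)
      have hb1 : b ≠ 1 := fun e1 => hb (e1 ▸ one_mem _)
      have hbo : orderOf b = 3 := orderOf_eq_prime (h3 b) hb1
      obtain ⟨m, hm⟩ := exists_pow_eq_self_of_coprime (x := b) (show Nat.Coprime (j : ℕ) (orderOf b) by
        rw [hbo]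
        exact (Nat.prime_three.coprime_iff_not_dvd.mpr fun hdj => hj
          (Nat.eq_zero_of_dvd_of_lt hdj j.isLt)).symm)
      exact hb (hm ▸ pow_mem hjb m)
    rw [hj0, pow_zero, mul_one] at e'
    have hi := orderOf_dvd_of_pow_eq_one e'
    rw [hao] at hi
    exact Prod.ext (Fin.ext (Nat.eq_zero_of_dvd_of_lt hi i.isLt)) (Fin.ext hj0)
  have hneg : ∀ p, f (-p) = (f p)⁻¹ := fun p => eq_inv_of_mul_eq_one_left (by rw [← hadd, neg_add_cancel, hzero])
  have hinj : Function.Injective f := fun p q e => sub_eq_zero.mp (hker _ (by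
    rw [sub_eq_add_neg, hadd, hneg, e, mul_inv_cancel]))
  have hbij : Function.Bijective f := (Nat.bijective_iff_injective_and_card f).mpr ⟨hinj, by rw [hW]; simp⟩
  let s : Finset (Fin 3 × Fin 3) := Finset.univ.filter fun p => f p ∈ O
  have hs : O = s.image f := by
    ext x
    obtain ⟨p, rfl⟩ := hbij.2 x
    simp only [s, Finset.mem_image, Finset.mem_filter, Finset.mem_univ, true_and]
    exact ⟨fun hp => ⟨p, hp, rfl⟩, fun ⟨q, hq, e⟩ => e ▸ hq⟩
  intro hprod
  refine hd ?_
  rw [hs, Finset.card_image_of_injective _ hinj]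
  refine plane_sum s (fun p hp hn => ?_) (hker _ ?_)
  · simp only [s, Finset.mem_filter, Finset.mem_univ, true_and] at hp hn
    rw [hneg] at hn
    exact hO _ hp hn
  · rw [← hprod, hs, Finset.prod_image (fun x _ y _ e => hinj e)]
    have key : ∀ t : Finset (Fin 3 × Fin 3), f (t.sum id) = ∏ p ∈ t, f p := by
      intro t
      induction t using Finset.induction_on with
      | empty => simp [hzero]
      | insert p t hp ih => rw [Finset.sum_insert hp, Finset.prod_insert hp, hadd, ih]; rfl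
    exact key s

/-- The end of the case of trivial cores. -/
theorem no_eighteen [IsSimpleGroup G] (hna : ∃ a b : G, a * b ≠ b * a)
    (h3 : ∀ P : Subgroup G, IsPGroup 3 P → ∀ x ∈ P, x ^ 3 = 1) {n : G} (hn : orderOf n = 3)
    (hcard : Nat.card (centralizer ({n} : Set G)) = 18) (hinv : ∀ g : G, g * n * g⁻¹ ≠ n⁻¹) : False := by
  classical
  haveI : Fact (Nat.Prime 3) := ⟨Nat.prime_three⟩
  have hn3 : IsPGroup 3 (zpowers n) := IsPGroup.of_card (n := 1) (by rw [Nat.card_zpowers, hn, pow_one])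
  obtain ⟨P, hP⟩ := hn3.exists_le_sylow
  set S := (P : Subgroup G) with hS
  have hnS : n ∈ S := hP (mem_zpowers n)
  have hSp : IsPGroup 3 S := P.2
  have hexp : ∀ x : S, x ^ 3 = 1 := fun x => Subtype.ext (h3 S hSp x x.2)
  have hnine : 9 ≤ Nat.card S := by
    have h9 : 3 ^ 2 ∣ Nat.card G :=
      (by rw [hcard]; norm_num : 3 ^ 2 ∣ Nat.card (centralizer ({n} : Set G))).trans
        (Subgroup.card_subgroup_dvd_card _)
    obtain ⟨Q, hQ⟩ := Sylow.exists_subgroup_card_pow_prime 3 h9
    obtain ⟨R, hR⟩ := (IsPGroup.of_card hQ : IsPGroup 3 Q).exists_le_sylow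
    have h1 := Subgroup.card_le_of_le hR
    rw [hQ, Sylow.card_eq_multiplicity, ← Sylow.card_eq_multiplicity P] at h1
    exact h1
  set K := commutator S with hK
  have hfr : K ≤ frattini S := CfsgLib.commutator_le_frattini_pGroup hSp
  have hW9 : 9 ≤ Nat.card (Abelianization S) := by
    by_contra hlt
    obtain ⟨k, hk⟩ := IsPGroup.iff_card.mp (hSp.to_quotient K)
    have hk1 : k ≤ 1 := by
      by_contra hk1
      have : 3 ^ 2 ≤ 3 ^ k := Nat.pow_le_pow_right (by norm_num) (by omega)
      exact hlt (by show 9 ≤ Nat.card (S ⧸ K); omega)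
    haveI : IsCyclic (S ⧸ K) := by
      rcases Nat.le_one_iff_eq_zero_or_eq_one.mp hk1 with rfl | rfl
      · haveI : Subsingleton (S ⧸ K) := (Nat.card_eq_one_iff_unique.mp (hk.trans (pow_zero 3))).1
        exact isCyclic_of_subsingleton
      · exact isCyclic_of_prime_card (hk.trans (pow_one 3))
    obtain ⟨a, ha⟩ := IsCyclic.exists_generator (α := S ⧸ K)
    obtain ⟨a, rfl⟩ := QuotientGroup.mk'_surjective K a
    have htop : zpowers a ⊔ frattini S = ⊤ := by
      refine eq_top_iff.mpr fun x _ => ?_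
      obtain ⟨i, hi⟩ := Subgroup.mem_zpowers_iff.mp (ha (QuotientGroup.mk' K x))
      rw [← map_zpow] at hi
      have := QuotientGroup.eq.mp hi
      rw [← mul_inv_cancel_left (a ^ i) x]
      exact Subgroup.mul_mem_sup (zpow_mem (mem_zpowers a) i) (hfr this)
    have htop' := frattini_nongenerating htop
    have h1 : Nat.card S = orderOf a := by
      rw [← Nat.card_zpowers, htop', Subgroup.card_top]
    have h2 := Nat.le_of_dvd (by norm_num) (orderOf_dvd_of_pow_eq_one (hexp a))
    omega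
  -- conjugates of `n` in `S`
  have hCle : ∀ (g : G) (hs : g⁻¹ * n * g ∈ S), Nat.card (centralizer ({(⟨_, hs⟩ : S)} : Set S)) ≤ 9 := by
    intro g hs
    set C := centralizer ({(⟨_, hs⟩ : S)} : Set S)
    let φ : C →* centralizer ({n} : Set G) :=
      { toFun := fun x => ⟨g * ((x : S) : G) * g⁻¹, mem_centralizer_singleton_iff.mpr (by
          have := congrArg Subtype.val (mem_centralizer_singleton_iff.mp x.2)
          change ((x : S) : G) * (g⁻¹ * n * g) = g⁻¹ * n * g * ((x : S) : G) at this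
          calc g * ((x : S) : G) * g⁻¹ * n = g * (((x : S) : G) * (g⁻¹ * n * g)) * g⁻¹ := by group
            _ = _ := by rw [this]; group)⟩
        map_one' := Subtype.ext (by simp)
        map_mul' := fun x y => Subtype.ext (by simp) }
    have hd := Subgroup.card_dvd_of_injective φ fun x y e => Subtype.ext (Subtype.ext
      (mul_left_cancel (mul_right_cancel (congrArg Subtype.val e :))))
    obtain ⟨k, hk⟩ := IsPGroup.iff_card.mp (hSp.to_subgroup C)
    rw [hcard, hk] at hd
    rw [hk]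
    have h9 : 3 ^ k ∣ 9 := (Nat.Coprime.pow_left k (by norm_num : Nat.Coprime 3 2)).dvd_of_dvd_mul_left
      (by exact (show (18 : ℕ) = 2 * 9 from rfl) ▸ hd)
    exact Nat.le_of_dvd (by norm_num) h9
  have hclass : ∀ (g : G) (hs : g⁻¹ * n * g ∈ S),
      Nat.card (Abelianization S) = 9 ∧ Nat.card (centralizer ({(⟨_, hs⟩ : S)} : Set S)) = 9 ∧
      ∀ s' : S, Abelianization.of s' = Abelianization.of (⟨_, hs⟩ : S) → ∃ a : S, s' = a * ⟨_, hs⟩ * a⁻¹ := by
    intro g hs
    set s : S := ⟨_, hs⟩ with hsdef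
    set C := centralizer ({s} : Set S) with hC
    let f : S ⧸ C → K := Quotient.lift (fun a : S => (⟨a * s * a⁻¹ * s⁻¹, by
        rw [← commutatorElement_def]
        exact Subgroup.commutator_mem_commutator (mem_top _) (mem_top _)⟩ : K)) (by
      intro a b hab
      have hab' : a⁻¹ * b ∈ C := QuotientGroup.leftRel_apply.mp hab
      refine Subtype.ext ?_
      show a * s * a⁻¹ * s⁻¹ = b * s * b⁻¹ * s⁻¹
      have := mem_centralizer_singleton_iff.mp hab'
      calc a * s * a⁻¹ * s⁻¹ = a * (s * (a⁻¹ * b)) * b⁻¹ * s⁻¹ := by group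
        _ = a * (a⁻¹ * b * s) * b⁻¹ * s⁻¹ := by rw [this]
        _ = _ := by group)
    have hfinj : Function.Injective f := by
      intro p q
      induction p using QuotientGroup.induction_on with
      | _ a =>
      induction q using QuotientGroup.induction_on with
      | _ b =>
      intro e
      have e' : a * s * a⁻¹ * s⁻¹ = b * s * b⁻¹ * s⁻¹ := congrArg Subtype.val e
      refine QuotientGroup.eq.mpr (mem_centralizer_singleton_iff.mpr ?_)
      calc a⁻¹ * b * s = a⁻¹ * (b * s * b⁻¹ * s⁻¹) * s * b := by group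
        _ = _ := by rw [← e']; group
    have h1 := Nat.card_le_card_of_injective f hfinj
    have h2 : Nat.card C ≤ 9 := hCle g hs
    have h3' : Nat.card S = Nat.card (S ⧸ C) * Nat.card C := C.card_eq_card_quotient_mul_card_subgroup
    have h4 : Nat.card S = Nat.card (Abelianization S) * Nat.card K := K.card_eq_card_quotient_mul_card_subgroup
    have hKpos : 0 < Nat.card K := Nat.card_pos
    have h5 : Nat.card (Abelianization S) * Nat.card K ≤ 9 * Nat.card K := by
      rw [← h4, h3', mul_comm]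
      exact Nat.mul_le_mul h2 h1
    have hW := le_antisymm (Nat.le_of_mul_le_mul_right h5 hKpos) hW9
    rw [hW] at h4
    have h6 : Nat.card C = 9 := le_antisymm h2 (by nlinarith)
    refine ⟨hW, h6, fun s' hs' => ?_⟩
    have h7 : Nat.card (S ⧸ C) = Nat.card K := by rw [h6] at h3'; omega
    have hk : s' * s⁻¹ ∈ K := by
      rw [hK, ← Abelianization.ker_of, MonoidHom.mem_ker, map_mul, map_inv, hs', mul_inv_cancel]
    obtain ⟨q, hq⟩ := ((Nat.bijective_iff_injective_and_card f).mpr ⟨hfinj, h7⟩).2 ⟨_, hk⟩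
    induction q using QuotientGroup.induction_on with
    | _ a =>
    refine ⟨a, ?_⟩
    have := congrArg Subtype.val hq
    change a * s * a⁻¹ * s⁻¹ = s' * s⁻¹ at this
    exact (mul_right_cancel this).symm
  -- the transfer
  set χ : S →* Abelianization S := Abelianization.of
  haveI : Fintype (G ⧸ S) := Fintype.ofFinite _
  have htr : MonoidHom.transfer χ n = 1 := by
    rcases (inferInstance : (MonoidHom.transfer χ).ker.Normal).eq_bot_or_eq_top with e | e
    · obtain ⟨a, b, hab⟩ := hna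
      exact absurd ((MonoidHom.ker_eq_bot_iff _).mp e (by rw [map_mul, map_mul, mul_comm])) hab
    · exact MonoidHom.mem_ker.mp (e ▸ mem_top n)
  rw [TransferOrbit.transfer_eq_prod] at htr
  let Fix : Finset (G ⧸ S) := Finset.univ.filter fun q => n • q = q
  have hmemF : ∀ g : G, (g : G ⧸ S) ∈ Fix ↔ g⁻¹ * n * g ∈ S := by
    intro g
    simp only [Fix, Finset.mem_filter, Finset.mem_univ, true_and]
    show ((n * g : G) : G ⧸ S) = (g : G ⧸ S) ↔ _
    rw [eq_comm, QuotientGroup.eq, mul_assoc]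
  have hnot : ∏ q ∈ Finset.univ.filter (fun q : G ⧸ S => ¬ n • q = q), TransferOrbit.cval χ n q = 1 := by
    let π : G ⧸ S → Quotient (MulAction.orbitRel (zpowers n) (G ⧸ S)) := Quotient.mk''
    haveI : Fintype (Quotient (MulAction.orbitRel (zpowers n) (G ⧸ S))) := Fintype.ofFinite _
    rw [← Finset.prod_fiberwise _ π]
    refine Finset.prod_eq_one fun o _ => ?_
    induction o using Quotient.inductionOn' with
    | h q =>
    by_cases hq : n • q = q
    · refine Finset.prod_eq_one fun x hx => ?_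
      exfalso
      simp only [π, Finset.mem_filter, Finset.mem_univ, true_and, Quotient.eq'', MulAction.orbitRel_apply,
        MulAction.mem_orbit_iff] at hx
      obtain ⟨hx1, ⟨⟨z, hz⟩, rfl⟩⟩ := hx
      obtain ⟨i, rfl⟩ := hz
      refine hx1 ?_
      show n • (n ^ i • q) = n ^ i • q
      rw [← mul_smul, ← zpow_one_add, add_comm, zpow_add_one, mul_smul, hq]
    have hfree : ∀ g : zpowers n, g • q = q → g = 1 := by
      intro g hg
      by_contra hg1
      refine hq ?_
      have hgo : orderOf (g : G) = 3 := orderOf_eq_prime (h3 _ hn3 g g.2) fun e => hg1 (Subtype.ext e)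
      have hz : zpowers (g : G) = zpowers n :=
        Subgroup.eq_of_le_of_card_ge (Subgroup.zpowers_le.mpr g.2) (by rw [Nat.card_zpowers, Nat.card_zpowers, hgo, hn])
      have hmem : n ∈ MulAction.stabilizer G q :=
        (Subgroup.zpowers_le.mpr (show (g : G) ∈ MulAction.stabilizer G q from hg) : zpowers (g : G) ≤ _)
          (by rw [hz]; exact mem_zpowers n)
      exact hmem
    have := TransferOrbit.prod_eq_one_of_stab (P := zpowers n)
      (c := fun (g : zpowers n) (x : G ⧸ S) => TransferOrbit.cval χ (g : G) x)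
      (fun g k x => TransferOrbit.cval_mul χ (g : G) (k : G) x)
      ((Finset.univ.filter fun x : G ⧸ S => ¬ n • x = x).filter fun x => π x = Quotient.mk'' q) q ?_ ?_ ?_
      ⟨n, mem_zpowers n⟩
    · exact this
    · intro g x hx
      simp only [π, Finset.mem_filter, Finset.mem_univ, true_and, Quotient.eq'', MulAction.orbitRel_apply] at hx ⊢
      obtain ⟨hx1, hx2⟩ := hx
      refine ⟨fun e => hx1 ?_, ?_⟩
      · obtain ⟨z, hz⟩ := g
        obtain ⟨i, rfl⟩ := hz
        change n • (n ^ i • x) = n ^ i • x at e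
        rw [← mul_smul, ← zpow_one_add, add_comm, zpow_add_one, mul_smul] at e
        exact (smul_left_cancel_iff _).mp e
      · rw [MulAction.mem_orbit_iff] at hx2 ⊢
        obtain ⟨k, hk⟩ := hx2
        exact ⟨g * k, by rw [mul_smul, hk]⟩
    · intro x hx
      simp only [π, Finset.mem_filter, Finset.mem_univ, true_and, Quotient.eq'', MulAction.orbitRel_apply,
        MulAction.mem_orbit_iff] at hx
      exact hx.2
    · intro g hg
      show TransferOrbit.cval χ (g : G) q = 1
      rw [hfree g hg]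
      exact TransferOrbit.c_one (c := fun (g : zpowers n) (x : G ⧸ S) => TransferOrbit.cval χ (g : G) x)
        (fun g k x => TransferOrbit.cval_mul χ (g : G) (k : G) x) q
  rw [← Finset.prod_filter_mul_prod_filter_not Finset.univ (fun q : G ⧸ S => n • q = q), hnot, mul_one] at htr
  set Φ := TransferOrbit.cval χ n with hΦdef
  have hΦ : ∀ (g : G) (hs : g⁻¹ * n * g ∈ S), Φ (g : G ⧸ S) = χ ⟨_, hs⟩ := fun g hs =>
    TransferOrbit.cval_eq χ (Finset.mem_filter.mp ((hmemF g).mpr hs)).2 hs
  have hsame : ∀ (g g₀ : G), g⁻¹ * n * g ∈ S → (hs₀ : g₀⁻¹ * n * g₀ ∈ S) → Φ (g : G ⧸ S) = Φ (g₀ : G ⧸ S) →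
      ∃ c ∈ centralizer ({n} : Set G), (g : G ⧸ S) = ((c * g₀ : G) : G ⧸ S) := by
    intro g g₀ hs hs₀ e
    rw [hΦ g hs, hΦ g₀ hs₀] at e
    obtain ⟨a, ha⟩ := (hclass g₀ hs₀).2.2 ⟨_, hs⟩ e
    have ha' : g⁻¹ * n * g = (a : G) * (g₀⁻¹ * n * g₀) * (a : G)⁻¹ := congrArg Subtype.val ha
    refine ⟨g * (a : G) * g₀⁻¹, mem_centralizer_singleton_iff.mpr ?_, ?_⟩
    · calc g * (a : G) * g₀⁻¹ * n = g * ((a : G) * (g₀⁻¹ * n * g₀) * (a : G)⁻¹) * (a : G) * g₀⁻¹ := by group
        _ = _ := by rw [← ha']; group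
    · rw [inv_mul_cancel_right, QuotientGroup.eq, inv_mul_cancel_left]
      exact a.2
  set O := Fix.image Φ with hOdef
  have hfib : ∀ w ∈ O, (Fix.filter fun q => Φ q = w).card = 2 := by
    intro w hw
    obtain ⟨q₀, hq₀, rfl⟩ := Finset.mem_image.mp hw
    induction q₀ using QuotientGroup.induction_on with
    | _ g₀ =>
    have hs₀ := (hmemF g₀).mp hq₀
    set CG := centralizer ({n} : Set G) with hCG
    set St := (MulAction.stabilizer CG (g₀ : G ⧸ S)) with hSt
    have hstc : Nat.card St = 9 := by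
      rw [← (hclass g₀ hs₀).2.1]
      have hto : ∀ x : centralizer ({(⟨_, hs₀⟩ : S)} : Set S), g₀ * ((x : S) : G) * g₀⁻¹ ∈ CG := fun x => by
        have := congrArg Subtype.val (mem_centralizer_singleton_iff.mp x.2)
        change ((x : S) : G) * (g₀⁻¹ * n * g₀) = g₀⁻¹ * n * g₀ * ((x : S) : G) at this
        refine mem_centralizer_singleton_iff.mpr ?_
        calc g₀ * ((x : S) : G) * g₀⁻¹ * n = g₀ * (((x : S) : G) * (g₀⁻¹ * n * g₀)) * g₀⁻¹ := by group
          _ = _ := by rw [this]; group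
      have hto' : ∀ x : centralizer ({(⟨_, hs₀⟩ : S)} : Set S), (⟨_, hto x⟩ : CG) ∈ St := fun x => by
        show ((g₀ * ((x : S) : G) * g₀⁻¹ * g₀ : G) : G ⧸ S) = (g₀ : G ⧸ S)
        rw [eq_comm, QuotientGroup.eq, show g₀⁻¹ * (g₀ * ((x : S) : G) * g₀⁻¹ * g₀) = ((x : S) : G) by group]
        exact (x : S).2
      have hin : ∀ y : St, g₀⁻¹ * ((y : CG) : G) * g₀ ∈ S := fun y => by
        have hy : (((y : CG) : G) * g₀ : G) = ((g₀ : G) : G ⧸ S) := y.2
        rw [eq_comm, QuotientGroup.eq, ← mul_assoc] at hy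
        exact hy
      have hin' : ∀ y : St, (⟨_, hin y⟩ : S) ∈ centralizer ({(⟨_, hs₀⟩ : S)} : Set S) := fun y => by
        refine mem_centralizer_singleton_iff.mpr (Subtype.ext ?_)
        show g₀⁻¹ * ((y : CG) : G) * g₀ * (g₀⁻¹ * n * g₀) = g₀⁻¹ * n * g₀ * (g₀⁻¹ * ((y : CG) : G) * g₀)
        calc _ = g₀⁻¹ * (((y : CG) : G) * n) * g₀ := by group
          _ = _ := by rw [mem_centralizer_singleton_iff.mp (y : CG).2]; group
      exact (Nat.card_congr
        { toFun := fun x => (⟨⟨_, hto x⟩, hto' x⟩ : St)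
          invFun := fun y => ⟨⟨_, hin y⟩, hin' y⟩
          left_inv := fun x => Subtype.ext (Subtype.ext (show g₀⁻¹ * (g₀ * ((x : S) : G) * g₀⁻¹) * g₀ = _ by group))
          right_inv := fun y => Subtype.ext (Subtype.ext
            (show g₀ * (g₀⁻¹ * ((y : CG) : G) * g₀) * g₀⁻¹ = _ by group)) }).symm
    have hset : ((Fix.filter fun q => Φ q = Φ (g₀ : G ⧸ S) : Finset (G ⧸ S)) : Set (G ⧸ S)) =
        MulAction.orbit CG (g₀ : G ⧸ S) := by
      ext q
      induction q using QuotientGroup.induction_on with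
      | _ g =>
      rw [Finset.coe_filter, Set.mem_setOf_eq, MulAction.mem_orbit_iff]
      constructor
      · rintro ⟨hg, e⟩
        obtain ⟨c, hc, e'⟩ := hsame g g₀ ((hmemF g).mp hg) hs₀ e
        exact ⟨⟨c, hc⟩, e'.symm⟩
      · rintro ⟨⟨c, hc⟩, e⟩
        have e' : ((c * g₀ : G) : G ⧸ S) = (g : G ⧸ S) := e
        rw [← e']
        have hcn : (c * g₀)⁻¹ * n * (c * g₀) = g₀⁻¹ * n * g₀ := by
          calc (c * g₀)⁻¹ * n * (c * g₀) = g₀⁻¹ * (c⁻¹ * (n * c)) * g₀ := by group
            _ = _ := by rw [← mem_centralizer_singleton_iff.mp hc]; group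
        have hsc : (c * g₀)⁻¹ * n * (c * g₀) ∈ S := hcn ▸ hs₀
        refine ⟨(hmemF _).mpr hsc, ?_⟩
        rw [hΦ _ hsc, hΦ _ hs₀]
        exact congrArg χ (Subtype.ext hcn)
    have h1 := St.card_mul_index
    rw [hstc, MulAction.index_stabilizer, ← hset, Set.ncard_coe_finset, hcard] at h1
    omega
  have hW : Nat.card (Abelianization S) = 9 := (hclass 1 (by simpa using hnS)).1
  have hW3 : ∀ w : Abelianization S, w ^ 3 = 1 := fun w => by
    obtain ⟨x, rfl⟩ : ∃ x, Abelianization.of x = w := QuotientGroup.mk'_surjective (commutator S) w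
    rw [← map_pow, hexp, map_one]
  refine prod_ne_one_of_nine hW hW3 O ?_ ?_ ?_
  · intro w hw hw'
    obtain ⟨q, hq, rfl⟩ := Finset.mem_image.mp hw
    obtain ⟨q', hq', e⟩ := Finset.mem_image.mp hw'
    induction q using QuotientGroup.induction_on with
    | _ g =>
    induction q' using QuotientGroup.induction_on with
    | _ g' =>
    have hs := (hmemF g).mp hq
    have hs' := (hmemF g').mp hq'
    rw [hΦ g' hs', hΦ g hs, ← map_inv] at e
    obtain ⟨a, ha⟩ := (hclass g' hs').2.2 _ e.symm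
    have ha' : (g⁻¹ * n * g)⁻¹ = (a : G) * (g'⁻¹ * n * g') * (a : G)⁻¹ := congrArg Subtype.val ha
    refine hinv (g * (a : G) * g'⁻¹) ?_
    calc g * (a : G) * g'⁻¹ * n * (g * (a : G) * g'⁻¹)⁻¹
        = g * ((a : G) * (g'⁻¹ * n * g') * (a : G)⁻¹) * g⁻¹ := by group
      _ = n⁻¹ := by rw [← ha']; group
  · -- the number of fixed cosets
    intro hd
    have h1 := Finset.card_eq_sum_card_image Φ Fix
    rw [← hOdef, Finset.sum_congr rfl hfib, Finset.sum_const, smul_eq_mul] at h1
    have h2 := hn3.card_modEq_card_fixedPoints (G ⧸ S)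
    have h3fix : Nat.card (MulAction.fixedPoints (zpowers n) (G ⧸ S)) = Fix.card := by
      rw [← Nat.card_eq_finsetCard]
      refine Nat.card_congr (Equiv.subtypeEquivRight fun q => ?_)
      simp only [Fix, Finset.mem_filter, Finset.mem_univ, true_and, MulAction.mem_fixedPoints]
      refine ⟨fun hh => hh ⟨n, mem_zpowers n⟩, fun hh g => ?_⟩
      exact (Subgroup.zpowers_le.mpr (show n ∈ MulAction.stabilizer G q from hh) : zpowers n ≤ _) g.2
    rw [h3fix, h1] at h2
    have h4 : ¬ 3 ∣ Nat.card (G ⧸ S) := by rw [← Subgroup.index_eq_card]; exact P.not_dvd_index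
    exact h4 ((Nat.ModEq.dvd_iff h2 dvd_rfl).mpr (hd.mul_right 2))
  · -- the product is trivial
    rw [← Finset.prod_fiberwise_of_maps_to (g := Φ) (t := O) fun q hq => Finset.mem_image_of_mem _ hq] at htr
    have hsq : (∏ w ∈ O, w) ^ 2 = 1 := by
      rw [← Finset.prod_pow]
      refine Eq.trans (Finset.prod_congr rfl fun w hw => ?_) htr
      rw [Finset.prod_congr rfl (fun q hq => (Finset.mem_filter.mp hq).2), Finset.prod_const, hfib w hw]
    have := pow_gcd_eq_one.mpr ⟨hW3 (∏ w ∈ O, w), hsq⟩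
    rwa [show Nat.gcd 3 2 = 1 from rfl, pow_one] at this

end CfsgLib.TwoR
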