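import Cfsg.Agent.Lib.TwoR.CaseThree
import Cfsg.Agent.Lib.TwoR.CaseII
import Cfsg.Agent.Lib.TwoFusion.StrongEmb

/-!
Trivial cores: an element of order `r` normalising the Sylow two-subgroup fixes three cosets of its normaliser, so
`r` is three and its centraliser has order eighteen.
-/

set_option autoImplicit false
set_option linter.unusedSectionVars false
set_option linter.style.haveILetI false

namespace CfsgLib.TwoR

open Subgroup

universe u

variable {G : Type u} [Group G] [Finite G] {r : ℕ} {T : Sylow 2 G} {F : Subgroup (autT T)}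

/-- The normaliser of the Sylow two-subgroup. -/
abbrev NT (T : Sylow 2 G) : Subgroup G := normalizer ((T : Subgroup G) : Set G)

/-- The map to the induced automorphisms. -/
abbrev rho (T : Sylow 2 G) : NT T →* autT T := (conjT T).rangeRestrict

/-- The elements of the normaliser inducing elements of `F`. -/
abbrev preF (T : Sylow 2 G) (F : Subgroup (autT T)) : Subgroup G := (F.comap (rho T)).map (NT T).subtype

theorem mem_preF {x : G} : x ∈ preF T F ↔ ∃ hx : x ∈ NT T, rho T ⟨x, hx⟩ ∈ F :=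
  ⟨fun ⟨y, hy, e⟩ => e ▸ ⟨y.2, hy⟩, fun ⟨hx, hy⟩ => ⟨⟨x, hx⟩, hy, rfl⟩⟩

/-- The two-point stabiliser. -/
abbrev Dd (T : Sylow 2 G) (v : G) : Subgroup G := NT T ⊓ (NT T).map (MulAut.conj v).toMonoidHom

variable (h : Hyp G r) (d : Three r T F)

include h d

theorem Three.rho_ker {x : NT T} (hx : rho T x = 1) : (x : G) ∈ (T : Subgroup G) := by
  refine d.centT x fun a ha => ?_
  exact (mul_inv_eq_iff_eq_mul.mp ((conjT_eq_one (hg := x.2)).mp (congrArg Subtype.val hx) a ha)).symm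

theorem Three.eq_one_of_odd {x : G} (hx : x ∈ (T : Subgroup G)) (ho : Odd (orderOf x)) : x = 1 :=
  orderOf_eq_one_iff.mp (Nat.eq_one_of_dvd_coprimes (Nat.coprime_two_left.mpr ho)
    (orderOf_dvd_of_pow_eq_one (by rw [pow_two]; exact h.sq_eq_one T.2 hx)) dvd_rfl)

theorem Three.orderOf_rho {x : NT T} (ho : Odd (orderOf (x : G))) : orderOf (rho T x) = orderOf (x : G) := by
  refine Nat.dvd_antisymm (by rw [Subgroup.orderOf_coe]; exact orderOf_map_dvd _ _) (orderOf_dvd_of_pow_eq_one ?_)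
  refine d.eq_one_of_odd h ?_ (ho.of_dvd_nat (orderOf_pow_dvd _))
  rw [← Subgroup.coe_pow]
  exact d.rho_ker h (by rw [map_pow, pow_orderOf_eq_one])

theorem Three.involution_mem {x : G} (hx : x ∈ NT T) (ho : orderOf x = 2) : x ∈ (T : Subgroup G) := by
  refine d.rho_ker h (x := ⟨x, hx⟩) (orderOf_eq_one_iff.mp ?_)
  refine Nat.eq_one_of_dvd_coprimes (Nat.coprime_two_left.mpr (autT_orderOf_odd h (rho T ⟨x, hx⟩))) ?_ dvd_rfl
  exact (orderOf_map_dvd (rho T) ⟨x, hx⟩).trans (dvd_of_eq ((Subgroup.orderOf_mk x hx).trans ho))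

theorem Three.not_dvd_F : ¬ r ∣ Nat.card F := by
  haveI := Fact.mk h.prime
  intro hd
  obtain ⟨f, hf⟩ := exists_prime_orderOf_dvd_card' (G := F) r hd
  exact (d.mem_iff f).mp f.2 (by rw [Subgroup.orderOf_coe, hf])

theorem Three.odd_F : Odd (Nat.card F) := (autT_odd h).of_dvd_nat (Subgroup.card_subgroup_dvd_card F)

theorem Three.coprime_F : Nat.Coprime (Nat.card F) (2 * r) :=
  Nat.Coprime.mul_right (Nat.coprime_two_right.mpr (d.odd_F h)) (h.prime.coprime_iff_not_dvd.mpr (d.not_dvd_F h)).symm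

theorem Three.fpf {x w : G} (hx : x ∈ preF T F) (hxT : x ∉ (T : Subgroup G)) (hw : w ∈ (T : Subgroup G))
    (hc : x * w * x⁻¹ = w) : w = 1 := by
  obtain ⟨hxN, hxF⟩ := mem_preF.mp hx
  by_contra hw1
  have := d.semiregular _ hxF ⟨w, hw⟩ (fun e => hw1 (congrArg Subtype.val e)) (Subtype.ext hc)
  exact hxT (d.rho_ker h this)

theorem Three.mem_F_of_commute {β f : autT T} (hf : f ∈ F) (hf1 : f ≠ 1) (hc : Commute β f) : β ∈ F := by
  rw [d.mem_iff]
  intro hd
  exact hf1 (autT_commute_r h (autT_order_r h hd) hc ((d.mem_iff f).mp hf))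

/-- A complement of the Sylow subgroup in the preimage of `F`. -/
structure Compl' (T : Sylow 2 G) (F : Subgroup (autT T)) (C : Subgroup G) : Prop where
  le : C ≤ preF T F
  odd : Odd (Nat.card C)
  card : Nat.card C = Nat.card F

omit h d in
theorem Compl'.le_N {C : Subgroup G} (hC : Compl' T F C) : C ≤ NT T := hC.le.trans (Subgroup.map_subtype_le _)

theorem Three.rho_inj {C : Subgroup G} (hodd : Odd (Nat.card C)) (hle : C ≤ NT T) :
    Function.Injective ((rho T).comp (Subgroup.inclusion hle)) := by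
  rw [injective_iff_map_eq_one]
  intro x hx
  exact Subtype.ext (d.eq_one_of_odd h (d.rho_ker h hx) (hodd.of_dvd_nat (C.orderOf_dvd_natCard x.2)))

theorem Three.compl_not_mem {C : Subgroup G} (hC : Compl' T F C) {c : G} (hc : c ∈ C) (hc1 : c ≠ 1) :
    c ∉ (T : Subgroup G) :=
  fun hcT => hc1 (d.eq_one_of_odd h hcT (hC.odd.of_dvd_nat (C.orderOf_dvd_natCard hc)))

theorem Three.compl_surj {C : Subgroup G} (hC : Compl' T F C) {f : autT T} (hf : f ∈ F) :
    ∃ (c : G) (hc : c ∈ NT T), c ∈ C ∧ rho T ⟨c, hc⟩ = f := by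
  let φ : C → F := fun c => ⟨rho T ⟨c, hC.le_N c.2⟩, (mem_preF.mp (hC.le c.2)).2⟩
  have hφ : Function.Bijective φ := (Nat.bijective_iff_injective_and_card φ).mpr
    ⟨fun a b e => d.rho_inj h hC.odd hC.le_N (congrArg Subtype.val e), hC.card⟩
  obtain ⟨c, hc⟩ := hφ.2 ⟨f, hf⟩
  exact ⟨c, hC.le_N c.2, c.2, congrArg Subtype.val hc⟩

theorem Three.compl_nontrivial {C : Subgroup G} (hC : Compl' T F C) : ∃ c ∈ C, c ≠ 1 := by
  refine (Subgroup.bot_or_exists_ne_one C).resolve_left fun e => ?_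
  have := d.lt
  have h2 := h.prime.two_le
  rw [← hC.card, e, Subgroup.card_bot] at this
  omega

theorem Three.normalizer_compl {C : Subgroup G} (hC : Compl' T F C) {w : G} (hw : w ∈ (T : Subgroup G))
    (hn : ∀ c ∈ C, w * c * w⁻¹ ∈ C) : w = 1 := by
  obtain ⟨c, hc, hc1⟩ := d.compl_nontrivial h hC
  refine d.fpf h (hC.le hc) (d.compl_not_mem h hC hc hc1) hw ?_
  have h1 : w * c * w⁻¹ * c⁻¹ ∈ C := mul_mem (hn c hc) (inv_mem hc)
  have h2 : w * c * w⁻¹ * c⁻¹ ∈ (T : Subgroup G) := by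
    rw [show w * c * w⁻¹ * c⁻¹ = w * (c * w⁻¹ * c⁻¹) by group]
    exact mul_mem hw ((Subgroup.mem_normalizer_iff.mp (hC.le_N hc) _).mp (inv_mem hw))
  have h3 : w * c * w⁻¹ * c⁻¹ = 1 := by
    by_contra h3
    exact d.compl_not_mem h hC h1 h3 h2
  rw [mul_inv_eq_one, mul_inv_eq_iff_eq_mul] at h3
  rw [← h3]; group

/-- Complements are conjugate under the Sylow subgroup. -/
theorem Three.compl_conj {C C' : Subgroup G} (hC : Compl' T F C) (hC' : Compl' T F C') :
    ∃ w ∈ (T : Subgroup G), C.map (MulAut.conj w).toMonoidHom = C' := by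
  haveI := d.cyclic
  obtain ⟨⟨f, hf⟩, hgen⟩ := IsCyclic.exists_generator (α := F)
  have hfo : orderOf f = Nat.card F :=
    (Subgroup.orderOf_mk f hf).symm.trans (orderOf_eq_card_of_forall_mem_zpowers hgen)
  obtain ⟨c, hcN, hc, hcf⟩ := d.compl_surj h hC hf
  obtain ⟨c', hcN', hc', hcf'⟩ := d.compl_surj h hC' hf
  have hco : orderOf c = Nat.card F := by
    rw [← hfo, ← hcf]
    exact (d.orderOf_rho h (x := ⟨c, hcN⟩) (hC.odd.of_dvd_nat (C.orderOf_dvd_natCard hc))).symm
  have hco' : orderOf c' = Nat.card F := by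
    rw [← hfo, ← hcf']
    exact (d.orderOf_rho h (x := ⟨c', hcN'⟩) (hC'.odd.of_dvd_nat (C'.orderOf_dvd_natCard hc'))).symm
  have hgenC : zpowers c = C := Subgroup.eq_of_le_of_card_ge (Subgroup.zpowers_le.mpr hc)
    (by rw [Nat.card_zpowers, hco, hC.card])
  have hgenC' : zpowers c' = C' := Subgroup.eq_of_le_of_card_ge (Subgroup.zpowers_le.mpr hc')
    (by rw [Nat.card_zpowers, hco', hC'.card])
  have hc1 : c ≠ 1 := fun e => by
    have := d.lt
    rw [← hco, e, orderOf_one] at this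
    have := h.prime.two_le
    omega
  have hv : c' * c⁻¹ ∈ (T : Subgroup G) := d.rho_ker h (x := ⟨c', hcN'⟩ * ⟨c, hcN⟩⁻¹)
    (by rw [map_mul, map_inv, hcf, hcf', mul_inv_cancel])
  let θ : ↥(T : Subgroup G) → ↥(T : Subgroup G) := fun w => ⟨w * (c * (w : G)⁻¹ * c⁻¹),
    mul_mem w.2 ((Subgroup.mem_normalizer_iff.mp hcN _).mp (inv_mem w.2))⟩
  have hinj : Function.Injective θ := by
    intro a b e
    have e' : (a : G) * (c * (a : G)⁻¹ * c⁻¹) = b * (c * (b : G)⁻¹ * c⁻¹) := congrArg Subtype.val e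
    have h1 : c * ((b : G)⁻¹ * a) * c⁻¹ = (b : G)⁻¹ * a := by
      calc c * ((b : G)⁻¹ * a) * c⁻¹ = (b : G)⁻¹ * (b * (c * (b : G)⁻¹ * c⁻¹)) * (c * a * c⁻¹) := by group
        _ = _ := by rw [← e']; group
    exact Subtype.ext (inv_mul_eq_one.mp
      (d.fpf h (hC.le hc) (d.compl_not_mem h hC hc hc1) (mul_mem (inv_mem b.2) a.2) h1)).symm
  obtain ⟨⟨w, hwT⟩, hw⟩ := (Finite.injective_iff_surjective.mp hinj) ⟨_, hv⟩
  have hw' : w * (c * w⁻¹ * c⁻¹) = c' * c⁻¹ := congrArg Subtype.val hw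
  refine ⟨w, hwT, ?_⟩
  rw [← hgenC, MonoidHom.map_zpowers, ← hgenC']
  congr 1
  show w * c * w⁻¹ = c'
  calc w * c * w⁻¹ = w * (c * w⁻¹ * c⁻¹) * c := by group
    _ = c' := by rw [hw', inv_mul_cancel_right]

/-- An involution outside the normaliser inverts a complement in its two-point stabiliser. -/
theorem Three.inverted {v : G} (hv : orderOf v = 2) (hvN : v ∉ NT T) :
    Compl' T F (Dd T v ⊓ preF T F) ∧ ∀ x ∈ Dd T v ⊓ preF T F, v * x * v⁻¹ = x⁻¹ := by
  classical
  haveI := Fact.mk h.prime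
  haveI : Fact (Nat.Prime 2) := ⟨Nat.prime_two⟩
  set D := Dd T v with hD
  set C := D ⊓ preF T F with hC
  have hDodd : Odd (Nat.card D) := d.embedded.2.2 v hvN
  have hCodd : Odd (Nat.card C) := hDodd.of_dvd_nat (Subgroup.card_dvd_of_le inf_le_left)
  have hCN : C ≤ NT T := inf_le_left.trans inf_le_left
  have hCle : Nat.card C ≤ Nat.card F :=
    Nat.card_le_card_of_injective (fun c : C => (⟨rho T ⟨c, hCN c.2⟩, (mem_preF.mp c.2.2).2⟩ : F))
      fun a b e => d.rho_inj h hCodd hCN (congrArg Subtype.val e)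
  have hv' := Involutions.inv_eq_self_of_orderOf hv
  have hv2 := Involutions.mul_self_eq_one_of_orderOf hv
  -- the inverted elements
  have hI : Nat.card F ≤ Nat.card {x : D // v * x * v⁻¹ = (x : G)⁻¹} := by
    have h1 : Nat.card F = Nat.card {i : G // orderOf i = 2 ∧ (i : G ⧸ NT T) = (v : G ⧸ NT T)} := by
      rw [StrongEmb.card_coset_involutions d.embedded]
      haveI : Fintype (T : Subgroup G) := Fintype.ofFinite _
      have h2 : Nat.card {a : (T : Subgroup G) // a ≠ 1} = Nat.card F := by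
        have := d.card_F
        rw [Nat.card_eq_fintype_card (α := (T : Subgroup G))] at this
        rw [Nat.card_eq_fintype_card (α := {a : (T : Subgroup G) // a ≠ 1}), Fintype.card_subtype_compl,
          Fintype.card_subtype_eq]
        omega
      rw [← h2]
      exact Nat.card_congr
        { toFun := fun a => ⟨a.1, h.sylow_two a.1.2 fun e => a.2 (Subtype.ext e), Subgroup.le_normalizer a.1.2⟩
          invFun := fun t => ⟨⟨t.1, d.involution_mem h t.2.2 t.2.1⟩, fun e => by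
            have := t.2.1
            rw [show (t : G) = 1 from congrArg Subtype.val e, orderOf_one] at this
            omega⟩
          left_inv := fun a => rfl
          right_inv := fun t => rfl }
    rw [h1]
    refine Nat.card_le_card_of_injective (fun i => ⟨⟨v * i.1, ?_⟩, ?_⟩) fun a b e => Subtype.ext
      (mul_left_cancel (congrArg (fun x : {x : D // _} => ((x.1 : D) : G)) e))
    · have hH : v * i.1 ∈ NT T := by
        have := QuotientGroup.eq.mp i.2.2.symm
        rwa [hv'] at this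
      refine Subgroup.mem_inf.mpr ⟨hH, ⟨(v * i.1)⁻¹, inv_mem hH, ?_⟩⟩
      show v * (v * i.1)⁻¹ * v⁻¹ = v * i.1
      rw [mul_inv_rev, hv', Involutions.inv_eq_self_of_orderOf i.2.1, ← mul_assoc v i.1 v, mul_assoc _ v v, hv2,
        mul_one]
    · show v * (v * i.1) * v⁻¹ = (v * i.1)⁻¹
      rw [mul_inv_rev, Involutions.inv_eq_self_of_orderOf i.2.1, hv', ← mul_assoc v v, hv2, one_mul]
  have hDnorm : ∀ x ∈ D, v * x * v⁻¹ ∈ D := by
    rintro x ⟨hx1, y, hy, rfl⟩
    refine Subgroup.mem_inf.mpr ⟨?_, ⟨_, hx1, rfl⟩⟩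
    show v * (v * y * v⁻¹) * v⁻¹ ∈ NT T
    rw [show v * (v * y * v⁻¹) * v⁻¹ = v * v * y * (v * v)⁻¹ by group, hv2]
    simpa using hy
  -- inverted elements induce elements of `F`
  have hIC : ∀ x : {x : D // v * x * v⁻¹ = (x : G)⁻¹}, ((x.1 : D) : G) ∈ C := by
    rintro ⟨⟨x, hxD⟩, hxinv⟩
    refine Subgroup.mem_inf.mpr ⟨hxD, mem_preF.mpr ⟨hxD.1, ?_⟩⟩
    by_contra hxF
    have hxo : orderOf (rho T ⟨x, hxD.1⟩) = r := by
      rw [d.mem_iff, not_not] at hxF
      exact autT_order_r h hxF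
    by_cases hC0 : C = ⊥
    · haveI := d.normal
      have hinj : Function.Injective (((QuotientGroup.mk' F).comp (rho T)).comp
          (Subgroup.inclusion (inf_le_left : D ≤ NT T))) := by
        rw [injective_iff_map_eq_one]
        intro y hy
        have : (y : G) ∈ C := Subgroup.mem_inf.mpr ⟨y.2, mem_preF.mpr ⟨y.2.1, (QuotientGroup.eq_one_iff _).mp hy⟩⟩
        rw [hC0, Subgroup.mem_bot] at this
        exact Subtype.ext this
      have h1 : Nat.card D ≤ Nat.card (autT T ⧸ F) := Nat.card_le_card_of_injective _ hinj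
      have h2 : Nat.card (autT T ⧸ F) = r := by
        have := F.card_eq_card_quotient_mul_card_subgroup
        rw [d.card_A, mul_comm] at this
        exact (Nat.eq_of_mul_eq_mul_right Nat.card_pos this).symm
      have h3 := Nat.card_le_card_of_injective (Subtype.val : {x : D // v * x * v⁻¹ = (x : G)⁻¹} → D)
        Subtype.val_injective
      have := d.lt
      exact absurd ((hI.trans h3).trans (h1.trans h2.le)) (by omega)
    obtain ⟨e, he, he1⟩ := (Subgroup.bot_or_exists_ne_one C).resolve_left hC0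
    haveI : IsCyclic C := by
      haveI := d.cyclic
      let φ : C →* F := ((rho T).comp (Subgroup.inclusion hCN)).codRestrict F fun c => (mem_preF.mp c.2.2).2
      exact isCyclic_of_injective φ fun a b e => d.rho_inj h hCodd hCN (congrArg Subtype.val e)
    have hxn : ∀ c ∈ C, x * c * x⁻¹ ∈ C := fun c hc => by
      obtain ⟨hcN, hcF⟩ := mem_preF.mp hc.2
      refine Subgroup.mem_inf.mpr ⟨mul_mem (mul_mem hxD hc.1) (inv_mem hxD),
        mem_preF.mpr ⟨mul_mem (mul_mem hxD.1 hcN) (inv_mem hxD.1), ?_⟩⟩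
      have := d.normal.conj_mem _ hcF (rho T ⟨x, hxD.1⟩)
      rw [← map_inv, ← map_mul, ← map_mul] at this
      exact this
    have hvn : ∀ c ∈ C, v * c * v⁻¹ ∈ C := fun c hc => by
      obtain ⟨hcN, hcF⟩ := mem_preF.mp hc.2
      have hm := hDnorm c hc.1
      refine Subgroup.mem_inf.mpr ⟨hm, mem_preF.mpr ⟨hm.1, (d.mem_iff _).mpr ?_⟩⟩
      rw [d.orderOf_rho h (x := ⟨_, hm.1⟩) (hDodd.of_dvd_nat (D.orderOf_dvd_natCard hm)), Involutions.orderOf_conj,
        ← d.orderOf_rho h (x := ⟨c, hcN⟩) (hCodd.of_dvd_nat (C.orderOf_dvd_natCard hc))]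
      exact (d.mem_iff _).mp hcF
    let χ : C →* C :=
      { toFun := fun c => ⟨x * c * x⁻¹, hxn c c.2⟩
        map_one' := Subtype.ext (by simp)
        map_mul' := fun a b => Subtype.ext (by simp) }
    let ψ : C →* C :=
      { toFun := fun c => ⟨v * c * v⁻¹, hvn c c.2⟩
        map_one' := Subtype.ext (by simp)
        map_mul' := fun a b => Subtype.ext (by simp) }
    obtain ⟨i, hi⟩ := χ.map_cyclic
    obtain ⟨j, hj⟩ := ψ.map_cyclic
    have hcomm : ∀ c : C, χ (ψ c) = ψ (χ c) := fun c => by rw [hi, hj, hi, hj, ← zpow_mul, ← zpow_mul, mul_comm]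
    have h1 := congrArg Subtype.val (hcomm ⟨e, he⟩)
    change x * (v * e * v⁻¹) * x⁻¹ = v * (x * e * x⁻¹) * v⁻¹ at h1
    set e' := v * e * v⁻¹ with he'
    have h2 : v * (x * e * x⁻¹) * v⁻¹ = x⁻¹ * e' * x := by
      rw [show v * (x * e * x⁻¹) * v⁻¹ = (v * x * v⁻¹) * (v * e * v⁻¹) * (v * x * v⁻¹)⁻¹ by group,
        show v * x * v⁻¹ = x⁻¹ from hxinv, inv_inv]
    rw [h2] at h1
    have h3 : Commute (x ^ 2) e' := by
      refine (mul_inv_eq_iff_eq_mul.mp ?_ : x ^ 2 * e' = e' * x ^ 2)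
      calc x ^ 2 * e' * (x ^ 2)⁻¹ = x * (x * e' * x⁻¹) * x⁻¹ := by rw [pow_two]; group
        _ = e' := by rw [h1]; group
    have he'C := hvn e he
    obtain ⟨he'N, he'F⟩ := mem_preF.mp he'C.2
    have hx2 : orderOf (rho T (⟨x, hxD.1⟩ ^ 2)) = r := by
      rw [map_pow, Nat.Coprime.orderOf_pow (by rw [hxo]; exact h.coprime_two.symm), hxo]
    have h4 := autT_commute_r h hx2
      ((show Commute (⟨x, hxD.1⟩ ^ 2 : NT T) ⟨e', he'N⟩ from Subtype.ext h3.eq).map (rho T)) ((d.mem_iff _).mp he'F)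
    have h5 : e' = 1 := congrArg Subtype.val (d.rho_inj h hCodd hCN (a₁ := ⟨e', he'C⟩) (a₂ := 1) (by rw [map_one]; exact h4))
    exact he1 (conj_eq_one_iff.mp h5)
  have hinjIC : Function.Injective (fun x : {x : D // v * x * v⁻¹ = (x : G)⁻¹} => (⟨_, hIC x⟩ : C)) :=
    fun a b e => Subtype.ext (Subtype.ext (congrArg Subtype.val e :))
  have hge := Nat.card_le_card_of_injective _ hinjIC
  have hcard : Nat.card C = Nat.card F := le_antisymm hCle (hI.trans hge)
  refine ⟨⟨inf_le_right, hCodd, hcard⟩, fun x hx => ?_⟩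
  obtain ⟨y, hy⟩ := ((Nat.bijective_iff_injective_and_card _).mpr
    ⟨hinjIC, le_antisymm hge (hcard ▸ hI)⟩).2 ⟨x, hx⟩
  have e : ((y.1 : D) : G) = x := congrArg Subtype.val hy
  rw [← e]
  exact y.2

/-- `r` is three, and some element of order three has centraliser of order eighteen and is not conjugate to its
inverse. -/
theorem Three.exists_eighteen :
    r = 3 ∧ ∃ n : G, orderOf n = 3 ∧ Nat.card (centralizer ({n} : Set G)) = 18 ∧ ∀ g : G, g * n * g⁻¹ ≠ n⁻¹ := by
  classical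
  haveI := Fact.mk h.prime
  haveI : Fact (Nat.Prime 2) := ⟨Nat.prime_two⟩
  haveI := d.normal
  obtain ⟨s₀, hs₀, hs₀o⟩ := StrongEmb.exists_inv d.embedded
  obtain ⟨u₀, hu₀, hu₀N⟩ : ∃ u : G, orderOf u = 2 ∧ u ∉ NT T := by
    obtain ⟨g, hg⟩ : ∃ g : G, g ∉ NT T := by
      by_contra hh
      push Not at hh
      exact d.embedded.1 ((Subgroup.eq_top_iff' _).mpr hh)
    exact ⟨g * s₀ * g⁻¹, by rw [Involutions.orderOf_conj, hs₀o],
      fun hm => hg (StrongEmb.mem_of_conj d.embedded hs₀ hs₀o hm)⟩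
  set C := Dd T u₀ ⊓ preF T F with hCdef
  obtain ⟨hC, hu₀C⟩ := d.inverted h hu₀ hu₀N
  have hconjC : ∀ g ∈ NT T, Compl' T F (C.map (MulAut.conj g).toMonoidHom) := by
    intro g hg
    refine ⟨?_, ?_, ?_⟩
    · rintro _ ⟨c, hc, rfl⟩
      obtain ⟨hcN, hcF⟩ := mem_preF.mp (hC.le hc)
      refine mem_preF.mpr ⟨mul_mem (mul_mem hg hcN) (inv_mem hg), ?_⟩
      have := d.normal.conj_mem _ hcF (rho T ⟨g, hg⟩)
      rw [← map_inv, ← map_mul, ← map_mul] at this
      exact this
    · rw [Subgroup.card_map_of_injective (MulAut.conj g).injective]; exact hC.odd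
    · rw [Subgroup.card_map_of_injective (MulAut.conj g).injective]; exact hC.card
  -- an element of order `r` normalising `C`
  obtain ⟨n, hnN, hno, hnC⟩ : ∃ n ∈ NT T, orderOf n = r ∧ n ∈ normalizer (C : Set G) := by
    obtain ⟨α, hα⟩ := exists_prime_orderOf_dvd_card' (G := autT T) r (d.card_A ▸ dvd_mul_left r _)
    obtain ⟨g, hg, hgα⟩ := exists_lift α
    obtain ⟨w, hw, hwC⟩ := d.compl_conj h (hconjC g hg) hC
    have hg' : w * g ∈ NT T := mul_mem (Subgroup.le_normalizer hw) hg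
    have hnorm : w * g ∈ normalizer (C : Set G) := Subgroup.mem_normalizer_fintype fun c hc => by
      have h1 : w * (g * c * g⁻¹) * w⁻¹ ∈ C := hwC.le ⟨g * c * g⁻¹, ⟨c, hc, rfl⟩, rfl⟩
      rwa [show w * g * c * (w * g)⁻¹ = w * (g * c * g⁻¹) * w⁻¹ by group]
    have hρ : rho T ⟨w * g, hg'⟩ = α := by
      apply Subtype.ext
      show conjT T (⟨w, Subgroup.le_normalizer hw⟩ * ⟨g, hg⟩) = _
      rw [map_mul, hgα, (conjT_eq_one (g := w)).mpr fun a ha => by
        rw [h.sylow_comm T w hw a ha, mul_inv_cancel_right], one_mul]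
    have hd : r ∣ orderOf (w * g) := by
      rw [← hα, ← hρ, ← Subgroup.orderOf_mk (w * g) hg']
      exact orderOf_map_dvd _ _
    exact ⟨(w * g) ^ (orderOf (w * g) / r), pow_mem hg' _, orderOf_pow_orderOf_div (orderOf_pos _).ne' hd,
      pow_mem hnorm _⟩
  set α := rho T ⟨n, hnN⟩ with hαdef
  have hαo : orderOf α = r := (d.orderOf_rho h (x := ⟨n, hnN⟩) (by rw [hno]; exact h.odd)).trans hno
  have hαfpf : ∀ f ∈ F, Commute α f → f = 1 := fun f hf hc => autT_commute_r h hαo hc ((d.mem_iff f).mp hf)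
  -- the involution it centralises
  obtain ⟨t, htT, hto, hnt⟩ : ∃ t ∈ (T : Subgroup G), orderOf t = 2 ∧ Commute n t := by
    by_contra hh
    push Not at hh
    letI : MulAction (zpowers n) (T : Subgroup G) :=
      MulAction.compHom _ ((conjT T).comp (Subgroup.inclusion (Subgroup.zpowers_le.mpr hnN)))
    have h1 := (IsPGroup.of_card (n := 1) (by rw [Nat.card_zpowers, hno, pow_one]) :
      IsPGroup r (zpowers n)).card_modEq_card_fixedPoints (T : Subgroup G)
    have h2 : MulAction.fixedPoints (zpowers n) (T : Subgroup G) = {1} := by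
      ext v
      refine ⟨fun hv => ?_, fun hv g => ?_⟩
      · by_contra hv1
        exact hh v v.2 (h.sylow_two v.2 fun e => hv1 (Subtype.ext e))
          (mul_inv_eq_iff_eq_mul.mp (congrArg Subtype.val (hv ⟨n, mem_zpowers n⟩)))
      · rw [Set.mem_singleton_iff] at hv
        subst hv
        exact map_one (conjT T (Subgroup.inclusion (Subgroup.zpowers_le.mpr hnN) g))
    rw [h2, Nat.card_coe_set_eq, Set.ncard_singleton, ← d.card_F] at h1
    exact d.not_dvd_F h (Nat.modEq_zero_iff_dvd.mp (Nat.ModEq.add_right_cancel' 1 (by simpa using h1)))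
  have ht1 : t ≠ 1 := fun e => by rw [e, orderOf_one] at hto; omega
  have huniq : ∀ w ∈ (T : Subgroup G), Commute n w → w = 1 ∨ w = t := by
    intro w hw hnw
    by_contra hne
    push Not at hne
    let φ : F → {a : (T : Subgroup G) // a ≠ 1} := fun f =>
      ⟨((f : autT T) : MulAut (T : Subgroup G)) ⟨t, htT⟩, fun e => ht1 (congrArg Subtype.val
        (((f : autT T) : MulAut (T : Subgroup G)).map_eq_one_iff.mp e))⟩
    have hφ : Function.Bijective φ := by
      refine (Nat.bijective_iff_injective_and_card φ).mpr ⟨fun f f' e => ?_, ?_⟩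
      · have e' := congrArg Subtype.val e
        refine Subtype.ext (inv_mul_eq_one.mp (d.semiregular _ (F.mul_mem (F.inv_mem f'.2) f.2) ⟨t, htT⟩
          (fun e'' => ht1 (congrArg Subtype.val e'')) ?_)).symm
        change ((f' : autT T) : MulAut (T : Subgroup G))⁻¹ (((f : autT T) : MulAut (T : Subgroup G)) ⟨t, htT⟩) = _
        rw [show ((f : autT T) : MulAut (T : Subgroup G)) ⟨t, htT⟩ = ((f' : autT T) : MulAut (T : Subgroup G)) ⟨t, htT⟩
          from e']
        exact MulEquiv.symm_apply_apply _ _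
      · haveI : Fintype (T : Subgroup G) := Fintype.ofFinite _
        have := d.card_F
        rw [Nat.card_eq_fintype_card (α := (T : Subgroup G))] at this
        rw [Nat.card_eq_fintype_card (α := {a : (T : Subgroup G) // a ≠ 1}), Fintype.card_subtype_compl,
          Fintype.card_subtype_eq]
        omega
    obtain ⟨f, hf⟩ := hφ.2 ⟨⟨w, hw⟩, fun e => hne.1 (congrArg Subtype.val e)⟩
    have hf' : ((f : autT T) : MulAut (T : Subgroup G)) ⟨t, htT⟩ = ⟨w, hw⟩ := congrArg Subtype.val hf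
    have hαt : (α : MulAut (T : Subgroup G)) ⟨t, htT⟩ = ⟨t, htT⟩ :=
      Subtype.ext (show n * t * n⁻¹ = t by rw [hnt.eq, mul_inv_cancel_right])
    have hαw : (α : MulAut (T : Subgroup G)) ⟨w, hw⟩ = ⟨w, hw⟩ :=
      Subtype.ext (show n * w * n⁻¹ = w by rw [hnw.eq, mul_inv_cancel_right])
    have hαinv : ((α⁻¹ : autT T) : MulAut (T : Subgroup G)) ⟨t, htT⟩ = ⟨t, htT⟩ := by
      show (α : MulAut (T : Subgroup G))⁻¹ ⟨t, htT⟩ = _
      conv_lhs => rw [← hαt]
      exact MulEquiv.symm_apply_apply _ _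
    have h1 : (f : autT T)⁻¹ * (α * f * α⁻¹) = 1 := by
      refine d.semiregular _ (F.mul_mem (F.inv_mem f.2) (d.normal.conj_mem _ f.2 α)) ⟨t, htT⟩
        (fun e => ht1 (congrArg Subtype.val e)) ?_
      show ((f : autT T) : MulAut (T : Subgroup G))⁻¹ ((α : MulAut (T : Subgroup G))
        (((f : autT T) : MulAut (T : Subgroup G)) (((α⁻¹ : autT T) : MulAut (T : Subgroup G)) ⟨t, htT⟩))) = _
      rw [hαinv, hf', hαw, ← hf']
      exact MulEquiv.symm_apply_apply _ _
    have h2 : Commute α (f : autT T) := mul_inv_eq_iff_eq_mul.mp (inv_mul_eq_one.mp h1).symm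
    rw [hαfpf f f.2 h2] at hf'
    exact hne.2 (congrArg Subtype.val hf').symm
  -- the centraliser of `C`
  set B := centralizer (C : Set G) with hB
  have hBord : ∀ g ∈ B, g ^ (2 * r) = 1 → g = 1 := by
    intro g hg hg2
    by_contra hg1
    obtain ⟨c, hc, hc1⟩ := d.compl_nontrivial h hC
    obtain ⟨p, hp, hpd⟩ := Nat.exists_prime_and_dvd (mt orderOf_eq_one_iff.mp hg1)
    have hcom : Commute (g ^ (orderOf g / p)) c :=
      (show Commute g c from (Subgroup.mem_centralizer_iff.mp hg c hc).symm).pow_left _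
    have hgo : orderOf (g ^ (orderOf g / p)) = p := orderOf_pow_orderOf_div (orderOf_pos _).ne' hpd
    have hc2 : c ^ (2 * r) = 1 := by
      rcases hp.dvd_mul.mp (hpd.trans (orderOf_dvd_of_pow_eq_one hg2)) with e | e
      · exact h.pow_of_commute_two (hgo.trans ((Nat.prime_dvd_prime_iff_eq hp Nat.prime_two).mp e)) hcom
      · exact h.pow_of_commute_r (hgo.trans ((Nat.prime_dvd_prime_iff_eq hp h.prime).mp e)) hcom
    exact hc1 (orderOf_eq_one_iff.mp (Nat.eq_one_of_dvd_coprimes (d.coprime_F h)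
      (hC.card ▸ C.orderOf_dvd_natCard hc) (orderOf_dvd_of_pow_eq_one hc2)))
  have hBnorm : ∀ g : G, (∀ c ∈ C, g⁻¹ * c * g ∈ C) → g ∈ normalizer (B : Set G) := by
    intro g hg
    refine Subgroup.mem_normalizer_fintype fun b hb => Subgroup.mem_centralizer_iff.mpr fun c hc => ?_
    calc c * (g * b * g⁻¹) = g * ((g⁻¹ * c * g) * b) * g⁻¹ := by group
      _ = g * (b * (g⁻¹ * c * g)) * g⁻¹ := by rw [Subgroup.mem_centralizer_iff.mp hb _ (hg c hc)]
      _ = _ := by group
  have hu₀B : u₀ ∈ normalizer (B : Set G) := hBnorm u₀ fun c hc => by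
    have h1 := hu₀C c hc
    rw [Involutions.inv_eq_self_of_orderOf hu₀] at h1 ⊢
    rw [h1]; exact inv_mem hc
  have hBinv : ∀ b ∈ B, u₀ * b * u₀⁻¹ = b⁻¹ :=
    inverts_of_fpf hu₀ hu₀B fun b hb hc => hBord b hb (h.pow_of_commute_two hu₀ hc)
  have hBcomm : ∀ a ∈ B, ∀ b ∈ B, a * b = b * a := by
    intro a ha b hb
    have e := hBinv _ (mul_mem (inv_mem ha) (inv_mem hb))
    rw [show u₀ * (a⁻¹ * b⁻¹) * u₀⁻¹ = u₀ * a⁻¹ * u₀⁻¹ * (u₀ * b⁻¹ * u₀⁻¹) by group, hBinv _ (inv_mem ha),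
      hBinv _ (inv_mem hb), inv_inv, inv_inv, mul_inv_rev, inv_inv, inv_inv] at e
    exact e
  have hnB : n ∈ normalizer (B : Set G) := hBnorm n fun c hc => by
    have := (Subgroup.mem_normalizer_iff.mp (inv_mem hnC) c).mp hc
    rwa [inv_inv] at this
  have hnfix : ∀ b ∈ B, Commute n b → b = 1 := fun b hb hc => hBord b hb (h.pow_of_commute_r hno hc)
  have hBN : ∀ g ∈ B, g ∈ NT T → g ∈ C := by
    intro g hg hgN
    obtain ⟨c₀, hc₀, hc₀1⟩ := d.compl_nontrivial h hC
    obtain ⟨hcN₀, hcF₀⟩ := mem_preF.mp (hC.le hc₀)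
    have hgF : rho T ⟨g, hgN⟩ ∈ F := d.mem_F_of_commute h hcF₀
      (fun e => d.compl_not_mem h hC hc₀ hc₀1 (d.rho_ker h e))
      ((show Commute (⟨g, hgN⟩ : NT T) ⟨c₀, hcN₀⟩ from
        Subtype.ext (Subgroup.mem_centralizer_iff.mp hg c₀ hc₀).symm).map (rho T))
    obtain ⟨c, hcN, hc, hce⟩ := d.compl_surj h hC hgF
    have hw : c⁻¹ * g ∈ (T : Subgroup G) := d.rho_ker h (x := ⟨c, hcN⟩⁻¹ * ⟨g, hgN⟩)
      (by rw [map_mul, map_inv, hce, inv_mul_cancel])
    have hw1 : c⁻¹ * g = 1 := d.normalizer_compl h hC hw fun x hx => by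
      have hxg : x * g = g * x := Subgroup.mem_centralizer_iff.mp hg x hx
      rw [show c⁻¹ * g * x * (c⁻¹ * g)⁻¹ = c⁻¹ * (g * x * g⁻¹) * c by group, ← hxg, mul_inv_cancel_right]
      exact mul_mem (mul_mem (inv_mem hc) hx) hc
    rw [inv_mul_eq_one] at hw1
    exact hw1 ▸ hc
  have hCB : C ≤ B := fun c hc => Subgroup.mem_centralizer_iff.mpr fun x hx => by
    haveI := d.cyclic
    have := hC.le hc
    obtain ⟨hcN, hcF⟩ := mem_preF.mp this
    obtain ⟨hxN, hxF⟩ := mem_preF.mp (hC.le hx)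
    have h1 : rho T (⟨x, hxN⟩ * ⟨c, hcN⟩) = rho T (⟨c, hcN⟩ * ⟨x, hxN⟩) := by
      rw [map_mul, map_mul]
      exact congrArg Subtype.val (IsMulCommutative.is_comm.comm (⟨_, hxF⟩ : F) ⟨_, hcF⟩)
    exact congrArg Subtype.val (d.rho_inj h hC.odd hC.le_N (a₁ := ⟨x * c, mul_mem hx hc⟩)
      (a₂ := ⟨c * x, mul_mem hc hx⟩) h1)
  -- an involution inverting `C` and centralising `n`
  obtain ⟨u, huo, huN, hnu, huC⟩ : ∃ u : G, orderOf u = 2 ∧ u ∉ NT T ∧ Commute n u ∧
      ∀ c ∈ C, u * c * u⁻¹ = c⁻¹ := by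
    have hy : u₀⁻¹ * (n * u₀ * n⁻¹) ∈ B := Subgroup.mem_centralizer_iff.mpr fun c hc => by
      have hc' : n⁻¹ * c * n ∈ C := by
        have := (Subgroup.mem_normalizer_iff.mp (inv_mem hnC) c).mp hc
        rwa [inv_inv] at this
      have h1 : n * u₀ * n⁻¹ * c * (n * u₀ * n⁻¹)⁻¹ = c⁻¹ := by
        calc n * u₀ * n⁻¹ * c * (n * u₀ * n⁻¹)⁻¹ = n * (u₀ * (n⁻¹ * c * n) * u₀⁻¹) * n⁻¹ := by group
          _ = c⁻¹ := by rw [hu₀C _ hc']; group
      have h2 : u₀ * c * u₀⁻¹ = c⁻¹ := hu₀C c hc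
      calc c * (u₀⁻¹ * (n * u₀ * n⁻¹)) = u₀⁻¹ * (u₀ * c * u₀⁻¹) * (n * u₀ * n⁻¹) := by group
        _ = u₀⁻¹ * (n * u₀ * n⁻¹ * c * (n * u₀ * n⁻¹)⁻¹) * (n * u₀ * n⁻¹) := by rw [h1, h2]
        _ = _ := by group
    let θ : B → B := fun b => ⟨b * (n * (b : G)⁻¹ * n⁻¹),
      mul_mem b.2 ((Subgroup.mem_normalizer_iff.mp hnB _).mp (inv_mem b.2))⟩
    have hinj : Function.Injective θ := by
      intro a b e
      have e' : (a : G) * (n * (a : G)⁻¹ * n⁻¹) = b * (n * (b : G)⁻¹ * n⁻¹) := congrArg Subtype.val e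
      have h1 : n * ((b : G)⁻¹ * a) * n⁻¹ = (b : G)⁻¹ * a := by
        calc n * ((b : G)⁻¹ * a) * n⁻¹ = (b : G)⁻¹ * (b * (n * (b : G)⁻¹ * n⁻¹)) * (n * a * n⁻¹) := by group
          _ = _ := by rw [← e']; group
      exact Subtype.ext (inv_mul_eq_one.mp (hnfix _ (mul_mem (inv_mem b.2) a.2) (mul_inv_eq_iff_eq_mul.mp h1))).symm
    obtain ⟨⟨b, hb⟩, hbe⟩ := (Finite.injective_iff_surjective.mp hinj) ⟨_, hy⟩
    have hbe' : b * (n * b⁻¹ * n⁻¹) = u₀⁻¹ * (n * u₀ * n⁻¹) := congrArg Subtype.val hbe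
    have huc : ∀ c ∈ C, u₀ * b * c * (u₀ * b)⁻¹ = c⁻¹ := fun c hc => by
      rw [show u₀ * b * c * (u₀ * b)⁻¹ = u₀ * (b * c * b⁻¹) * u₀⁻¹ by group,
        ← Subgroup.mem_centralizer_iff.mp hb c hc, mul_inv_cancel_right, hu₀C c hc]
    have hsq : u₀ * b * (u₀ * b) = 1 := by
      calc u₀ * b * (u₀ * b) = u₀ * b * u₀⁻¹ * (u₀ * u₀) * b := by group
        _ = 1 := by rw [hBinv b hb, Involutions.mul_self_eq_one_of_orderOf hu₀, mul_one, inv_mul_cancel]
    have hne : u₀ * b ≠ 1 := by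
      intro e
      obtain ⟨c, hc, hc1⟩ := d.compl_nontrivial h hC
      have := huc c hc
      rw [e, one_mul, inv_one, mul_one, ← mul_eq_one_iff_eq_inv] at this
      refine hc1 (orderOf_eq_one_iff.mp (Nat.eq_one_of_dvd_coprimes (Nat.coprime_two_left.mpr hC.odd)
        (orderOf_dvd_of_pow_eq_one (pow_two c ▸ this)) (C.orderOf_dvd_natCard hc)))
    refine ⟨u₀ * b, Involutions.orderOf_eq_two_iff'.mpr ⟨hsq, hne⟩, fun hm => ?_, ?_, huc⟩
    · have hT := d.involution_mem h hm (Involutions.orderOf_eq_two_iff'.mpr ⟨hsq, hne⟩)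
      exact hne (d.normalizer_compl h hC hT fun c hc => by rw [huc c hc]; exact inv_mem hc)
    · refine (mul_inv_eq_iff_eq_mul.mp ?_ : n * (u₀ * b) = u₀ * b * n)
      calc n * (u₀ * b) * n⁻¹ = u₀ * (u₀⁻¹ * (n * u₀ * n⁻¹)) * (n * b * n⁻¹) := by group
        _ = u₀ * b := by rw [← hbe']; group
  have huB : ∀ c ∈ C, u⁻¹ * c * u = c⁻¹ := fun c hc => by
    rw [Involutions.inv_eq_self_of_orderOf huo]
    have := huC c hc
    rwa [Involutions.inv_eq_self_of_orderOf huo] at this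
  -- the fixed cosets of `n`
  have hfix : ∀ g : G, g⁻¹ * n * g ∈ NT T →
      g ∈ NT T ∨ u⁻¹ * g ∈ NT T ∨ (t * u)⁻¹ * g ∈ NT T := by
    intro g hg
    by_cases hgN : g ∈ NT T
    · exact Or.inl hgN
    right
    obtain ⟨⟨v, hvo, hvg⟩⟩ : Nonempty {i : G // orderOf i = 2 ∧ (i : G ⧸ NT T) = (g : G ⧸ NT T)} := by
      refine (Nat.card_pos_iff.mp ?_).1
      rw [StrongEmb.card_coset_involutions d.embedded]
      haveI : Nonempty {i : G // orderOf i = 2 ∧ i ∈ NT T} := ⟨⟨s₀, hs₀o, hs₀⟩⟩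
      exact Nat.card_pos
    have hvgN : v⁻¹ * g ∈ NT T := QuotientGroup.eq.mp hvg
    have hvN : v ∉ NT T := fun hm => hgN (by simpa using mul_mem hm hvgN)
    have hvn : v⁻¹ * n * v ∈ NT T := by
      have := mul_mem (mul_mem hvgN hg) (inv_mem hvgN)
      simpa [mul_assoc] using this
    obtain ⟨hCv, hvinv⟩ := d.inverted h hvo hvN
    set Cv := Dd T v ⊓ preF T F with hCvdef
    have hnDd : n ∈ Dd T v := Subgroup.mem_inf.mpr ⟨hnN, ⟨v⁻¹ * n * v, hvn, by
      show v * (v⁻¹ * n * v) * v⁻¹ = n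
      group⟩⟩
    obtain ⟨w, hw, hwC⟩ := d.compl_conj h hC hCv
    have hwn : Commute n w := by
      have h1 : w⁻¹ * (n * w * n⁻¹) = 1 := by
        refine d.normalizer_compl h hC (mul_mem (inv_mem hw) ((Subgroup.mem_normalizer_iff.mp hnN w).mp hw))
          fun c hc => ?_
        have hc' : n⁻¹ * c * n ∈ C := by
          have := (Subgroup.mem_normalizer_iff.mp (inv_mem hnC) c).mp hc
          rwa [inv_inv] at this
        have h2 : w * (n⁻¹ * c * n) * w⁻¹ ∈ Cv := hwC ▸ ⟨_, hc', rfl⟩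
        have h3 : n * (w * (n⁻¹ * c * n) * w⁻¹) * n⁻¹ ∈ Cv := by
          obtain ⟨hxN, hxF⟩ := mem_preF.mp h2.2
          refine Subgroup.mem_inf.mpr ⟨mul_mem (mul_mem hnDd h2.1) (inv_mem hnDd),
            mem_preF.mpr ⟨mul_mem (mul_mem hnN hxN) (inv_mem hnN), ?_⟩⟩
          have := d.normal.conj_mem _ hxF (rho T ⟨n, hnN⟩)
          rw [← map_inv, ← map_mul, ← map_mul] at this
          exact this
        rw [← hwC] at h3
        obtain ⟨c₂, hc₂, e⟩ := h3
        have e' : w * c₂ * w⁻¹ = n * (w * (n⁻¹ * c * n) * w⁻¹) * n⁻¹ := e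
        have : w⁻¹ * (n * w * n⁻¹) * c * (w⁻¹ * (n * w * n⁻¹))⁻¹ = c₂ := by
          calc _ = w⁻¹ * (n * (w * (n⁻¹ * c * n) * w⁻¹) * n⁻¹) * w := by group
            _ = c₂ := by rw [← e']; group
        rw [this]
        exact hc₂
      exact mul_inv_eq_iff_eq_mul.mp (inv_mul_eq_one.mp h1).symm
    set v' := w⁻¹ * v * w with hv'
    have hv'C : ∀ c ∈ C, v' * c * v'⁻¹ = c⁻¹ := fun c hc => by
      have := hvinv (w * c * w⁻¹) (hwC ▸ ⟨c, hc, rfl⟩)
      calc v' * c * v'⁻¹ = w⁻¹ * (v * (w * c * w⁻¹) * v⁻¹) * w := by rw [hv']; group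
        _ = c⁻¹ := by rw [this]; group
    set y := u⁻¹ * v' with hy
    have hyB : y ∈ B := Subgroup.mem_centralizer_iff.mpr fun c hc => by
      have h1 := hv'C c hc
      have h2 := huC c hc
      calc c * (u⁻¹ * v') = u⁻¹ * (u * c * u⁻¹) * v' := by group
        _ = u⁻¹ * (v' * c * v'⁻¹) * v' := by rw [h1, h2]
        _ = y * c := by rw [hy]; group
    have hθ : y⁻¹ * (n * y * n⁻¹) ∈ C := by
      refine hBN _ (mul_mem (inv_mem hyB) ((Subgroup.mem_normalizer_iff.mp hnB y).mp hyB)) ?_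
      have e : y⁻¹ * (n * y * n⁻¹) = v'⁻¹ * n * v' * n⁻¹ := by
        rw [hy, show n * (u⁻¹ * v') * n⁻¹ = (n * u⁻¹) * v' * n⁻¹ by group, hnu.inv_right.eq]
        group
      rw [e, hv']
      have : w⁻¹ * (v⁻¹ * n * v) * w ∈ NT T :=
        mul_mem (mul_mem (inv_mem (Subgroup.le_normalizer hw)) hvn) (Subgroup.le_normalizer hw)
      refine mul_mem ?_ (inv_mem hnN)
      convert this using 1
      calc (w⁻¹ * v * w)⁻¹ * n * (w⁻¹ * v * w) = w⁻¹ * v⁻¹ * (w * n * w⁻¹) * v * w := by group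
        _ = _ := by rw [← hwn.eq, mul_inv_cancel_right]; group
    let θ : C → C := fun c => ⟨(c : G)⁻¹ * (n * c * n⁻¹),
      mul_mem (inv_mem c.2) ((Subgroup.mem_normalizer_iff.mp hnC _).mp c.2)⟩
    have key : ∀ a b : G, a ∈ B → b ∈ B → a⁻¹ * (n * a * n⁻¹) = b⁻¹ * (n * b * n⁻¹) → a = b := by
      intro a b ha hb e
      have h1 : n * (a * b⁻¹) * n⁻¹ = a * b⁻¹ := by
        calc n * (a * b⁻¹) * n⁻¹ = a * (a⁻¹ * (n * a * n⁻¹)) * (n * b * n⁻¹)⁻¹ := by group
          _ = a * (b⁻¹ * (n * b * n⁻¹)) * (n * b * n⁻¹)⁻¹ := by rw [e]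
          _ = a * b⁻¹ := by group
      exact mul_inv_eq_one.mp (hnfix _ (mul_mem ha (inv_mem hb)) (mul_inv_eq_iff_eq_mul.mp h1))
    have hinj : Function.Injective θ := fun a b e =>
      Subtype.ext (key a b (hCB a.2) (hCB b.2) (congrArg Subtype.val e))
    obtain ⟨c, hc⟩ := (Finite.injective_iff_surjective.mp hinj) ⟨_, hθ⟩
    have hyN : y ∈ NT T := key c y (hCB c.2) hyB (congrArg Subtype.val hc) ▸ hC.le_N c.2
    have hm : u⁻¹ * (w⁻¹ * g) ∈ NT T := by
      have : y * (w⁻¹ * (v⁻¹ * g)) ∈ NT T := mul_mem hyN (mul_mem (inv_mem (Subgroup.le_normalizer hw)) hvgN)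
      convert this using 1
      rw [hy, hv']; group
    rcases huniq w hw hwn with rfl | rfl
    · exact Or.inl (by simpa using hm)
    · exact Or.inr (by simpa [mul_assoc] using hm)
  -- the part in the normaliser
  have hstab : ∀ g ∈ NT T, g * n * g⁻¹ ∈ zpowers n → g ∈ zpowers (t * n) := by
    intro g hg hgn
    obtain ⟨i, hi⟩ := Subgroup.mem_zpowers_iff.mp hgn
    have hαF : α ∉ F := fun hm => (d.mem_iff α).mp hm (hαo ▸ dvd_rfl)
    have hq : Nat.card (autT T ⧸ F) = r := by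
      have := F.card_eq_card_quotient_mul_card_subgroup
      rw [d.card_A, mul_comm] at this
      exact (Nat.eq_of_mul_eq_mul_right Nat.card_pos this).symm
    have hgen := mem_zpowers_of_prime_card hq (g' := QuotientGroup.mk' F (rho T ⟨g, hg⟩))
      (g := QuotientGroup.mk' F α) fun e => hαF ((QuotientGroup.eq_one_iff α).mp e)
    obtain ⟨k, hk⟩ := Subgroup.mem_zpowers_iff.mp hgen
    rw [← map_zpow] at hk
    set f := (α ^ k)⁻¹ * rho T ⟨g, hg⟩ with hf
    have hfF : f ∈ F := QuotientGroup.eq.mp hk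
    have hρ : rho T ⟨g, hg⟩ * α * (rho T ⟨g, hg⟩)⁻¹ = α ^ i := by
      rw [hαdef, ← map_inv, ← map_mul, ← map_mul, ← map_zpow]
      exact congrArg _ (Subtype.ext hi.symm)
    have hf2 : f * α * f⁻¹ = α ^ i := by
      rw [hf, show (α ^ k)⁻¹ * rho T ⟨g, hg⟩ * α * ((α ^ k)⁻¹ * rho T ⟨g, hg⟩)⁻¹ =
        (α ^ k)⁻¹ * (rho T ⟨g, hg⟩ * α * (rho T ⟨g, hg⟩)⁻¹) * α ^ k by group, hρ]
      group
    have hfc : Commute α f := by
      have h1 : f * α * f⁻¹ * α⁻¹ ∈ F := by
        rw [show f * α * f⁻¹ * α⁻¹ = f * (α * f⁻¹ * α⁻¹) by group]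
        exact F.mul_mem hfF (d.normal.conj_mem _ (F.inv_mem hfF) α)
      have h2 : f * α * f⁻¹ * α⁻¹ = 1 := by
        refine hαfpf _ h1 ?_
        rw [hf2]
        exact ((Commute.refl α).zpow_right i).mul_right (Commute.refl α).inv_right
      exact (mul_inv_eq_iff_eq_mul.mp (mul_inv_eq_one.mp h2)).symm
    have hf1 := hαfpf f hfF hfc
    rw [hf, inv_mul_eq_one] at hf1
    have hw : (n ^ k)⁻¹ * g ∈ (T : Subgroup G) := d.rho_ker h (x := (⟨n, hnN⟩ ^ k)⁻¹ * ⟨g, hg⟩)
      (by rw [map_mul, map_inv, map_zpow, ← hαdef, ← hf1, inv_mul_cancel])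
    set w := (n ^ k)⁻¹ * g with hwdef
    have hwn : Commute n w := by
      have h1 : w * n * w⁻¹ ∈ zpowers n := by
        rw [hwdef, show (n ^ k)⁻¹ * g * n * ((n ^ k)⁻¹ * g)⁻¹ = (n ^ k)⁻¹ * (g * n * g⁻¹) * n ^ k by group]
        exact mul_mem (mul_mem (inv_mem (zpow_mem (mem_zpowers n) k)) hgn) (zpow_mem (mem_zpowers n) k)
      have h2 : w * n * w⁻¹ * n⁻¹ ∈ (T : Subgroup G) := by
        rw [show w * n * w⁻¹ * n⁻¹ = w * (n * w⁻¹ * n⁻¹) by group]
        exact mul_mem hw ((Subgroup.mem_normalizer_iff.mp hnN _).mp (inv_mem hw))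
      have h4 := Subgroup.orderOf_dvd_natCard _ (mul_mem h1 (inv_mem (mem_zpowers n)))
      rw [Nat.card_zpowers, hno] at h4
      have h3 := d.eq_one_of_odd h h2 (h.odd.of_dvd_nat h4)
      exact (mul_inv_eq_iff_eq_mul.mp (mul_inv_eq_one.mp h3)).symm
    have htn : Commute t n := hnt.symm
    have htS : t ∈ zpowers (t * n) := by
      refine ⟨r, ?_⟩
      show (t * n) ^ (r : ℤ) = t
      rw [zpow_natCast, htn.mul_pow, ← hno, pow_orderOf_eq_one, mul_one, hno]
      obtain ⟨j, hj⟩ := h.odd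
      rw [hj, pow_succ, pow_mul, pow_two, h.sq_eq_one T.2 htT, one_pow, one_mul]
    have hnS : n ∈ zpowers (t * n) := by
      have := mul_mem (inv_mem htS) (mem_zpowers (t * n))
      rwa [inv_mul_cancel_left] at this
    have : g = n ^ k * w := by rw [hwdef]; group
    rw [this]
    rcases huniq w hw hwn with e | e <;> rw [e]
    · exact mul_mem (zpow_mem hnS k) (one_mem _)
    · exact mul_mem (zpow_mem hnS k) htS
  set K := centralizer ({n} : Set G) with hK
  have htn : Commute (t * n) n := (hnt.symm).mul_left (Commute.refl n)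
  have hSK : zpowers (t * n) ≤ K := Subgroup.zpowers_le.mpr (mem_centralizer_singleton_iff.mpr htn.eq)
  have hSN : zpowers (t * n) ≤ NT T := Subgroup.zpowers_le.mpr (mul_mem (Subgroup.le_normalizer htT) hnN)
  have htu : Commute n (t * u) := hnt.mul_right hnu
  have htun : t * u ∉ NT T := fun hm => huN (by
    have := mul_mem (inv_mem (Subgroup.le_normalizer htT)) hm
    rwa [inv_mul_cancel_left] at this)
  have hutu : u⁻¹ * (t * u) ∉ NT T := fun hm => huN (by
    refine inv_mem_iff.mp (StrongEmb.mem_of_conj d.embedded (Subgroup.le_normalizer htT) hto (g := u⁻¹) ?_)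
    rwa [inv_inv, mul_assoc])
  -- no element inverts `n`
  have hnorm : ∀ g : G, g * n * g⁻¹ ∈ zpowers n → Commute n g := by
    intro g hg
    have hg' : g⁻¹ * n * g ∈ zpowers n := by
      have hgz : g ∈ normalizer (zpowers n : Set G) := Subgroup.mem_normalizer_fintype fun x hx => by
        obtain ⟨i, rfl⟩ := hx
        show g * n ^ i * g⁻¹ ∈ zpowers n
        rw [← conj_zpow]
        exact zpow_mem hg i
      have := (Subgroup.mem_normalizer_iff.mp (inv_mem hgz) n).mp (mem_zpowers n)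
      rwa [inv_inv] at this
    have key : ∀ e : G, Commute n e → e⁻¹ * g ∈ NT T → Commute n g := by
      intro e he hm
      have h1 : e⁻¹ * g * n * (e⁻¹ * g)⁻¹ ∈ zpowers n := by
        obtain ⟨i, hi⟩ := Subgroup.mem_zpowers_iff.mp hg
        rw [show e⁻¹ * g * n * (e⁻¹ * g)⁻¹ = e⁻¹ * (g * n * g⁻¹) * e by group, ← hi, mul_assoc,
          (he.zpow_left i).eq, inv_mul_cancel_left]
        exact zpow_mem (mem_zpowers n) i
      have h2 := (mem_centralizer_singleton_iff.mp (hSK (hstab _ hm h1))).symm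
      have h3 := he.mul_right (show Commute n (e⁻¹ * g) from h2)
      rwa [mul_inv_cancel_left] at h3
    rcases hfix g ((Subgroup.zpowers_le.mpr hnN) hg') with hm | hm | hm
    · exact key 1 (Commute.one_right n) (by simpa using hm)
    · exact key u hnu hm
    · exact key (t * u) htu hm
  -- the order of the centraliser
  have hKcard : Nat.card K = 3 * (2 * r) := by
    have hS : Nat.card (zpowers (t * n)) = 2 * r := by
      rw [Nat.card_zpowers, hnt.symm.orderOf_mul_eq_mul_orderOf_of_coprime (by rw [hto, hno]; exact h.coprime_two),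
        hto, hno]
    set S' := (zpowers (t * n)).subgroupOf K with hS'
    have hi : S'.index = 3 := by
      let e : Fin 3 → G := ![1, u, t * u]
      have he : ∀ i, e i ∈ K := by
        intro i
        fin_cases i
        · exact one_mem K
        · exact mem_centralizer_singleton_iff.mpr hnu.eq.symm
        · exact mem_centralizer_singleton_iff.mpr htu.eq.symm
      have hsame : ∀ i j, ((⟨e i, he i⟩ : K) : K ⧸ S') = ((⟨e j, he j⟩ : K) : K ⧸ S') → (e i)⁻¹ * e j ∈ NT T :=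
        fun i j heq => hSN (Subgroup.mem_subgroupOf.mp (QuotientGroup.eq.mp heq))
      have hne : ∀ i j, i < j → (e i)⁻¹ * e j ∉ NT T := by
        intro i j hij
        fin_cases i <;> fin_cases j <;> first
          | exact absurd hij (by decide)
          | exact hutu
          | (show (1 : G)⁻¹ * u ∉ NT T
             rw [inv_one, one_mul]; exact huN)
          | (show (1 : G)⁻¹ * (t * u) ∉ NT T
             rw [inv_one, one_mul]; exact htun)
      have hbij : Function.Bijective fun i => ((⟨e i, he i⟩ : K) : K ⧸ S') := by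
        refine ⟨fun i j heq => ?_, fun q => ?_⟩
        · rcases lt_trichotomy i j with hij | hij | hij
          · exact absurd (hsame i j heq) (hne i j hij)
          · exact hij
          · exact absurd (hsame j i heq.symm) (hne j i hij)
        · induction q using QuotientGroup.induction_on with
          | _ g =>
          have hgn : Commute n g := (mem_centralizer_singleton_iff.mp g.2).symm
          have hgN : (g : G)⁻¹ * n * g ∈ NT T := by rw [mul_assoc, hgn.eq, inv_mul_cancel_left]; exact hnN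
          have key : ∀ i, (e i)⁻¹ * g ∈ NT T → ((⟨e i, he i⟩ : K) : K ⧸ S') = (g : K ⧸ S') := fun i hm => by
            rw [QuotientGroup.eq, Subgroup.mem_subgroupOf]
            refine hstab _ hm ?_
            have hc : Commute n ((e i)⁻¹ * g) :=
              (show Commute n (e i) from (mem_centralizer_singleton_iff.mp (he i)).symm).inv_right.mul_right hgn
            show (e i)⁻¹ * (g : G) * n * ((e i)⁻¹ * (g : G))⁻¹ ∈ zpowers n
            rw [← hc.eq, mul_inv_cancel_right]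
            exact mem_zpowers n
          rcases hfix g hgN with hm | hm | hm
          · exact ⟨0, key 0 (by simpa [e] using hm)⟩
          · exact ⟨1, key 1 (by simpa [e] using hm)⟩
          · exact ⟨2, key 2 (by simpa [e] using hm)⟩
      rw [Subgroup.index_eq_card, ← Nat.card_eq_of_bijective _ hbij, Nat.card_eq_fintype_card, Fintype.card_fin]
    rw [← S'.card_mul_index, hi, Nat.card_congr (Subgroup.subgroupOfEquivOfLe hSK).toEquiv, hS, mul_comm]
  have hr3 : r = 3 := by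
    haveI : Fact (Nat.Prime 3) := ⟨Nat.prime_three⟩
    obtain ⟨x, hx⟩ := exists_prime_orderOf_dvd_card' (G := K) 3 (hKcard ▸ dvd_mul_right 3 _)
    have h1 := orderOf_dvd_of_pow_eq_one (h.pow_of_commute_r hno (c := (x : G)) (mem_centralizer_singleton_iff.mp x.2).symm)
    rw [Subgroup.orderOf_coe, hx] at h1
    rcases Nat.prime_three.dvd_mul.mp h1 with h2 | h2
    · norm_num at h2
    · exact ((Nat.prime_dvd_prime_iff_eq Nat.prime_three h.prime).mp h2).symm
  refine ⟨hr3, n, hno.trans hr3, by rw [hKcard, hr3], fun g hg => ?_⟩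
  have hc := hnorm g (hg ▸ inv_mem (mem_zpowers n))
  rw [← hc.eq, mul_inv_cancel_right, ← mul_eq_one_iff_eq_inv, ← pow_two] at hg
  have := orderOf_dvd_of_pow_eq_one hg
  rw [hno] at this
  exact h.ne_two ((Nat.prime_dvd_prime_iff_eq h.prime Nat.prime_two).mp this)

end CfsgLib.TwoR
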