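import Cfsg.Agent.Lib.TwoR.CaseII
import Cfsg.Agent.Lib.TwoR.ThreeGeom
import Cfsg.Agent.Lib.TwoR.ThreeEnd
import Cfsg.Agent.Lib.TwoR.Defs

/-!
The simple groups with an element of order `2 r` under the hypothesis on orders.
-/

set_option autoImplicit false

namespace CfsgLib.TwoR

open Subgroup

universe u

theorem rSimple : RSimple.{u} := by
  intro G _ _ _ r h hna h2r
  haveI : Fact (Nat.Prime 2) := ⟨Nat.prime_two⟩
  obtain ⟨T⟩ : Nonempty (Sylow 2 G) := inferInstance
  by_cases hK : ∀ t ∈ (T : Subgroup G), orderOf t = 2 → KK t = ⊥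
  · exfalso
    obtain ⟨F, d⟩ := exists_three h hna h2r T hK
    obtain ⟨hr, n, hn, hcard, hinv⟩ := d.exists_eighteen h
    subst hr
    exact no_eighteen hna (fun P hP x hx => h.pow_r hP hx) hn hcard hinv
  · push Not at hK
    obtain ⟨a, ha, hao, haK⟩ := hK
    exact psl_of_core h hna h2r T ha hao haK

end CfsgLib.TwoR
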