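import Cfsg.Agent.Lib.TwoR.Signal
import Cfsg.Agent.Lib.TwoR.Defs
import Cfsg.Agent.Lib.Elementary
import Cfsg.Agent.Lib.PSL2Spectrum
import Cfsg.Agent.Lib.PSL2.Out
import Cfsg.Agent.Lib.Chev.Aut.FieldCyclic
import Cfsg.Agent.S1230
import Mathlib.NumberTheory.LegendreSymbol.QuadraticChar.GaussSum

/-!
A non-solvable group with an element of order `2 r` under the hypothesis on orders is simple.
-/

set_option autoImplicit false
set_option linter.unusedSectionVars false
set_option linter.style.haveILetI false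

namespace CfsgLib.TwoR

open Subgroup Matrix
open scoped MatrixGroups

universe u

variable {G : Type u} [Group G] [Finite G] {r : ℕ}

theorem four_le_of_nonsolvable (h : Hyp G r) (hns : ¬ Group.IsSolvable G) (T : Sylow 2 G) :
    4 ≤ Nat.card (T : Subgroup G) := by
  classical
  by_contra hlt
  haveI : Fact (Nat.Prime 2) := ⟨Nat.prime_two⟩
  refine hns (solvable_of_central T fun n hn => Subgroup.mem_centralizer_iff.mpr fun a ha => ?_)
  obtain ⟨j, hj⟩ := IsPGroup.iff_card.mp T.2
  have hj1 : j ≤ 1 := by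
    by_contra h2
    have : 2 ^ 2 ≤ 2 ^ j := Nat.pow_le_pow_right two_pos (by omega)
    omega
  have hmem : n * a * n⁻¹ ∈ (T : Subgroup G) := (Subgroup.mem_normalizer_iff.mp hn a).mp ha
  suffices e : n * a * n⁻¹ = a by exact (mul_inv_eq_iff_eq_mul.mp e).symm
  by_cases ha1 : a = 1
  · simp [ha1]
  by_contra hne
  have hb1 : n * a * n⁻¹ ≠ 1 := fun e => ha1 (conj_eq_one_iff.mp e)
  haveI : Fintype (T : Subgroup G) := Fintype.ofFinite _
  have h2 : Fintype.card (T : Subgroup G) ≤ 2 := by
    rw [← Nat.card_eq_fintype_card, hj]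
    calc 2 ^ j ≤ 2 ^ 1 := Nat.pow_le_pow_right two_pos hj1
      _ = 2 := by norm_num
  have h3 : ({1, ⟨a, ha⟩, ⟨_, hmem⟩} : Finset (T : Subgroup G)).card = 3 := by
    rw [Finset.card_insert_of_notMem (by simp [Subtype.ext_iff, Ne.symm ha1, hb1.symm]),
      Finset.card_pair (by simp [Subtype.ext_iff, Ne.symm hne])]
  have := Finset.card_le_univ ({1, ⟨a, ha⟩, ⟨_, hmem⟩} : Finset (T : Subgroup G))
  omega

/-- The solvable radical is trivial. -/
theorem solvable_normal_eq_bot (h : Hyp G r) (hns : ¬ Group.IsSolvable G) (N : Subgroup G) [N.Normal]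
    (hN : Group.IsSolvable N) : N = ⊥ := by
  by_contra hN1
  haveI : Fact (Nat.Prime 2) := ⟨Nat.prime_two⟩
  haveI := Fact.mk h.prime
  obtain ⟨V, hVn, hVN, hV0, hmin⟩ := CfsgLib.exists_minimal_normal hN1
  haveI : Group.IsSolvable V :=
    Group.isSolvable_of_isSolvable_injective (f := Subgroup.inclusion hVN) (Subgroup.inclusion_injective _)
  obtain ⟨-, p, hp, hVp⟩ := CfsgLib.minimal_normal_elementary hV0 inferInstance hmin
  haveI := Fact.mk hp
  have hVpg : IsPGroup p V := fun x => ⟨1, Subtype.ext (by simpa using hVp _ x.2)⟩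
  obtain ⟨T⟩ : Nonempty (Sylow 2 G) := inferInstance
  have hnorm : normalizer (V : Set G) = ⊤ := Subgroup.normalizer_eq_top_iff.mpr hVn
  by_cases hpr : p = r
  · subst hpr
    haveI := local_solvable h (T := T) (D := V) ⟨hVpg, by rw [hnorm]; exact le_top⟩ hV0
    refine hns (Group.isSolvable_of_surjective (G := normalizer (V : Set G)) (f := (normalizer (V : Set G)).subtype)
      fun g => ⟨⟨g, by rw [hnorm]; exact mem_top g⟩, rfl⟩)
  by_cases hp2 : p = 2
  · subst hp2
    obtain ⟨t, htV, ht1⟩ := (Subgroup.bot_or_exists_ne_one V).resolve_left hV0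
    have hto : orderOf t = 2 := orderOf_eq_prime (hVp t htV) ht1
    obtain ⟨S, hS⟩ := hVpg.exists_le_sylow
    set C := centralizer (V : Set G) with hC
    have hSC : (S : Subgroup G) ≤ C := fun a ha =>
      Subgroup.mem_centralizer_iff.mpr fun v hv => h.sylow_comm S v (hS hv) a ha
    haveI := h.centralizer_two_solvable hto
    haveI : Group.IsSolvable C := Group.isSolvable_of_isSolvable_injective
      (f := Subgroup.inclusion (Subgroup.centralizer_le (Set.singleton_subset_iff.mpr htV) :
        C ≤ centralizer ({t} : Set G))) (Subgroup.inclusion_injective _)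
    have hodd : Odd (Nat.card (G ⧸ C)) := by
      rw [← Subgroup.index_eq_card, ← Nat.not_even_iff_odd, even_iff_two_dvd]
      exact fun h2 => S.not_dvd_index (h2.trans (Subgroup.index_dvd_of_le hSC))
    haveI : Group.IsSolvable (G ⧸ C) := Cfsg.Agent.S0205.result hodd
    exact hns ((Group.isSolvable_iff_subgroup_quotient C).mpr ⟨inferInstance, inferInstance⟩)
  · have h4 := four_le_of_nonsolvable h hns T
    obtain ⟨j, hj⟩ := IsPGroup.iff_card.mp hVpg
    obtain ⟨t, -, hto, x, hx, hx1, hc⟩ := exists_fixed_T h T h4 (hj ▸ (hp.odd_of_ne_two hp2).pow) hV0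
      (by rw [hnorm]; exact le_top)
    have hxo : orderOf x = p := orderOf_eq_prime (hVp x hx) hx1
    have h1 := orderOf_dvd_of_pow_eq_one (h.pow_r_of_commute_two hto hc (hxo ▸ hp.odd_of_ne_two hp2))
    rw [hxo] at h1
    exact hpr ((Nat.prime_dvd_prime_iff_eq hp h.prime).mp h1)

theorem two_dvd_of_not_solvable {X : Type u} [Group X] [Finite X] (hX : ¬ Group.IsSolvable X) : 2 ∣ Nat.card X := by
  by_contra h2
  exact hX (Cfsg.Agent.S0205.result (Nat.not_even_iff_odd.mp fun he => h2 he.two_dvd))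

/-- A simple normal subgroup with trivial centraliser. -/
theorem exists_socle (h : Hyp G r) (hns : ¬ Group.IsSolvable G) :
    ∃ N : Subgroup G, N.Normal ∧ IsSimpleGroup N ∧ (∃ a b : N, a * b ≠ b * a) ∧ centralizer (N : Set G) = ⊥ := by
  haveI : Fact (Nat.Prime 2) := ⟨Nat.prime_two⟩
  haveI : Nontrivial G := by
    rw [← not_subsingleton_iff_nontrivial]
    exact fun _ => hns inferInstance
  obtain ⟨M, hMn, -, hM0, hmin⟩ := CfsgLib.exists_minimal_normal (N := (⊤ : Subgroup G)) top_ne_bot
  haveI := hMn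
  have hrad : ∀ (N : Subgroup G) [N.Normal], Group.IsSolvable N → N = ⊥ := fun N _ => solvable_normal_eq_bot h hns N
  have hMs : ¬ Group.IsSolvable M := fun hs => hM0 (hrad M hs)
  have pair : ∀ A B : Subgroup G, ¬ Group.IsSolvable A → (∀ a ∈ A, ∀ b ∈ B, Commute a b) → Group.IsSolvable B := by
    intro A B hA hc
    obtain ⟨a, ha⟩ := exists_prime_orderOf_dvd_card' (G := A) 2 (two_dvd_of_not_solvable hA)
    haveI := h.centralizer_two_solvable (t := (a : G)) (by rw [Subgroup.orderOf_coe, ha])
    exact Group.isSolvable_of_isSolvable_injective (f := Subgroup.inclusion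
      (fun b hb => mem_centralizer_singleton_iff.mpr (hc a a.2 b hb).eq.symm :
        B ≤ centralizer ({(a : G)} : Set G))) (Subgroup.inclusion_injective _)
  haveI : Nontrivial M := (Subgroup.nontrivial_iff_ne_bot M).mpr hM0
  refine ⟨M, hMn, ⟨fun S₀ hS₀ => ?_⟩, ?_, ?_⟩
  · by_contra hcon
    push Not at hcon
    obtain ⟨S, hSn, hST, hS0, hSmin⟩ := CfsgLib.exists_minimal_normal (hn := hS₀) hcon.1
    set S' := S.map M.subtype with hS'
    have hS'M : S' ≤ M := Subgroup.map_subtype_le S
    by_cases hnor : S'.Normal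
    · rcases hmin S' hnor hS'M with e | e
      · exact hS0 ((Subgroup.map_eq_bot_iff_of_injective S M.subtype_injective).mp e)
      · refine hcon.2 (top_le_iff.mp ((le_of_eq ?_).trans hST))
        refine Subgroup.map_injective M.subtype_injective ?_
        rw [← hS', e, ← MonoidHom.range_eq_map, Subgroup.range_subtype]
    · obtain ⟨g, hg⟩ : ∃ g : G, S'.map (MulAut.conj g).toMonoidHom ≠ S' := by
        by_contra hh
        push Not at hh
        exact hnor ⟨fun x hx g => (hh g).le ⟨x, hx, rfl⟩⟩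
      set T' := S'.map (MulAut.conj g).toMonoidHom with hT'
      have hT'M : T' ≤ M := by
        rintro _ ⟨x, hx, rfl⟩
        exact hMn.conj_mem x (hS'M hx) g
      have hSnM : ∀ s ∈ S', ∀ m ∈ M, m * s * m⁻¹ ∈ S' := by
        rintro _ ⟨s, hs, rfl⟩ m hm
        exact ⟨⟨m, hm⟩ * s * ⟨m, hm⟩⁻¹, hSn.conj_mem s hs _, by simp⟩
      have hTnM : ∀ t ∈ T', ∀ m ∈ M, m * t * m⁻¹ ∈ T' := by
        rintro _ ⟨s, hs, rfl⟩ m hm
        refine ⟨g⁻¹ * m * g * s * (g⁻¹ * m * g)⁻¹, hSnM s hs _ (by simpa using hMn.conj_mem m hm g⁻¹), ?_⟩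
        simp [mul_assoc]
      have hbot : ∀ x ∈ S', x ∈ T' → x = 1 := by
        intro x hx hx'
        rcases hSmin ((S' ⊓ T').subgroupOf M) ⟨fun y hy m => by
            rw [mem_subgroupOf] at hy ⊢
            push_cast
            exact ⟨hSnM _ hy.1 m m.2, hTnM _ hy.2 m m.2⟩⟩
          (fun y hy => by
            obtain ⟨s, hs, e⟩ := (mem_subgroupOf.mp hy).1
            exact (Subtype.ext e : s = y) ▸ hs) with e | e
        · have : (⟨x, hS'M hx⟩ : M) ∈ (S' ⊓ T').subgroupOf M := ⟨hx, hx'⟩
          rw [e, mem_bot] at this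
          exact congrArg Subtype.val this
        · exfalso
          have hle : S' ≤ T' := by
            rintro _ ⟨s, hs, rfl⟩
            exact (mem_subgroupOf.mp (e.ge hs)).2
          exact hg (eq_of_le_of_card_ge hle (Subgroup.card_map_of_injective (MulAut.conj g).injective).le).symm
      have hcomm : ∀ a ∈ T', ∀ b ∈ S', Commute a b := by
        intro b hb a ha
        refine (?_ : a * b = b * a).symm
        rw [← commutatorElement_eq_one_iff_mul_comm]
        refine hbot _ ?_ ?_
        · rw [commutatorElement_def, show a * b * a⁻¹ * b⁻¹ = a * (b * a⁻¹ * b⁻¹) by group]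
          exact mul_mem ha (hSnM _ (inv_mem ha) b (hT'M hb))
        · rw [commutatorElement_def]
          exact mul_mem (hTnM b hb a (hS'M ha)) (inv_mem hb)
      -- so a conjugate of the minimal normal subgroup of `M` is solvable
      have hSs : ¬ Group.IsSolvable S' := by
        intro hs
        obtain ⟨-, s, hs', hSexp⟩ := CfsgLib.minimal_normal_elementary hS0 (by
          haveI := hs
          exact Group.isSolvable_of_surjective (f := (Subgroup.equivMapOfInjective S M.subtype M.subtype_injective).symm.toMonoidHom)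
            (MulEquiv.surjective _)) hSmin
        haveI := Fact.mk hs'
        have hSp : IsPGroup s S := fun x => ⟨1, Subtype.ext (by simpa using hSexp _ x.2)⟩
        have hle : S ≤ Cfsg.pCore s M := le_sSup ⟨hSn, hSp⟩
        haveI : (Cfsg.pCore s M).Characteristic := CfsgLib.pCore_characteristic s
        have h0 := hrad ((Cfsg.pCore s M).map M.subtype)
          (by haveI := ((CfsgLib.isPGroup_pCore (G := M) s).map M.subtype).isNilpotent; infer_instance)
        rw [Subgroup.map_eq_bot_iff_of_injective _ M.subtype_injective] at h0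
        exact hS0 (eq_bot_iff.mpr (hle.trans h0.le))
      have hT's : ¬ Group.IsSolvable T' := by
        intro hs
        haveI := hs
        exact hSs (Group.isSolvable_of_surjective
          (f := (Subgroup.equivMapOfInjective S' (MulAut.conj g).toMonoidHom (MulAut.conj g).injective).symm.toMonoidHom)
          (MulEquiv.surjective _))
      exact hSs (pair T' S' hT's hcomm)
  · by_contra hab
    push Not at hab
    exact hMs (Group.isSolvable_of_comm hab)
  · exact hrad _ (pair M _ hMs fun a ha b hb => Subgroup.mem_centralizer_iff.mp hb a ha)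

section PSL

variable {F : Type} [Field F] [Fintype F] (N : Subgroup G) [N.Normal]
  (e : N ≃* Matrix.ProjectiveSpecialLinearGroup (Fin 2) F)

/-- The action on the simple normal subgroup. -/
noncomputable def act : G →* MulAut (Matrix.ProjectiveSpecialLinearGroup (Fin 2) F) :=
  (MulAut.congr e).toMonoidHom.comp MulAut.conjNormal

theorem act_apply (g : G) (x : Matrix.ProjectiveSpecialLinearGroup (Fin 2) F) :
    act N e g x = e (MulAut.conjNormal g (e.symm x)) := rfl

theorem act_coe (m : N) : act N e (m : G) = MulAut.conj (e m) := by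
  refine MulEquiv.ext fun x => ?_
  rw [act_apply, MulAut.conj_apply]
  have : MulAut.conjNormal (m : G) (e.symm x) = m * e.symm x * m⁻¹ := Subtype.ext (by
    rw [MulAut.conjNormal_apply, Subgroup.coe_mul, Subgroup.coe_mul, Subgroup.coe_inv])
  rw [this, map_mul, map_mul, map_inv, MulEquiv.apply_symm_apply]

theorem act_injective (hC : centralizer (N : Set G) = ⊥) : Function.Injective (act N e) := by
  rw [injective_iff_map_eq_one]
  intro g hg
  have : g ∈ centralizer (N : Set G) := Subgroup.mem_centralizer_iff.mpr fun m hm => by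
    have h1 := MulEquiv.congr_fun hg (e ⟨m, hm⟩)
    rw [act_apply, MulEquiv.symm_apply_apply, MulAut.one_apply] at h1
    have h2 := congrArg Subtype.val (e.injective h1)
    rw [MulAut.conjNormal_apply] at h2
    exact (mul_inv_eq_iff_eq_mul.mp h2).symm
  rwa [hC, Subgroup.mem_bot] at this

/-- The lift of an element of the simple normal subgroup commutes with elements acting trivially on it. -/
theorem commute_of_fixed (hC : centralizer (N : Set G) = ⊥) {y : G} {x : Matrix.ProjectiveSpecialLinearGroup (Fin 2) F}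
    (hy : act N e y x = x) : Commute y ((e.symm x : N) : G) := by
  have h1 := congrArg e.symm hy
  rw [act_apply, MulEquiv.symm_apply_apply] at h1
  have h2 := congrArg Subtype.val h1
  rw [MulAut.conjNormal_apply] at h2
  exact mul_inv_eq_iff_eq_mul.mp h2

theorem order_lift (x : Matrix.ProjectiveSpecialLinearGroup (Fin 2) F) :
    orderOf ((e.symm x : N) : G) = orderOf x := by
  rw [Subgroup.orderOf_coe, MulEquiv.orderOf_eq]

end PSL

section Field

variable {F : Type} [Field F] [Fintype F]

theorem fieldAut_pow (σ : RingAut F) (m : ℕ) :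
    PSL2.fieldAut (σ ^ m) = (PSL2.fieldAut σ : MulAut (Matrix.ProjectiveSpecialLinearGroup (Fin 2) F)) ^ m := by
  induction m with
  | zero => rw [pow_zero, pow_zero]; exact PSL2.fieldAut_refl
  | succ m ih =>
    rw [pow_succ, pow_succ, ← ih]
    exact PSL2.fieldAut_trans (σ ^ m) σ

/-- A fixed element of order two. -/
def wTwo (F : Type) [Field F] : Matrix.SpecialLinearGroup (Fin 2) F :=
  ⟨!![0, 1; -1, 0], by simp [Matrix.det_fin_two_of]⟩

/-- A fixed element of order three. -/
def wThree (F : Type) [Field F] : Matrix.SpecialLinearGroup (Fin 2) F :=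
  ⟨!![0, 1; -1, -1], by simp [Matrix.det_fin_two_of]⟩

theorem fieldAut_wTwo (σ : RingAut F) : PSL2.fieldAut σ (PSL2.mk (wTwo F)) = PSL2.mk (wTwo F) := by
  rw [PSL2.fieldAut_apply]
  congr 1
  refine Subtype.ext ?_
  show (!![0, 1; -1, 0] : Matrix (Fin 2) (Fin 2) F).map (σ : F ≃+* F).toRingHom = !![0, 1; -1, 0]
  ext i j
  fin_cases i <;> fin_cases j <;> simp

theorem fieldAut_wThree (σ : RingAut F) : PSL2.fieldAut σ (PSL2.mk (wThree F)) = PSL2.mk (wThree F) := by
  rw [PSL2.fieldAut_apply]
  congr 1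
  refine Subtype.ext ?_
  show (!![0, 1; -1, -1] : Matrix (Fin 2) (Fin 2) F).map (σ : F ≃+* F).toRingHom = !![0, 1; -1, -1]
  ext i j
  fin_cases i <;> fin_cases j <;> simp

theorem orderOf_wTwo : orderOf (PSL2.mk (wTwo F)) = 2 := by
  refine orderOf_eq_prime ?_ ?_
  · rw [← map_pow, ← map_one (PSL2.mk (F := F))]
    refine PSL2.mk_eq_mk.mpr (Or.inr ?_)
    show (1 : Matrix (Fin 2) (Fin 2) F) = -((wTwo F ^ 2).1)
    rw [pow_two, Matrix.SpecialLinearGroup.coe_mul]
    ext i j
    fin_cases i <;> fin_cases j <;> simp [wTwo, Matrix.mul_apply, Fin.sum_univ_two]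
  · intro e1
    rw [← map_one (PSL2.mk (F := F))] at e1
    rcases PSL2.mk_eq_mk.mp e1 with e2 | e2 <;>
    · have := congrFun (congrFun e2 0) 1
      simp [wTwo] at this

theorem orderOf_wThree : orderOf (PSL2.mk (wThree F)) = 3 := by
  haveI : Fact (Nat.Prime 3) := ⟨Nat.prime_three⟩
  refine orderOf_eq_prime ?_ ?_
  · rw [← map_pow, ← map_one (PSL2.mk (F := F))]
    refine PSL2.mk_eq_mk.mpr (Or.inl ?_)
    show (1 : Matrix (Fin 2) (Fin 2) F) = (wThree F ^ 3).1
    rw [pow_succ, pow_two, Matrix.SpecialLinearGroup.coe_mul, Matrix.SpecialLinearGroup.coe_mul]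
    ext i j
    fin_cases i <;> fin_cases j <;> simp [wThree, Matrix.mul_apply, Fin.sum_univ_two]
  · intro e1
    rw [← map_one (PSL2.mk (F := F))] at e1
    rcases PSL2.mk_eq_mk.mp e1 with e2 | e2 <;>
    · have := congrFun (congrFun e2 0) 1
      simp [wThree] at this

theorem orderOf_uu (p : ℕ) [Fact p.Prime] [CharP F p] : orderOf (PSL2.uu (1 : F)) = p := by
  refine orderOf_eq_prime ?_ fun e1 => ?_
  · show PSL2.uHom (Multiplicative.ofAdd (1 : F)) ^ p = 1
    rw [← map_pow, ← ofAdd_nsmul, nsmul_one, CharP.cast_eq_zero, ofAdd_zero, map_one]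
  · have h0 : PSL2.uu (1 : F) = PSL2.uu (0 : F) := by
      rw [e1]; exact (map_one (PSL2.uHom (F := F))).symm
    exact one_ne_zero (PSL2.uu_injective h0)

theorem isSquare_mul_iff_of_ne_zero {a b : F} (hF : ringChar F ≠ 2) (ha : a ≠ 0) (hb : b ≠ 0) :
    IsSquare (a * b) ↔ (IsSquare a ↔ IsSquare b) := by
  classical
  rw [← quadraticChar_one_iff_isSquare (mul_ne_zero ha hb), ← quadraticChar_one_iff_isSquare ha,
    ← quadraticChar_one_iff_isSquare hb, map_mul]
  rcases quadraticChar_dichotomy ha with h1 | h1 <;> rcases quadraticChar_dichotomy hb with h2 | h2 <;>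
    simp [h1, h2]

theorem det_map (σ : RingAut F) (g : GL (Fin 2) F) :
    ((GeneralLinearGroup.map (σ : F ≃+* F).toRingHom g : GL (Fin 2) F) : Matrix (Fin 2) (Fin 2) F).det =
      σ (g : Matrix (Fin 2) (Fin 2) F).det := by
  show ((g : Matrix (Fin 2) (Fin 2) F).map (σ : F ≃+* F).toRingHom).det = _
  exact (RingHom.map_det _ _).symm

theorem det_ne_zero (g : GL (Fin 2) F) : (g : Matrix (Fin 2) (Fin 2) F).det ≠ 0 :=
  ((Matrix.isUnit_iff_isUnit_det _).mp g.isUnit).ne_zero

/-- Powers of a product of a diagonal and a field automorphism. -/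
theorem diag_field_pow (hF : ringChar F ≠ 2) (g : GL (Fin 2) F) (σ : RingAut F) (m : ℕ) :
    ∃ g' : GL (Fin 2) F, (PSL2.diagAut g * PSL2.fieldAut σ) ^ m = PSL2.diagAut g' * PSL2.fieldAut (σ ^ m) ∧
      (IsSquare (g' : Matrix (Fin 2) (Fin 2) F).det ↔ (IsSquare (g : Matrix (Fin 2) (Fin 2) F).det ∨ Even m)) := by
  induction m with
  | zero => exact ⟨1, by rw [pow_zero, pow_zero, map_one, one_mul]; exact PSL2.fieldAut_refl.symm, by simp⟩
  | succ m ih =>
    obtain ⟨g', e1, e2⟩ := ih
    refine ⟨g' * GeneralLinearGroup.map (σ ^ m : RingAut F).toRingHom g, ?_, ?_⟩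
    · rw [pow_succ, e1, map_mul, mul_assoc, ← mul_assoc (PSL2.fieldAut (σ ^ m)), PSL2.fieldAut_mul_diagAut,
        mul_assoc, ← mul_assoc (PSL2.diagAut g'), pow_succ]
      congr 1
      exact (PSL2.fieldAut_trans (σ ^ m) σ).symm
    · rw [Units.val_mul, Matrix.det_mul, det_map,
        isSquare_mul_iff_of_ne_zero hF (det_ne_zero _) ((map_ne_zero _).mpr (det_ne_zero _)),
        e2, Nat.even_add_one]
      have : IsSquare ((σ ^ m) (g : Matrix (Fin 2) (Fin 2) F).det) ↔ IsSquare (g : Matrix (Fin 2) (Fin 2) F).det :=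
        ⟨fun ⟨c, hc⟩ => ⟨(σ ^ m).symm c, by
          rw [← map_mul, ← hc, RingEquiv.symm_apply_apply]⟩, fun hs => hs.map (σ ^ m)⟩
      rw [this]
      tauto

/-- A matrix with square determinant induces an inner automorphism. -/
theorem exists_inner {p : ℕ} [Fact p.Prime] [CharP F p] (g : GL (Fin 2) F)
    (hg : IsSquare (g : Matrix (Fin 2) (Fin 2) F).det) :
    ∃ x : Matrix.ProjectiveSpecialLinearGroup (Fin 2) F, PSL2.diagAut g = MulAut.conj x := by
  obtain ⟨c, A, hgA⟩ := PSL2.exists_dil_mul g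
  have hdet : (c : F) = (g : Matrix (Fin 2) (Fin 2) F).det := by
    rw [hgA, Units.val_mul, Matrix.det_mul]
    have hA : ((SpecialLinearGroup.toGL A : GL (Fin 2) F) : Matrix (Fin 2) (Fin 2) F).det = 1 := A.2
    rw [hA, mul_one]
    simp [PSL2.dil, Matrix.det_fin_two_of]
  obtain ⟨s, hs⟩ := hg
  have hs0 : s ≠ 0 := fun e0 => c.ne_zero (by rw [hdet, hs, e0, mul_zero])
  obtain ⟨x, hx⟩ := (PSL2.dil_inner_iff c).mpr ⟨Units.mk0 s hs0, Units.ext (by simp [hdet, hs, pow_two])⟩
  exact ⟨x * PSL2.mk A, by rw [hgA, map_mul, hx, PSL2.diagAut_toGL, map_mul]⟩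

end Field

section Index

variable {F : Type} [Field F] [Fintype F] {N : Subgroup G} [N.Normal]
  (e : N ≃* Matrix.ProjectiveSpecialLinearGroup (Fin 2) F) (hC : centralizer (N : Set G) = ⊥)

include hC

/-- An element outside acts as a product of a square diagonal and a field automorphism of prime order: some element
acts as that field automorphism. -/
theorem exists_field_element (p : ℕ) [Fact p.Prime] [CharP F p] {g : GL (Fin 2) F} {σ : RingAut F} {y : G}
    (hy : act N e y = PSL2.diagAut g * PSL2.fieldAut σ) (hg : IsSquare (g : Matrix (Fin 2) (Fin 2) F).det)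
    (hσ : (orderOf σ).Prime) :
    ∃ z : G, act N e z = PSL2.fieldAut σ ∧ orderOf z = orderOf σ := by
  obtain ⟨x, hx⟩ := exists_inner (p := p) g hg
  set z := ((e.symm x : N) : G)⁻¹ * y with hz
  have hzact : act N e z = PSL2.fieldAut σ := by
    rw [hz, map_mul, map_inv, act_coe, MulEquiv.apply_symm_apply, hy, hx, inv_mul_cancel_left]
  refine ⟨z, hzact, ?_⟩
  haveI := Fact.mk hσ
  refine orderOf_eq_prime (act_injective N e hC ?_) fun e1 => ?_
  · rw [map_pow, hzact, ← fieldAut_pow, pow_orderOf_eq_one, map_one]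
    exact PSL2.fieldAut_refl
  · rw [e1, map_one] at hzact
    have : σ = (RingEquiv.refl F : RingAut F) := PSL2.field_unique (g := 1) (g' := 1)
      (by rw [map_one, one_mul, one_mul, ← hzact]; exact PSL2.fieldAut_refl.symm)
    rw [show σ = 1 from this, orderOf_one] at hσ
    exact Nat.not_prime_one hσ

variable (h : Hyp G r)

include h

/-- A field automorphism of prime order in the group: the consequences for its order and the characteristic. -/
theorem field_element_orders (p : ℕ) [Fact p.Prime] [CharP F p] {σ : RingAut F} {z : G}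
    (hz : act N e z = PSL2.fieldAut σ) (hzo : orderOf z = orderOf σ) :
    orderOf σ ∣ 2 * r ∧ (orderOf σ = r → 3 ∣ 2 * r ∧ p ∣ 2 * r) := by
  have h2 : Commute z ((e.symm (PSL2.mk (wTwo F)) : N) : G) :=
    commute_of_fixed N e hC (by rw [hz]; exact fieldAut_wTwo σ)
  have h3 : Commute z ((e.symm (PSL2.mk (wThree F)) : N) : G) :=
    commute_of_fixed N e hC (by rw [hz]; exact fieldAut_wThree σ)
  have hp : Commute z ((e.symm (PSL2.uu (1 : F)) : N) : G) :=
    commute_of_fixed N e hC (by rw [hz, PSL2.fieldAut_uu, map_one])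
  refine ⟨hzo ▸ orderOf_dvd_of_pow_eq_one (h.pow_of_commute_two (by rw [order_lift, orderOf_wTwo]) h2.symm),
    fun hσr => ⟨?_, ?_⟩⟩
  · have := orderOf_dvd_of_pow_eq_one (h.pow_of_commute_r (hzo.trans hσr) h3)
    rwa [order_lift, orderOf_wThree] at this
  · have := orderOf_dvd_of_pow_eq_one (h.pow_of_commute_r (hzo.trans hσr) hp)
    rwa [order_lift, orderOf_uu p] at this

omit hC h in
/-- The field part of an element of prime order outside the kernel. -/
theorem exists_prime_field_part (p : ℕ) [Fact p.Prime] [CharP F p] {x : G}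
    (hx : PSL2.fieldPart p (act N e x) ≠ 1) :
    ∃ (y : G) (g : GL (Fin 2) F) (σ : RingAut F), act N e y = PSL2.diagAut g * PSL2.fieldAut σ ∧ (orderOf σ).Prime := by
  obtain ⟨q, hq, hqd⟩ := Nat.exists_prime_and_dvd (mt orderOf_eq_one_iff.mp hx)
  set y := x ^ (orderOf (PSL2.fieldPart p (act N e x)) / q) with hy
  obtain ⟨g, σ, hgσ⟩ := PSL2.exists_diag_field p (act N e y)
  refine ⟨y, g, σ, hgσ, ?_⟩
  have h1 := PSL2.fieldPart_eq p hgσ
  haveI : Finite (RingAut F) := Finite.of_injective (fun σ : RingAut F => (σ : F → F)) fun a b e' => RingEquiv.ext (congrFun e')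
  rw [← show PSL2.fieldPart p (act N e y) = σ from h1, hy, map_pow, map_pow,
    orderOf_pow_orderOf_div (orderOf_pos _).ne' hqd]
  exact hq

end Index

/-- A simple normal subgroup with an element of order `2 r` is everything. -/
theorem eq_top_of_psl (h : Hyp G r) (N : Subgroup G) [N.Normal] {F : Type} [Field F] [Fintype F]
    (e : N ≃* Matrix.ProjectiveSpecialLinearGroup (Fin 2) F) (hC : centralizer (N : Set G) = ⊥)
    (h8 : Fintype.card F % 8 = 3 ∨ Fintype.card F % 8 = 5) (h2r : ∃ g : N, orderOf g = 2 * r) : N = ⊤ := by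
  classical
  set p := ringChar F
  haveI : CharP F p := ringChar.charP F
  haveI := Fact.mk (CharP.char_is_prime F p)
  obtain ⟨f, hp, hq⟩ := FiniteField.card F p
  have hp2 : p ≠ 2 := fun e2 => by
    rw [hq, e2] at h8
    have : 2 ∣ 2 ^ (f : ℕ) := dvd_pow_self 2 f.2.ne'
    omega
  have hchar : ringChar F ≠ 2 := hp2
  have hf : Odd (f : ℕ) := by
    rw [← Nat.not_even_iff_odd]
    rintro ⟨k, hk⟩
    rw [hq, hk, ← two_mul, pow_mul] at h8
    obtain ⟨i, hi⟩ : Odd (p ^ 2) := ((CharP.char_is_prime F p).odd_of_ne_two hp2).pow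
    obtain ⟨m, hm⟩ : Odd p := (CharP.char_is_prime F p).odd_of_ne_two hp2
    have h1 : p ^ 2 % 8 = 1 := by
      rw [hm, show (2 * m + 1) ^ 2 = 4 * (m * (m + 1)) + 1 by ring]
      obtain ⟨l, hl⟩ := Nat.even_mul_succ_self m
      omega
    rw [Nat.pow_mod, h1, one_pow] at h8
    omega
  have htwo : ¬ IsSquare (2 : F) := by
    rw [FiniteField.isSquare_two_iff]
    omega
  have h20 : (2 : F) ≠ 0 := Ring.two_ne_zero hchar
  -- diagonal automorphisms in the group are inner
  have hdiag : ∀ (x : G) (g : GL (Fin 2) F), act N e x = PSL2.diagAut g →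
      IsSquare (g : Matrix (Fin 2) (Fin 2) F).det := by
    intro x g hx
    by_contra hns
    set g4 : GL (Fin 2) F := GeneralLinearGroup.mkOfDetNeZero !![1, 1; -1, 1]
      (by simp [Matrix.det_fin_two_of, one_add_one_eq_two, h20]) with hg4
    have hg4d : (g4 : Matrix (Fin 2) (Fin 2) F).det = 2 := by
      show (!![1, 1; -1, 1] : Matrix (Fin 2) (Fin 2) F).det = 2
      simp [Matrix.det_fin_two_of, one_add_one_eq_two]
    have hsq : IsSquare ((g⁻¹ * g4 : GL (Fin 2) F) : Matrix (Fin 2) (Fin 2) F).det := by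
      rw [Units.val_mul, Matrix.det_mul, hg4d,
        isSquare_mul_iff_of_ne_zero hchar (det_ne_zero _) h20]
      refine iff_of_false (fun hs => hns ?_) htwo
      rw [Matrix.coe_units_inv, Matrix.det_nonsing_inv, Ring.inverse_eq_inv', isSquare_inv] at hs
      exact hs
    obtain ⟨w, hw⟩ := exists_inner (p := p) _ hsq
    set y := x * ((e.symm w : N) : G) with hy
    have hyact : act N e y = PSL2.diagAut g4 := by
      rw [hy, map_mul, act_coe, MulEquiv.apply_symm_apply, hx, ← hw, ← map_mul, mul_inv_cancel_left]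
    have hsq4 : ((g4 ^ 2 : GL (Fin 2) F) : Matrix (Fin 2) (Fin 2) F) = !![0, 2; -2, 0] := by
      rw [Units.val_pow_eq_pow_val, pow_two]
      show (!![1, 1; -1, 1] : Matrix (Fin 2) (Fin 2) F) * !![1, 1; -1, 1] = _
      ext i j
      fin_cases i <;> fin_cases j <;> simp [Matrix.mul_apply, Fin.sum_univ_two, one_add_one_eq_two] <;> norm_num
    have h4 : act N e (y ^ 4) = 1 := by
      rw [map_pow, hyact, ← map_pow, show (g4 ^ 4 : GL (Fin 2) F) = g4 ^ 2 * g4 ^ 2 by rw [← pow_add]]
      refine PSL2.diagAut_scalar _ (-4) ?_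
      rw [Units.val_mul, hsq4]
      ext i j
      fin_cases i <;> fin_cases j <;> simp [Matrix.mul_apply, Fin.sum_univ_two] <;> norm_num
    have hy4 : y ^ 4 = 1 := act_injective N e hC (by rw [h4, map_one])
    have hy2 : y ^ 2 ≠ 1 := by
      intro e2
      have h1 := congrArg (act N e) e2
      rw [map_pow, hyact, ← map_pow, map_one] at h1
      obtain ⟨-, c, hc⟩ := PSL2.scalar_of_fix (g4 ^ 2) (RingEquiv.refl F) (h1.trans PSL2.fieldAut_refl.symm)
      rw [hsq4] at hc
      have := congrFun (congrFun hc 0) 1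
      simp at this
      exact h20 this
    have hyo : orderOf y = 4 := by
      obtain ⟨i, hi, hi'⟩ := (Nat.dvd_prime_pow Nat.prime_two).mp
        (show orderOf y ∣ 2 ^ 2 from orderOf_dvd_of_pow_eq_one hy4)
      interval_cases i
      · exact absurd (by rw [orderOf_eq_one_iff.mp hi', one_pow]) hy2
      · exact absurd (by rw [show (2 : ℕ) = orderOf y by rw [hi']; rfl, pow_orderOf_eq_one]) hy2
      · exact hi'
    rcases h.two y (hyo ▸ by norm_num) with e' | e'
    · omega
    · obtain ⟨j, hj⟩ := h.odd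
      omega
  by_contra hN
  obtain ⟨x, hxN⟩ : ∃ x : G, x ∉ N := by
    by_contra hh
    push Not at hh
    exact hN ((Subgroup.eq_top_iff' N).mpr hh)
  by_cases hfp : PSL2.fieldPart p (act N e x) = 1
  · obtain ⟨g, hg⟩ := PSL2.exists_of_fieldPart_eq_one p hfp
    obtain ⟨w, hw⟩ := exists_inner (p := p) g (hdiag x g hg)
    refine hxN ?_
    rw [show x = ((e.symm w : N) : G) from act_injective N e hC (by
      rw [hg, hw, act_coe, MulEquiv.apply_symm_apply])]
    exact (e.symm w).2
  obtain ⟨y, g, σ, hy, hσ⟩ := exists_prime_field_part e p hfp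
  haveI : Finite (RingAut F) := Finite.of_injective (fun σ : RingAut F => (σ : F → F)) fun a b e' => RingEquiv.ext (congrFun e')
  have hσodd : Odd (orderOf σ) := by
    refine Odd.of_dvd_nat ?_ (orderOf_dvd_natCard σ)
    rw [(CfsgLib.Chev.ringAut_cyclic_card p (by rw [Nat.card_eq_fintype_card, hq])).2]
    exact hf
  have hgsq : IsSquare (g : Matrix (Fin 2) (Fin 2) F).det := by
    obtain ⟨g', e1, e2⟩ := diag_field_pow hchar g σ (orderOf σ)
    have h1 : act N e (y ^ orderOf σ) = PSL2.diagAut g' := by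
      rw [map_pow, hy, e1, pow_orderOf_eq_one]
      refine (congrArg (PSL2.diagAut g' * ·) PSL2.fieldAut_refl).trans (mul_one _)
    rcases e2.mp (hdiag _ _ h1) with hs | hs
    · exact hs
    · exact absurd hσodd (Nat.not_odd_iff_even.mpr hs)
  obtain ⟨z, hz, hzo⟩ := exists_field_element e hC p hy hgsq hσ
  obtain ⟨hd, hr3⟩ := field_element_orders e hC h p hz hzo
  have hσr : orderOf σ = r := by
    rcases hσ.dvd_mul.mp hd with h' | h'
    · rw [(Nat.prime_dvd_prime_iff_eq hσ Nat.prime_two).mp h'] at hσodd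
      exact absurd hσodd (by decide)
    · exact (Nat.prime_dvd_prime_iff_eq hσ h.prime).mp h'
  obtain ⟨h3, hpr⟩ := hr3 hσr
  have hr : r = 3 := by
    rcases Nat.prime_three.dvd_mul.mp h3 with h' | h'
    · norm_num at h'
    · exact ((Nat.prime_dvd_prime_iff_eq Nat.prime_three h.prime).mp h').symm
  have hp3 : p = 3 := by
    rcases (CharP.char_is_prime F p).dvd_mul.mp hpr with h' | h'
    · exact absurd ((Nat.prime_dvd_prime_iff_eq (CharP.char_is_prime F p) Nat.prime_two).mp h') hp2
    · exact hr ▸ (Nat.prime_dvd_prime_iff_eq (CharP.char_is_prime F p) h.prime).mp h'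
  obtain ⟨v, hv⟩ := h2r
  have hspec := (PSL2Spectrum.psl_orders (F := F) p (2 * r)).mp ⟨e v, by rw [e.orderOf_eq, hv]⟩
  have h3q : 3 ∣ Fintype.card F := hq ▸ hp3 ▸ dvd_pow_self _ f.2.ne'
  have hg2 : Nat.gcd 2 (Fintype.card F - 1) = 2 := Nat.gcd_eq_left (by omega)
  rw [hg2, hr] at hspec
  rcases hspec with h' | h' | h'
  · have : 3 ∣ (Fintype.card F - 1) / 2 := (by norm_num : 3 ∣ 2 * 3).trans h'
    omega
  · have : 3 ∣ (Fintype.card F + 1) / 2 := (by norm_num : 3 ∣ 2 * 3).trans h'
    omega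
  · omega

/-- A simple normal subgroup without an element of order `2 r` is everything. -/
theorem eq_top_of_cit (h : Hyp G r) (N : Subgroup G) [N.Normal] [IsSimpleGroup N] (hna : ∃ a b : N, a * b ≠ b * a)
    (hC : centralizer (N : Set G) = ⊥) (h2r : ∀ g : N, orderOf g ≠ 2 * r) : N = ⊤ := by
  classical
  haveI : Fact (Nat.Prime 2) := ⟨Nat.prime_two⟩
  have hN := h.subgroup N
  obtain ⟨T⟩ : Nonempty (Sylow 2 N) := inferInstance
  have hNs : ¬ Group.IsSolvable N := fun hs => by
    obtain ⟨a, b, hab⟩ := hna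
    exact hab (IsSimpleGroup.comm_iff_isSolvable.mpr hs a b)
  have h4 := four_le_of_nonsolvable hN hNs T
  have hcent : ∀ t : N, orderOf t = 2 → ∀ c ∈ centralizer ({t} : Set N), c ^ 2 = 1 := by
    intro t ht c hc
    have hcom : Commute t c := (mem_centralizer_singleton_iff.mp hc).symm
    by_contra hc2
    haveI := Fact.mk h.prime
    have ho : orderOf (c ^ 2) = r := orderOf_eq_prime (by rw [← pow_mul]; exact hN.pow_of_commute_two ht hcom) hc2
    exact h2r (t * c ^ 2) (by
      rw [(hcom.pow_right 2).orderOf_mul_eq_mul_orderOf_of_coprime (by rw [ht, ho]; exact h.coprime_two), ht, ho])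
  obtain ⟨F, _, _, hFc, ⟨e⟩⟩ := Cfsg.Agent.S1230.result T (fun hcyc => by
      haveI := hcyc
      obtain ⟨g, hg⟩ := IsCyclic.exists_generator (α := (T : Subgroup N))
      have h1 := orderOf_eq_card_of_forall_mem_zpowers hg
      have h2 : orderOf g ∣ 2 := orderOf_dvd_of_pow_eq_one (Subtype.ext (by
        rw [Subgroup.coe_pow, pow_two]; exact hN.sq_eq_one T.2 g.2))
      have := Nat.le_of_dvd two_pos h2
      omega)
    (fun hn => by
      rcases hn.eq_bot_or_eq_top with h1 | h1
      · rw [h1, Subgroup.card_bot] at h4; omega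
      · obtain ⟨a, b, hab⟩ := hna
        exact hab (hN.sylow_comm T a (h1 ▸ mem_top a) b (h1 ▸ mem_top b)))
    (fun t ht => ⟨⟨⟨fun a b => Subtype.ext (by
      have ha := hcent t ht a a.2
      have hb := hcent t ht b b.2
      have hab := hcent t ht _ (mul_mem a.2 b.2)
      rw [pow_two] at ha hb hab
      calc (a : N) * b = ((a : N) * b)⁻¹ := (inv_eq_of_mul_eq_one_right hab).symm
        _ = b * a := by
          rw [_root_.mul_inv_rev, inv_eq_of_mul_eq_one_right ha, inv_eq_of_mul_eq_one_right hb])⟩⟩, hcent t ht⟩)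
  obtain ⟨n, hn⟩ := IsPGroup.iff_card.mp T.2
  rw [hn] at hFc h4
  have hn2 : 2 ≤ n := by
    by_contra hlt
    interval_cases n <;> simp at h4
  haveI : CharP F 2 := charP_of_card_eq_prime_pow (f := n) hFc
  by_contra hNt
  obtain ⟨x, hxN⟩ : ∃ x : G, x ∉ N := by
    by_contra hh
    push Not at hh
    exact hNt ((Subgroup.eq_top_iff' N).mpr hh)
  have hsq : ∀ a : F, IsSquare a := fun a => FiniteField.isSquare_of_char_two (ringChar.eq F 2) a
  by_cases hfp : PSL2.fieldPart 2 (act N e x) = 1
  · obtain ⟨g, hg⟩ := PSL2.exists_of_fieldPart_eq_one 2 hfp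
    obtain ⟨w, hw⟩ := exists_inner (p := 2) g (hsq _)
    refine hxN ?_
    rw [show x = ((e.symm w : N) : G) from act_injective N e hC (by
      rw [hg, hw, act_coe, MulEquiv.apply_symm_apply])]
    exact (e.symm w).2
  obtain ⟨y, g, σ, hy, hσ⟩ := exists_prime_field_part e 2 hfp
  obtain ⟨z, hz, hzo⟩ := exists_field_element e hC 2 hy (hsq _) hσ
  obtain ⟨hd, hr3⟩ := field_element_orders e hC h 2 hz hzo
  haveI : Finite (RingAut F) := Finite.of_injective (fun σ : RingAut F => (σ : F → F)) fun a b e' => RingEquiv.ext (congrFun e')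
  rcases hσ.dvd_mul.mp hd with h' | h'
  · -- an involution inducing a field automorphism
    have hσ2 := (Nat.prime_dvd_prime_iff_eq hσ Nat.prime_two).mp h'
    set U := ((PSL2.uHom (F := F)).range.map e.symm.toMonoidHom).map N.subtype with hU
    have hUmem : ∀ t : F, ((e.symm (PSL2.uu t) : N) : G) ∈ U := fun t => ⟨_, ⟨_, ⟨_, rfl⟩, rfl⟩, rfl⟩
    have hzU : z ∈ normalizer (U : Set G) := by
      refine Subgroup.mem_normalizer_fintype fun a ha => ?_
      obtain ⟨_, ⟨_, ⟨t, rfl⟩, rfl⟩, rfl⟩ := ha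
      have h1 : MulAut.conjNormal z (e.symm (PSL2.uu t.toAdd)) = e.symm (PSL2.uu (σ t.toAdd)) := by
        apply e.injective
        rw [← act_apply, hz, PSL2.fieldAut_uu, MulEquiv.apply_symm_apply]
      have h2 := congrArg Subtype.val h1
      rw [MulAut.conjNormal_apply] at h2
      exact h2 ▸ hUmem _
    have hU2 : IsPGroup 2 U := by
      refine ((IsPGroup.map ?_ _).map _)
      intro a
      obtain ⟨_, t, rfl⟩ := a
      refine ⟨1, Subtype.ext ?_⟩
      show (PSL2.uHom t) ^ 2 ^ 1 = 1
      rw [← map_pow, pow_one, pow_two, show t * t = 1 from Multiplicative.toAdd.injective (CharTwo.add_self_eq_zero t.toAdd),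
        map_one]
    have hz2 : IsPGroup 2 (zpowers z) := IsPGroup.of_card (n := 1) (by rw [Nat.card_zpowers, hzo, hσ2, pow_one])
    have hsup : IsPGroup 2 ↥(zpowers z ⊔ U) := hz2.to_sup_of_normal_right' hU2 (Subgroup.zpowers_le.mpr hzU)
    have hfix : σ = 1 := by
      refine RingEquiv.ext fun t => PSL2.uu_injective ?_
      show PSL2.uu (σ t) = PSL2.uu t
      have hc := h.comm_two hsup (Subgroup.mem_sup_left (mem_zpowers z)) (Subgroup.mem_sup_right (hUmem t))
      have h1 : MulAut.conjNormal z (e.symm (PSL2.uu t)) = e.symm (PSL2.uu t) := Subtype.ext (by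
        rw [MulAut.conjNormal_apply, hc, mul_inv_cancel_right])
      have h2 := congrArg e h1
      rw [← act_apply, hz, PSL2.fieldAut_uu, MulEquiv.apply_symm_apply] at h2
      exact h2
    rw [hfix, orderOf_one] at hσ
    exact Nat.not_prime_one hσ
  · have hσr := (Nat.prime_dvd_prime_iff_eq hσ h.prime).mp h'
    obtain ⟨h3, -⟩ := hr3 hσr
    have hr : r = 3 := by
      rcases Nat.prime_three.dvd_mul.mp h3 with h'' | h''
      · norm_num at h''
      · exact ((Nat.prime_dvd_prime_iff_eq Nat.prime_three h.prime).mp h'').symm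
    have hd3 : 3 ∣ n := by
      rw [← (CfsgLib.Chev.ringAut_cyclic_card (F := F) (f := n) 2 (by rw [Nat.card_eq_fintype_card, hFc])).2, ← hr,
        ← hσr]
      exact orderOf_dvd_natCard σ
    obtain ⟨k, hk⟩ := hd3
    have hg1 : Nat.gcd 2 (Fintype.card F - 1) = 1 := by
      refine Nat.coprime_two_left.mpr (Nat.odd_iff.mpr ?_)
      rw [hFc, show n = n - 1 + 1 by omega, pow_succ]
      have : 0 < 2 ^ (n - 1) := Nat.pow_pos two_pos
      omega
    have h9 : 9 ∣ Fintype.card F - 1 ∨ 9 ∣ Fintype.card F + 1 := by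
      rw [hFc, hk, pow_mul]
      rcases Nat.even_or_odd k with ⟨j, hj⟩ | ⟨j, hj⟩
      · left
        have : (2 ^ 3) ^ k % 9 = 1 := by rw [hj, ← two_mul, pow_mul, Nat.pow_mod]; simp
        omega
      · right
        have : (2 ^ 3) ^ k % 9 = 8 := by rw [hj, pow_succ, pow_mul, Nat.mul_mod, Nat.pow_mod]; simp
        omega
    obtain ⟨v, hv⟩ := (PSL2Spectrum.psl_orders (F := F) 2 9).mpr (by
      rw [hg1, Nat.div_one, Nat.div_one]; tauto)
    rcases h.rdiv ((e.symm v : N) : G) (by rw [order_lift, hv, hr]; norm_num) with h'' | h'' <;>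
      rw [order_lift, hv, hr] at h'' <;> norm_num at h''

/-- The reduction to simple groups. -/
theorem rCase_of_rSimple (R : RSimple.{u}) : RCase.{u} := by
  intro G _ _ r h hns h2r
  obtain ⟨N, hNn, hNs, hna, hC⟩ := exists_socle h hns
  haveI := hNn
  haveI := hNs
  by_cases hN : ∃ g : N, orderOf g = 2 * r
  · obtain ⟨F, _, _, h5, h8, ⟨e⟩⟩ := R N r (h.subgroup N) hna hN
    have htop := eq_top_of_psl h N e hC h8 hN
    exact ⟨F, inferInstance, inferInstance, h5, h8,
      ⟨((MulEquiv.subgroupCongr htop).trans Subgroup.topEquiv).symm.trans e⟩⟩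
  · push Not at hN
    have htop := eq_top_of_cit h N hna hC hN
    obtain ⟨g, hg⟩ := h2r
    exact absurd ((Subgroup.orderOf_mk g (htop ▸ mem_top g)).trans hg) (hN _)

end CfsgLib.TwoR
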