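import Cfsg.Agent.Lib.TwoR.CITCase
import Cfsg.Agent.Lib.TwoR.SimpleMain
import Cfsg.Agent.Lib.TwoR.Socle
import Cfsg.Agent.S0252
import Cfsg.Agent.S0253

/-!
Groups in which no prime divides three element orders, and simple groups with at most one composite element order.
-/

set_option autoImplicit false
set_option linter.unusedSectionVars false
set_option linter.style.haveILetI false

namespace CfsgLib.TwoR

universe u

variable {G : Type u} [Group G] [Finite G]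

/-- An element of a quotient has the order of some element of the group. -/
theorem exists_lift_order (N : Subgroup G) [N.Normal] {H : Type*} [Group H] (e : G ⧸ N ≃* H) {k : ℕ}
    (hk : ∃ x : H, orderOf x = k) : ∃ g : G, orderOf g = k := by
  obtain ⟨x, hx⟩ := hk
  obtain ⟨g, hg⟩ := QuotientGroup.mk'_surjective N (e.symm x)
  refine PSL2Spectrum.mem_range_of_dvd ⟨g, rfl⟩ ?_
  rw [← hx, ← e.symm.orderOf_eq, ← hg]
  exact orderOf_map_dvd _ g

/-- The orders realised in `PSL₂` over a field with two invertible. -/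
theorem orders_odd {F : Type} [Field F] [Fintype F] (hodd : Odd (Fintype.card F)) {k : ℕ}
    (hk : k ∣ (Fintype.card F - 1) / 2 ∨ k ∣ (Fintype.card F + 1) / 2) :
    ∃ x : Matrix.ProjectiveSpecialLinearGroup (Fin 2) F, orderOf x = k := by
  haveI : CharP F (ringChar F) := ringChar.charP F
  haveI := Fact.mk (CharP.char_is_prime F (ringChar F))
  obtain ⟨i, hi⟩ := hodd
  have hg : Nat.gcd 2 (Fintype.card F - 1) = 2 := Nat.gcd_eq_left ⟨i, by omega⟩
  exact (PSL2Spectrum.psl_orders (F := F) (ringChar F) k).mpr (by rw [hg]; tauto)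

/-- The orders realised in `PSL₂` in characteristic two. -/
theorem orders_even {F : Type} [Field F] [Fintype F] {n : ℕ} (hn : 1 ≤ n) (hF : Fintype.card F = 2 ^ n) {k : ℕ}
    (hk : k ∣ 2 ^ n - 1 ∨ k ∣ 2 ^ n + 1) :
    ∃ x : Matrix.ProjectiveSpecialLinearGroup (Fin 2) F, orderOf x = k := by
  haveI := Fact.mk Nat.prime_two
  haveI : CharP F 2 := charP_of_card_eq_prime_pow (p := 2) (f := n) hF
  have hd : Nat.gcd 2 (Fintype.card F - 1) = 1 := by
    refine (Nat.prime_two.coprime_iff_not_dvd.mpr ?_ : Nat.Coprime 2 _)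
    have : 2 ∣ 2 ^ n := dvd_pow_self 2 (by omega)
    have := Nat.pow_pos (n := n) two_pos
    omega
  exact (PSL2Spectrum.psl_orders (F := F) 2 k).mpr (by rw [hd, Nat.div_one, Nat.div_one, hF]; tauto)

/-- Without an element of order `2 r` for an odd prime `r`, involution centralisers are two-groups. -/
theorem isCIT_of_no_two_r (h : ∀ (g : G) (r : ℕ), r.Prime → r ≠ 2 → orderOf g ≠ 2 * r) : CIT.IsCIT G := by
  intro t ht
  haveI : Fact (Nat.Prime 2) := ⟨Nat.prime_two⟩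
  refine IsPGroup.of_card (Nat.eq_prime_pow_of_unique_prime_dvd Nat.card_pos.ne' fun {s} hs hd => ?_)
  by_contra hs2
  haveI := Fact.mk hs
  obtain ⟨⟨c, hc⟩, hco⟩ := exists_prime_orderOf_dvd_card' (G := Subgroup.centralizer ({t} : Set G)) s hd
  rw [Subgroup.orderOf_mk] at hco
  have hcom : Commute t c := (Subgroup.mem_centralizer_singleton_iff.mp hc).symm
  refine h (t * c) s hs hs2 ?_
  rw [hcom.orderOf_mul_eq_mul_orderOf_of_coprime (by
    rw [ht, hco]; exact (Nat.coprime_primes Nat.prime_two hs).mpr (Ne.symm hs2)), ht, hco]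

section Three

variable (h3 : ∀ p : ℕ, p.Prime → ∀ a b c : G, orderOf a ≠ orderOf b → orderOf b ≠ orderOf c →
  orderOf a ≠ orderOf c → ¬ (p ∣ orderOf a ∧ p ∣ orderOf b ∧ p ∣ orderOf c))

include h3

/-- An order is a product of at most two primes. -/
theorem factors_le_two {k : ℕ} (hk : ∃ g : G, orderOf g = k) : k.primeFactorsList.length ≤ 2 := by
  rcases hl : k.primeFactorsList with _ | ⟨a, _ | ⟨b, _ | ⟨c, l⟩⟩⟩ <;>
    try (simp only [List.length_cons, List.length_nil]; omega)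
  exfalso
  have hk0 : k ≠ 0 := by
    obtain ⟨g, rfl⟩ := hk
    exact (orderOf_pos g).ne'
  have hp : ∀ x ∈ [a, b, c], x.Prime := fun x hx =>
    Nat.prime_of_mem_primeFactorsList (n := k) (by
      rw [hl]; simp only [List.mem_cons, List.not_mem_nil, or_false] at hx ⊢; tauto)
  have ha := (hp a (by simp)).two_le
  have hb := (hp b (by simp)).two_le
  have hc := (hp c (by simp)).two_le
  have hprod := Nat.prod_primeFactorsList hk0
  rw [hl, List.prod_cons, List.prod_cons, List.prod_cons] at hprod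
  obtain ⟨x, hx⟩ := PSL2Spectrum.mem_range_of_dvd hk (Dvd.intro _ hprod : a ∣ k)
  obtain ⟨y, hy⟩ := PSL2Spectrum.mem_range_of_dvd hk (Dvd.intro (c * l.prod) (by rw [← hprod]; ring) : a * b ∣ k)
  obtain ⟨z, hz⟩ := PSL2Spectrum.mem_range_of_dvd hk (Dvd.intro l.prod (by rw [← hprod]; ring) : a * b * c ∣ k)
  have h1 : a < a * b := by
    calc a = a * 1 := (mul_one a).symm
      _ < a * b := Nat.mul_lt_mul_of_pos_left (by omega) (by omega)
  have h2 : a * b < a * b * c := by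
    calc a * b = a * b * 1 := (mul_one _).symm
      _ < a * b * c := Nat.mul_lt_mul_of_pos_left (by omega) (Nat.mul_pos (by omega) (by omega))
  refine h3 a (hp a (by simp)) x y z (by rw [hx, hy]; exact h1.ne) (by rw [hy, hz]; exact h2.ne)
    (by rw [hx, hz]; exact (h1.trans h2).ne) ⟨by rw [hx], by rw [hy]; exact dvd_mul_right a b, ?_⟩
  rw [hz, mul_assoc]
  exact dvd_mul_right a _

/-- The list for the groups in which no prime divides three element orders. -/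
theorem three_orders (hns : ¬ Group.IsSolvable G) :
    (∃ (F : Type) (_ : Field F) (_ : Fintype F), CharP F 2 ∧ 4 ≤ Fintype.card F ∧
        (Fintype.card F + 1).primeFactorsList.length ≤ 2 ∧ (Fintype.card F - 1).primeFactorsList.length ≤ 2 ∧
        Nonempty (G ⧸ Cfsg.pCore 2 G ≃* Matrix.ProjectiveSpecialLinearGroup (Fin 2) F)) ∨
    (∃ (F : Type) (_ : Field F) (_ : Fintype F), 5 < Fintype.card F ∧
        (Fintype.card F % 8 = 3 ∨ Fintype.card F % 8 = 5) ∧
        ((Fintype.card F + 1) / 2).primeFactorsList.length ≤ 2 ∧ ((Fintype.card F - 1) / 2).primeFactorsList.length ≤ 2 ∧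
        Nonempty (G ≃* Matrix.ProjectiveSpecialLinearGroup (Fin 2) F)) ∨
    (∃ (F : Type) (_ : Field F) (_ : Fintype F), (Fintype.card F = 7 ∨ Fintype.card F = 9) ∧
        Nonempty (G ≃* Matrix.ProjectiveSpecialLinearGroup (Fin 2) F)) ∨
    (∃ (F : Type) (_ : Field F) (_ : Fintype F), Fintype.card F = 4 ∧
        Nonempty (G ≃* Matrix.ProjectiveSpecialLinearGroup (Fin 3) F)) ∨
    (∃ n : ℕ, 1 ≤ n ∧ IsSimpleGroup G ∧
        Nat.card G = (2 ^ (2 * n + 1)) ^ 2 * ((2 ^ (2 * n + 1)) ^ 2 + 1) * (2 ^ (2 * n + 1) - 1) ∧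
        (2 ^ (2 * n + 1) - 1).primeFactorsList.length ≤ 2 ∧
        (2 ^ (2 * n + 1) - 2 ^ (n + 1) + 1).primeFactorsList.length ≤ 2 ∧
        (2 ^ (2 * n + 1) + 2 ^ (n + 1) + 1).primeFactorsList.length ≤ 2) := by
  classical
  -- two involves two orders only
  have heven : ∀ {m k : ℕ}, (∃ g : G, orderOf g = m) → (∃ g : G, orderOf g = k) → 2 ∣ m → 2 ∣ k → 2 < m → 2 < k →
      m = k := by
    intro m k hm hk hm2 hk2 hm' hk'
    obtain ⟨a, ha⟩ := PSL2Spectrum.mem_range_of_dvd hm hm2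
    obtain ⟨b, hb⟩ := hm
    obtain ⟨c, hc⟩ := hk
    by_contra hne
    exact h3 2 Nat.prime_two a b c (by omega) (by omega) (by omega) ⟨by rw [ha], hb ▸ hm2, hc ▸ hk2⟩
  by_cases h2r : ∃ (g : G) (r : ℕ), r.Prime ∧ r ≠ 2 ∧ orderOf g = 2 * r
  · obtain ⟨g, r, hr, hr2, hg⟩ := h2r
    have hr3 : 3 ≤ r := by have := hr.two_le; omega
    have hyp : Hyp G r := by
      refine ⟨hr, hr2, fun x hx => ?_, fun x hx => ?_⟩
      · by_contra hne
        push Not at hne
        have hx0 := orderOf_pos x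
        obtain ⟨j, hj⟩ := hx
        exact hne.2 (heven ⟨x, rfl⟩ ⟨g, hg⟩ ⟨j, hj⟩ (dvd_mul_right 2 r) (by omega) (by omega))
      · by_contra hne
        push Not at hne
        obtain ⟨a, ha⟩ := PSL2Spectrum.mem_range_of_dvd (n := r) ⟨g, hg⟩ (dvd_mul_left r 2)
        exact h3 r hr a g x (by omega) (by omega) (by omega) ⟨by rw [ha], hg ▸ dvd_mul_left r 2, hx⟩
    obtain ⟨F, iF, iFt, h5, h8, ⟨e⟩⟩ := rCase_of_rSimple rSimple G r hyp hns ⟨g, hg⟩
    have hodd : Odd (Fintype.card F) := Nat.odd_iff.mpr (by omega)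
    have hfac : ∀ {k : ℕ}, (k ∣ (Fintype.card F - 1) / 2 ∨ k ∣ (Fintype.card F + 1) / 2) →
        k.primeFactorsList.length ≤ 2 := fun hk => by
      obtain ⟨x, hx⟩ := orders_odd hodd hk
      exact factors_le_two h3 ⟨e.symm x, by rw [e.symm.orderOf_eq, hx]⟩
    exact Or.inr (Or.inl ⟨F, iF, iFt, h5, h8, hfac (Or.inr dvd_rfl), hfac (Or.inl dvd_rfl), ⟨e⟩⟩)
  push Not at h2r
  have h8 : ∀ g : G, orderOf g ≠ 8 := fun g hg => by
    obtain ⟨x, hx⟩ := PSL2Spectrum.mem_range_of_dvd (n := 4) ⟨g, hg⟩ (by norm_num)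
    have := heven ⟨x, hx⟩ ⟨g, hg⟩ (by norm_num) (by norm_num) (by norm_num) (by norm_num)
    omega
  rcases cit_case (isCIT_of_no_two_r h2r) h8 hns with
    ⟨F, iF, iFt, n, hn, hF, ⟨e⟩⟩ | hlist | hlist | ⟨F, iF, iFt, m, hm, hF, hs, hcard, ⟨e⟩⟩
  · haveI : CharP F 2 := charP_of_card_eq_prime_pow (p := 2) (f := n) hF
    have hfac : ∀ {k : ℕ}, (k ∣ 2 ^ n - 1 ∨ k ∣ 2 ^ n + 1) → k.primeFactorsList.length ≤ 2 := fun hk =>
      factors_le_two h3 (exists_lift_order (Cfsg.pCore 2 G) e (orders_even (by omega) hF hk))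
    refine Or.inl ⟨F, iF, iFt, inferInstance, ?_, ?_, ?_, ⟨e⟩⟩
    · rw [hF]; exact Nat.pow_le_pow_right two_pos hn
    · rw [hF]; exact hfac (Or.inr dvd_rfl)
    · rw [hF]; exact hfac (Or.inl dvd_rfl)
  · exact Or.inr (Or.inr (Or.inl hlist))
  · exact Or.inr (Or.inr (Or.inr (Or.inl hlist)))
  · have e' := e.trans (Suzuki.lieEquiv hF hm).symm
    obtain ⟨Ap, Am, iAp, cAp, -, -, iAm, cAm, -⟩ := Suzuki.classify hF hm
    have hord : ∀ A : Subgroup ↥(Cfsg.Sz F m), IsCyclic A → ∃ g : G, orderOf g = Nat.card A := by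
      intro A hA
      obtain ⟨a, ha⟩ := IsCyclic.exists_ofOrder_eq_natCard (α := A)
      exact ⟨e'.symm a, by rw [MulEquiv.orderOf_eq, Subgroup.orderOf_coe, ha]⟩
    refine Or.inr (Or.inr (Or.inr (Or.inr ⟨m, hm, hs, hcard, ?_, ?_, ?_⟩)))
    · have := factors_le_two h3 (hord _ (Suzuki.isCyclic_T hF))
      rwa [Suzuki.card_T] at this
    · have := factors_le_two h3 (hord _ iAm)
      rwa [cAm] at this
    · have := factors_le_two h3 (hord _ iAp)
      rwa [cAp] at this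

end Three

section OneComposite

variable (h1 : {n : ℕ | n ∈ Set.range (orderOf : G → ℕ) ∧ 1 < n ∧ ¬ n.Prime}.Subsingleton)

include h1

theorem composite_eq {a b : ℕ} (ha : ∃ g : G, orderOf g = a) (hb : ∃ g : G, orderOf g = b) (ha1 : 1 < a)
    (hb1 : 1 < b) (hap : ¬ a.Prime) (hbp : ¬ b.Prime) : a = b :=
  h1 ⟨ha, ha1, hap⟩ ⟨hb, hb1, hbp⟩

/-- The odd fields. -/
theorem one_composite_odd {F : Type} [Field F] [Fintype F] (e : G ≃* Matrix.ProjectiveSpecialLinearGroup (Fin 2) F)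
    (h5 : 5 < Fintype.card F) (h8 : Fintype.card F % 8 = 3 ∨ Fintype.card F % 8 = 5) :
    Fintype.card F = 11 ∨ Fintype.card F = 13 ∨
      ∃ n a b : ℕ, a.Prime ∧ b.Prime ∧ 3 ^ n - 1 = 2 * a ∧ 3 ^ n + 1 = 4 * b ∧ Fintype.card F = 3 ^ n := by
  set q := Fintype.card F
  have hord : ∀ {k : ℕ}, (k ∣ (q - 1) / 2 ∨ k ∣ (q + 1) / 2) → ∃ g : G, orderOf g = k := fun hk => by
    obtain ⟨x, hx⟩ := orders_odd (Nat.odd_iff.mpr (by omega)) hk
    exact ⟨e.symm x, by rw [e.symm.orderOf_eq, hx]⟩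
  -- the even and the odd one of the two numbers
  obtain ⟨E, O, hE, hO, hEO⟩ : ∃ E O : ℕ, 2 ∣ E ∧ ¬ 2 ∣ O ∧
      ((E = (q + 1) / 2 ∧ O = (q - 1) / 2 ∧ q % 8 = 3) ∨ (E = (q - 1) / 2 ∧ O = (q + 1) / 2 ∧ q % 8 = 5)) := by
    rcases h8 with h | h
    · exact ⟨_, _, by omega, by omega, Or.inl ⟨rfl, rfl, h⟩⟩
    · exact ⟨_, _, by omega, by omega, Or.inr ⟨rfl, rfl, h⟩⟩
  have hEord : ∀ {k : ℕ}, k ∣ E → ∃ g : G, orderOf g = k := fun hk => by
    rcases hEO with ⟨e1, -, -⟩ | ⟨e1, -, -⟩ <;> rw [e1] at hk <;> exact hord (by tauto)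
  have hOord : ∃ g : G, orderOf g = O := by
    rcases hEO with ⟨-, e1, -⟩ | ⟨-, e1, -⟩ <;> rw [e1] <;> exact hord (by simp)
  have hE4 : 4 < E := by omega
  have hEnp : ¬ E.Prime := fun hp => by
    have := (Nat.prime_dvd_prime_iff_eq Nat.prime_two hp).mp hE
    omega
  have hOp : O.Prime := by
    by_contra hnp
    have := composite_eq h1 hOord (hEord dvd_rfl) (by omega) (by omega) hnp hEnp
    omega
  obtain ⟨b, rfl⟩ := hE
  have hbp : b.Prime := by
    by_contra hnp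
    have := composite_eq h1 (hEord (dvd_mul_left b 2)) (hEord dvd_rfl) (by omega) (by omega) hnp hEnp
    omega
  by_cases h3 : 3 ∣ q
  · -- powers of three
    obtain ⟨f, hp, hq⟩ := FiniteField.card F (ringChar F)
    have h3p : ringChar F = 3 :=
      ((Nat.prime_dvd_prime_iff_eq Nat.prime_three hp).mp (Nat.prime_three.dvd_of_dvd_pow (by rw [← hq]; exact h3))).symm
    rw [h3p] at hq
    refine Or.inr (Or.inr ⟨f, O, b, hOp, hbp, ?_, ?_, hq⟩) <;>
    · rcases hEO with ⟨e1, e2, h⟩ | ⟨e1, e2, h⟩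
      · rw [← hq]; omega
      · exfalso
        have h9 : ∀ i : ℕ, 3 ^ i % 8 = 1 ∨ 3 ^ i % 8 = 3 := by
          intro i
          induction i with
          | zero => simp
          | succ i ih => rw [pow_succ, Nat.mul_mod]; rcases ih with h | h <;> rw [h] <;> simp
        have := h9 f
        rw [← hq] at this
        omega
  · have h3d : 3 ∣ O ∨ 3 ∣ b := by
      rcases hEO with ⟨e1, e2, e8⟩ | ⟨e1, e2, e8⟩
      · obtain ⟨i, hi⟩ : ∃ i, q = 8 * i + 3 := ⟨q / 8, by omega⟩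
        obtain ⟨j, hj⟩ : ∃ j, i = 3 * j ∨ i = 3 * j + 1 ∨ i = 3 * j + 2 := ⟨i / 3, by omega⟩
        rcases hj with hj | hj | hj <;> omega
      · obtain ⟨i, hi⟩ : ∃ i, q = 8 * i + 5 := ⟨q / 8, by omega⟩
        obtain ⟨j, hj⟩ : ∃ j, i = 3 * j ∨ i = 3 * j + 1 ∨ i = 3 * j + 2 := ⟨i / 3, by omega⟩
        rcases hj with hj | hj | hj <;> omega
    rcases h3d with h | h
    · have := (Nat.prime_dvd_prime_iff_eq Nat.prime_three hOp).mp h
      omega
    · have := (Nat.prime_dvd_prime_iff_eq Nat.prime_three hbp).mp h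
      omega

/-- The even fields. -/
theorem one_composite_even {F : Type} [Field F] [Fintype F] {n : ℕ} (hn : 2 ≤ n) (hF : Fintype.card F = 2 ^ n)
    (e : G ≃* Matrix.ProjectiveSpecialLinearGroup (Fin 2) F) :
    n = 2 ∨ n = 3 ∨ n = 4 ∨ ∃ r : ℕ, (2 ^ n - 1).Prime ∧ r.Prime ∧ 2 ^ n + 1 = 3 * r := by
  have hord : ∀ {k : ℕ}, (k ∣ 2 ^ n - 1 ∨ k ∣ 2 ^ n + 1) → ∃ g : G, orderOf g = k := fun hk => by
    obtain ⟨x, hx⟩ := orders_even (by omega) hF hk
    exact ⟨e.symm x, by rw [e.symm.orderOf_eq, hx]⟩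
  by_cases hn5 : n ≤ 4
  · omega
  right; right; right
  have h32 : 32 ≤ 2 ^ n := by
    calc 32 = 2 ^ 5 := by norm_num
      _ ≤ 2 ^ n := Nat.pow_le_pow_right two_pos (by omega)
  rcases Nat.even_or_odd n with ⟨k, hk⟩ | ⟨k, hk⟩
  · exfalso
    have hsq : 2 ^ n = 2 ^ k * 2 ^ k := by rw [hk, pow_add]
    have h8 : 8 ≤ 2 ^ k := by
      calc 8 = 2 ^ 3 := by norm_num
        _ ≤ 2 ^ k := Nat.pow_le_pow_right two_pos (by omega)
    have hfac : 2 ^ n - 1 = (2 ^ k + 1) * (2 ^ k - 1) := by rw [hsq, ← Nat.mul_self_sub_mul_self_eq, one_mul]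
    have hnp : ¬ (2 ^ n - 1).Prime := by
      rw [hfac]
      exact Nat.not_prime_mul (by omega) (by omega)
    have hlt1 : 2 ^ k + 1 < 2 ^ n - 1 := by
      rw [hfac]
      calc 2 ^ k + 1 = (2 ^ k + 1) * 1 := (mul_one _).symm
        _ < (2 ^ k + 1) * (2 ^ k - 1) := Nat.mul_lt_mul_of_pos_left (by omega) (by omega)
    have p1 : (2 ^ k + 1).Prime := by
      by_contra hnp'
      have := composite_eq h1 (hord (k := 2 ^ k + 1) (Or.inl (by rw [hfac]; exact dvd_mul_right _ _)))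
        (hord (Or.inl dvd_rfl)) (by omega) (by omega) hnp' hnp
      omega
    have p2 : (2 ^ k - 1).Prime := by
      by_contra hnp'
      have := composite_eq h1 (hord (k := 2 ^ k - 1) (Or.inl (by rw [hfac]; exact dvd_mul_left _ _)))
        (hord (Or.inl dvd_rfl)) (by omega) (by omega) hnp' hnp
      omega
    have h3 : 3 ∣ 2 ^ k + 1 ∨ 3 ∣ 2 ^ k - 1 := by
      have : 2 ^ k % 3 ≠ 0 := fun h0 => absurd (Nat.prime_three.dvd_of_dvd_pow (Nat.dvd_of_mod_eq_zero h0)) (by norm_num)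
      omega
    rcases h3 with h | h
    · have := (Nat.prime_dvd_prime_iff_eq Nat.prime_three p1).mp h
      omega
    · have := (Nat.prime_dvd_prime_iff_eq Nat.prime_three p2).mp h
      omega
  · have h3 : 3 ∣ 2 ^ n + 1 := by
      have := (CITUse.two_pow_mod_three n).2 ⟨k, hk⟩
      omega
    obtain ⟨r, hr⟩ := h3
    have hnp : ¬ (2 ^ n + 1).Prime := by
      rw [hr]
      exact Nat.not_prime_mul (by norm_num) (by omega)
    refine ⟨r, ?_, ?_, hr⟩
    · by_contra hnp'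
      have := composite_eq h1 (hord (Or.inl dvd_rfl)) (hord (Or.inr dvd_rfl)) (by omega) (by omega) hnp' hnp
      omega
    · by_contra hnp'
      have := composite_eq h1 (hord (k := r) (Or.inr (Dvd.intro_left _ hr.symm))) (hord (Or.inr dvd_rfl))
        (by omega) (by omega) hnp' hnp
      omega

/-- The Suzuki groups. -/
theorem one_composite_suzuki {F : Type} [Field F] [Fintype F] {m : ℕ} (hm : 1 ≤ m)
    (hF : Fintype.card F = 2 ^ (2 * m + 1)) (e : G ≃* ↥(Cfsg.Sz F m)) : m = 1 := by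
  obtain ⟨Ap, Am, iAp, cAp, hself, hN, iAm, cAm, -⟩ := Suzuki.classify hF hm
  obtain ⟨-, h5, h2, -⟩ := Suzuki.torusOrder_props hF hm (Or.inr (Or.inl rfl))
  obtain ⟨-, h5', h2', -⟩ := Suzuki.torusOrder_props hF hm (Or.inr (Or.inr rfl))
  rw [← cAp] at h5 h2 hN
  obtain ⟨y, k, hy, -⟩ := exists_four_normalising Ap (Nat.odd_iff.mpr (by omega)) (by omega) hself hN
  have hprime : ∀ A : Subgroup ↥(Cfsg.Sz F m), IsCyclic A → 1 < Nat.card A → ¬ 2 ∣ Nat.card A →
      (Nat.card A).Prime := by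
    intro A hA h1' h2''
    by_contra hnp
    obtain ⟨a, ha⟩ := IsCyclic.exists_ofOrder_eq_natCard (α := A)
    have := composite_eq h1 (a := Nat.card A) (b := 4) ⟨e.symm a, by rw [MulEquiv.orderOf_eq, Subgroup.orderOf_coe, ha]⟩
      ⟨e.symm y, by rw [MulEquiv.orderOf_eq, hy]⟩ h1' (by norm_num) hnp (by norm_num)
    omega
  have pp := hprime Ap iAp (by omega) h2
  have pm := hprime Am iAm (by omega) (by omega)
  obtain ⟨hprod, hsq, hs4, hq8, -, -, -⟩ := Suzuki.arith hF hm _ _ rfl rfl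
  have h5d : 5 ∣ (2 ^ (2 * m + 1)) ^ 2 + 1 := by
    rw [← pow_mul, mul_comm, pow_mul]
    have := (odd_two_mul_add_one m).nat_add_dvd_pow_add_pow (2 ^ 2) 1
    rwa [one_pow] at this
  rw [← hprod, ← cAp, ← cAm] at h5d
  have h5p : Nat.Prime 5 := by norm_num
  rcases h5p.dvd_mul.mp h5d with h | h
  · have := (Nat.prime_dvd_prime_iff_eq h5p pp).mp h
    omega
  · have := (Nat.prime_dvd_prime_iff_eq h5p pm).mp h
    by_contra hne
    have h32 : 2 ^ (m + 1) * 4 ≤ 2 ^ (2 * m + 1) := by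
      rw [show 4 = 2 ^ 2 by norm_num, ← pow_add]
      exact Nat.pow_le_pow_right two_pos (by omega)
    have h8' : 8 ≤ 2 ^ (m + 1) := by
      calc 8 = 2 ^ 3 := by norm_num
        _ ≤ 2 ^ (m + 1) := Nat.pow_le_pow_right two_pos (by omega)
    omega

/-- The list for the simple groups with at most one composite element order. -/
theorem one_composite [IsSimpleGroup G] :
    (Nat.card G).Prime ∨
    (∃ (F : Type) (_ : Field F) (_ : Fintype F), (Fintype.card F = 5 ∨ Fintype.card F = 7 ∨ Fintype.card F = 8 ∨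
        Fintype.card F = 9 ∨ Fintype.card F = 11 ∨ Fintype.card F = 13 ∨ Fintype.card F = 16) ∧
        Nonempty (G ≃* Matrix.ProjectiveSpecialLinearGroup (Fin 2) F)) ∨
    (∃ (F : Type) (_ : Field F) (_ : Fintype F), Fintype.card F = 4 ∧
        Nonempty (G ≃* Matrix.ProjectiveSpecialLinearGroup (Fin 3) F)) ∨
    (∃ (F : Type) (_ : Field F) (_ : Fintype F), Fintype.card F = 8 ∧ Nonempty (G ≃* ↥(Cfsg.Lie.Sz F 4))) ∨
    (∃ (F : Type) (_ : Field F) (_ : Fintype F), ∃ n r s : ℕ, r.Prime ∧ s.Prime ∧ 3 ^ n - 1 = 2 * r ∧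
        3 ^ n + 1 = 4 * s ∧ Fintype.card F = 3 ^ n ∧
        Nonempty (G ≃* Matrix.ProjectiveSpecialLinearGroup (Fin 2) F)) ∨
    (∃ (F : Type) (_ : Field F) (_ : Fintype F), ∃ n r : ℕ, (2 ^ n - 1).Prime ∧ r.Prime ∧ 2 ^ n + 1 = 3 * r ∧
        Fintype.card F = 2 ^ n ∧ Nonempty (G ≃* Matrix.ProjectiveSpecialLinearGroup (Fin 2) F)) := by
  classical
  by_cases hcomm : ∀ a b : G, a * b = b * a
  · letI : CommGroup G := { (inferInstance : Group G) with mul_comm := hcomm }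
    exact Or.inl IsSimpleGroup.prime_card
  push Not at hcomm
  have hns : ¬ Group.IsSolvable G := fun hs => by
    obtain ⟨a, b, hab⟩ := hcomm
    exact hab (IsSimpleGroup.comm_iff_isSolvable.mpr hs a b)
  by_cases h2r : ∃ (g : G) (r : ℕ), r.Prime ∧ r ≠ 2 ∧ orderOf g = 2 * r
  · obtain ⟨g, r, hr, hr2, hg⟩ := h2r
    have hr3 : 3 ≤ r := by have := hr.two_le; omega
    have hnp : ¬ (2 * r).Prime := Nat.not_prime_mul (by norm_num) (by omega)
    have hyp : Hyp G r := by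
      refine ⟨hr, hr2, fun x hx => ?_, fun x hx => ?_⟩
      · by_cases hp : (orderOf x).Prime
        · exact Or.inl ((Nat.prime_dvd_prime_iff_eq Nat.prime_two hp).mp hx).symm
        · have := orderOf_pos x
          exact Or.inr (composite_eq h1 ⟨x, rfl⟩ ⟨g, hg⟩ (by omega) (by omega) hp hnp)
      · by_cases hp : (orderOf x).Prime
        · exact Or.inl ((Nat.prime_dvd_prime_iff_eq hr hp).mp hx).symm
        · have := Nat.le_of_dvd (orderOf_pos x) hx
          exact Or.inr (composite_eq h1 ⟨x, rfl⟩ ⟨g, hg⟩ (by omega) (by omega) hp hnp)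
    obtain ⟨F, iF, iFt, h5, h8, ⟨e⟩⟩ := rSimple G r hyp hcomm ⟨g, hg⟩
    rcases one_composite_odd h1 e h5 h8 with hq | hq | ⟨n, a, b, ha, hb, e1, e2, hq⟩
    · exact Or.inr (Or.inl ⟨F, iF, iFt, by simp [hq], ⟨e⟩⟩)
    · exact Or.inr (Or.inl ⟨F, iF, iFt, by simp [hq], ⟨e⟩⟩)
    · exact Or.inr (Or.inr (Or.inr (Or.inr (Or.inl ⟨F, iF, iFt, n, a, b, ha, hb, e1, e2, hq, ⟨e⟩⟩))))
  push Not at h2r
  have h8 : ∀ g : G, orderOf g ≠ 8 := fun g hg => by
    obtain ⟨x, hx⟩ := PSL2Spectrum.mem_range_of_dvd (n := 4) ⟨g, hg⟩ (by norm_num)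
    have := composite_eq h1 ⟨x, hx⟩ ⟨g, hg⟩ (by norm_num) (by norm_num) (by norm_num) (by norm_num)
    omega
  rcases cit_case (isCIT_of_no_two_r h2r) h8 hns with
    ⟨F, iF, iFt, n, hn, hF, ⟨e'⟩⟩ | ⟨F, iF, iFt, hF, he⟩ | hlist | ⟨F, iF, iFt, m, hm, hF, -, -, ⟨e⟩⟩
  · have hD : Cfsg.pCore 2 G = ⊥ := by
      rcases (inferInstance : (Cfsg.pCore 2 G).Normal).eq_bot_or_eq_top with h | h
      · exact h
      · exfalso
        haveI := (CIT.core_two (X := G)).isNilpotent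
        exact hns (Group.isSolvable_of_surjective (G := Cfsg.pCore 2 G) (f := (Cfsg.pCore 2 G).subtype)
          fun g => ⟨⟨g, h ▸ Subgroup.mem_top g⟩, rfl⟩)
    let e : G ≃* Matrix.ProjectiveSpecialLinearGroup (Fin 2) F :=
      ((QuotientGroup.quotientBot (G := G)).symm.trans (QuotientGroup.quotientMulEquivOfEq hD.symm)).trans e'
    rcases one_composite_even h1 hn hF e with rfl | rfl | rfl | ⟨r, hp, hr, hr'⟩
    · haveI : Fact (Nat.Prime 5) := ⟨by norm_num⟩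
      obtain ⟨f4⟩ := Cfsg.Agent.S0252.result (F := F) (by rw [hF]; norm_num)
      obtain ⟨f5⟩ := Cfsg.Agent.S0253.result (F := ZMod 5) (ZMod.card 5)
      exact Or.inr (Or.inl ⟨ZMod 5, inferInstance, inferInstance, by simp [ZMod.card], ⟨(e.trans f4).trans f5.symm⟩⟩)
    · exact Or.inr (Or.inl ⟨F, iF, iFt, by simp [hF], ⟨e⟩⟩)
    · exact Or.inr (Or.inl ⟨F, iF, iFt, by simp [hF], ⟨e⟩⟩)
    · exact Or.inr (Or.inr (Or.inr (Or.inr (Or.inr ⟨F, iF, iFt, n, r, hp, hr, hr', hF, ⟨e⟩⟩))))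
  · exact Or.inr (Or.inl ⟨F, iF, iFt, by tauto, he⟩)
  · exact Or.inr (Or.inr (Or.inl hlist))
  · obtain rfl := one_composite_suzuki h1 hm hF (e.trans (Suzuki.lieEquiv hF hm).symm)
    exact Or.inr (Or.inr (Or.inr (Or.inl ⟨F, iF, iFt, by rw [hF]; norm_num, ⟨e⟩⟩)))

end OneComposite

end CfsgLib.TwoR
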