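import Cfsg.Agent.Lib.TwoR.Basic
import Cfsg.Agent.Lib.PSolvable
import Cfsg.Agent.Lib.Coprime
import Cfsg.Agent.S0205
import Mathlib.GroupTheory.Transfer

/-!
Local subgroups under the hypothesis on the orders `2`, `r`, `2 r`: they are solvable, their cores are `r`-groups,
and two maximal `r`-subgroups normalised by the same Sylow two-subgroup meet trivially.
-/

set_option autoImplicit false
set_option linter.unusedSectionVars false
set_option linter.style.haveILetI false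

namespace CfsgLib.TwoR

open Subgroup

universe u v

/-- A central Sylow two-subgroup forces solvability. -/
theorem solvable_of_central {X : Type v} [Group X] [Finite X] (S : Sylow 2 X)
    (hS : normalizer ((S : Subgroup X) : Set X) ≤ centralizer ((S : Subgroup X) : Set X)) : Group.IsSolvable X := by
  haveI : Fact (Nat.Prime 2) := ⟨Nat.prime_two⟩
  set K := (MonoidHom.transferSylow S hS).ker with hK
  have hc := MonoidHom.ker_transferSylow_isComplement' S hS
  have hodd : Odd (Nat.card K) := by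
    have hcard := hc.card_mul
    rw [← (S : Subgroup X).card_mul_index, mul_comm] at hcard
    rw [Nat.eq_of_mul_eq_mul_left Nat.card_pos hcard, ← Nat.not_even_iff_odd, even_iff_two_dvd]
    exact S.not_dvd_index
  haveI hKs : Group.IsSolvable K := Cfsg.Agent.S0205.result hodd
  haveI hQs : Group.IsSolvable (X ⧸ K) := by
    haveI : Group.IsNilpotent (X ⧸ K) := by
      refine IsPGroup.isNilpotent (p := 2) ?_
      obtain ⟨j, hj⟩ := IsPGroup.iff_card.mp S.2
      refine IsPGroup.of_card (n := j) ?_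
      rw [← Subgroup.index_eq_card, hc.symm.index_eq_card, hj]
    infer_instance
  exact (Group.isSolvable_iff_subgroup_quotient K).mpr ⟨hKs, hQs⟩

/-- A solvable group with abelian Sylow two-subgroup. -/
theorem solvable_structure {X : Type v} [Group X] [Finite X] [Group.IsSolvable X] (S : Sylow 2 X)
    (hab : ∀ a ∈ (S : Subgroup X), ∀ b ∈ (S : Subgroup X), a * b = b * a) :
    (Cfsg.oddCore X ⊔ normalizer ((S : Subgroup X) : Set X) = ⊤) ∧
    (∀ Y : Subgroup X, Odd (Nat.card Y) → (S : Subgroup X) ≤ normalizer (Y : Set X) → Y ≤ Cfsg.oddCore X) ∧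
    centralizer ((S : Subgroup X) : Set X) ≤ Cfsg.oddCore X ⊔ (S : Subgroup X) := by
  haveI : Fact (Nat.Prime 2) := ⟨Nat.prime_two⟩
  set O := Cfsg.oddCore X with hOdef
  haveI : O.Normal := inferInstanceAs (Cfsg.pPrimeCore 2 X).Normal
  set π := QuotientGroup.mk' O with hπ
  set S' := S.mapSurjective (f := π) (QuotientGroup.mk'_surjective O)
  have hS'ab : ∀ a ∈ (S' : Subgroup (X ⧸ O)), ∀ b ∈ (S' : Subgroup (X ⧸ O)), a * b = b * a := by
    rintro _ ⟨a, ha, rfl⟩ _ ⟨b, hb, rfl⟩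
    rw [← map_mul, ← map_mul, hab a ha b hb]
  have hbot : Cfsg.pPrimeCore 2 (X ⧸ O) = ⊥ := CfsgLib.pPrimeCore_quotient_eq_bot 2
  have hF := CfsgLib.centralizer_pCore_le Nat.prime_two hbot
  have hle : (S' : Subgroup (X ⧸ O)) ≤ Cfsg.pCore 2 (X ⧸ O) := fun a ha => hF (Subgroup.mem_centralizer_iff.mpr
    fun b hb => hS'ab b (CfsgLib.pCore_le_sylow S' hb) a ha)
  have hS' : (S' : Subgroup (X ⧸ O)) = Cfsg.pCore 2 (X ⧸ O) := le_antisymm hle (CfsgLib.pCore_le_sylow S')
  haveI hS'n : (S' : Subgroup (X ⧸ O)).Normal := by rw [hS']; exact inferInstance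
  have hself : centralizer ((S' : Subgroup (X ⧸ O)) : Set (X ⧸ O)) ≤ (S' : Subgroup (X ⧸ O)) := by
    conv_rhs => rw [hS']
    conv_lhs => rw [hS']
    exact hF
  have hcomap : (S' : Subgroup (X ⧸ O)).comap π = (S : Subgroup X) ⊔ O := by
    show ((S : Subgroup X).map π).comap π = _
    rw [Subgroup.comap_map_eq, hπ, QuotientGroup.ker_mk']
  refine ⟨?_, fun Y hY hSY => ?_, ?_⟩
  · set M := (S' : Subgroup (X ⧸ O)).comap π with hM
    haveI : M.Normal := inferInstance
    have hSM : (S : Subgroup X) ≤ M := hcomap.symm ▸ le_sup_left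
    have h1 := Sylow.normalizer_sup_eq_top (S.subtype hSM)
    rw [Sylow.coe_subtype, Subgroup.subgroupOf_map_subtype, inf_eq_left.mpr hSM] at h1
    rw [eq_top_iff, ← h1, hcomap]
    exact sup_le le_sup_right (sup_le (Subgroup.le_normalizer.trans le_sup_right) le_sup_left)
  · intro y hy
    by_contra hyO
    -- the image of `Y` centralises the image of `S`
    have hdis : ∀ q ∈ (S' : Subgroup (X ⧸ O)), q ∈ Y.map π → q = 1 := by
      intro q hq hq'
      obtain ⟨j, hj⟩ := IsPGroup.iff_card.mp S'.2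
      refine orderOf_eq_one_iff.mp (Nat.eq_one_of_dvd_coprimes ?_ ((S' : Subgroup (X ⧸ O)).orderOf_dvd_natCard hq)
        (((Y.map π).orderOf_dvd_natCard hq').trans (Subgroup.card_map_dvd _ _)))
      rw [hj]
      exact (Nat.coprime_two_left.mpr hY).pow_left j
    have hmem : π y ∈ centralizer ((S' : Subgroup (X ⧸ O)) : Set (X ⧸ O)) := by
      refine Subgroup.mem_centralizer_iff.mpr fun q hq => ?_
      obtain ⟨a, ha, rfl⟩ := hq
      have h1 : π (a * y * a⁻¹ * y⁻¹) = 1 := by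
        refine hdis _ ?_ ⟨_, mul_mem ((Subgroup.mem_normalizer_iff.mp (hSY ha) y).mp hy) (inv_mem hy), rfl⟩
        rw [show π (a * y * a⁻¹ * y⁻¹) = π a * (π y * (π a)⁻¹ * (π y)⁻¹) by simp [mul_assoc]]
        exact mul_mem ⟨a, ha, rfl⟩ (hS'n.conj_mem _ (inv_mem ⟨a, ha, rfl⟩) _)
      rw [map_mul, map_mul, map_mul, map_inv, map_inv, mul_inv_eq_one, mul_inv_eq_iff_eq_mul] at h1
      exact h1
    exact hyO ((QuotientGroup.eq_one_iff y).mp (hdis _ (hself hmem) ⟨y, hy, rfl⟩))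
  · intro c hc
    rw [sup_comm, ← hcomap, Subgroup.mem_comap]
    refine hself (Subgroup.mem_centralizer_iff.mpr fun q hq => ?_)
    obtain ⟨a, ha, rfl⟩ := hq
    rw [← map_mul, ← map_mul, Subgroup.mem_centralizer_iff.mp hc a ha]

/-- The odd core of a subgroup, as a subgroup of the whole group. -/
def OO {G : Type u} [Group G] (H : Subgroup G) : Subgroup G := (Cfsg.oddCore H).map H.subtype

variable {G : Type u} [Group G] [Finite G] {r : ℕ}

theorem OO_le (H : Subgroup G) : OO H ≤ H := Subgroup.map_subtype_le _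

theorem OO_odd (H : Subgroup G) : Odd (Nat.card (OO H)) := by
  rw [OO, Subgroup.card_map_of_injective H.subtype_injective]
  exact CfsgLib.odd_card_oddCore

theorem le_OO_normalizer (H : Subgroup G) : H ≤ normalizer (OO H : Set G) := by
  intro g hg
  refine Subgroup.mem_normalizer_fintype fun x hx => ?_
  obtain ⟨w, hw, rfl⟩ := hx
  exact ⟨⟨g, hg⟩ * w * ⟨g, hg⟩⁻¹, (inferInstance : (Cfsg.pPrimeCore 2 H).Normal).conj_mem w hw _, rfl⟩

/-- A normal subgroup of odd order lies in the odd core. -/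
theorem le_OO {H N : Subgroup G} (hNH : N ≤ H) (hn : H ≤ normalizer (N : Set G)) (hodd : Odd (Nat.card N)) :
    N ≤ OO H := by
  intro x hx
  haveI : (N.subgroupOf H).Normal := (Subgroup.normal_subgroupOf_iff_le_normalizer hNH).mpr hn
  refine ⟨⟨x, hNH hx⟩, CfsgLib.le_oddCore ?_ (show (⟨x, hNH hx⟩ : H) ∈ N.subgroupOf H from hx), rfl⟩
  rwa [Nat.card_congr (Subgroup.subgroupOfEquivOfLe hNH).toEquiv]

section Sylow

variable {T : Sylow 2 G} (hTab : ∀ a ∈ (T : Subgroup G), ∀ b ∈ (T : Subgroup G), a * b = b * a)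

include hTab

/-- In a solvable overgroup of an abelian Sylow two-subgroup: the decomposition. -/
theorem exists_decomp {H : Subgroup G} [Group.IsSolvable H] (hTH : (T : Subgroup G) ≤ H) {g : G} (hg : g ∈ H) :
    ∃ o ∈ OO H, ∃ n ∈ normalizer ((T : Subgroup G) : Set G), n ∈ H ∧ g = o * n := by
  have h := (solvable_structure (T.subtype hTH) fun a ha b hb => Subtype.ext (hTab _ ha _ hb)).1
  have hg' : (⟨g, hg⟩ : H) ∈ Cfsg.oddCore H ⊔ normalizer (((T.subtype hTH : Sylow 2 H) : Subgroup H) : Set H) := by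
    rw [h]; exact mem_top _
  haveI : (Cfsg.oddCore H).Normal := inferInstanceAs (Cfsg.pPrimeCore 2 H).Normal
  rw [← SetLike.mem_coe, Subgroup.normal_mul] at hg'
  obtain ⟨o, ho, n, hn, e⟩ := hg'
  refine ⟨o, ⟨o, ho, rfl⟩, n, ?_, n.2, congrArg Subtype.val e.symm⟩
  refine Subgroup.mem_normalizer_fintype fun x hx => ?_
  exact (Subgroup.mem_normalizer_iff.mp hn ⟨x, hTH hx⟩).mp hx

/-- An odd subgroup of a solvable group normalised by an abelian Sylow two-subgroup lies in the core. -/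
theorem le_OO_of_invariant {H : Subgroup G} [Group.IsSolvable H] (hTH : (T : Subgroup G) ≤ H) {Y : Subgroup G}
    (hYH : Y ≤ H) (hY : Odd (Nat.card Y)) (hTY : (T : Subgroup G) ≤ normalizer (Y : Set G)) : Y ≤ OO H := by
  have h := (solvable_structure (T.subtype hTH) fun a ha b hb => Subtype.ext (hTab _ ha _ hb)).2.1 (Y.subgroupOf H)
    (by rwa [Nat.card_congr (Subgroup.subgroupOfEquivOfLe hYH).toEquiv]) fun a ha =>
      Subgroup.mem_normalizer_fintype fun y hy => (Subgroup.mem_normalizer_iff.mp (hTY ha) y).mp hy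
  exact fun y hy => ⟨⟨y, hYH hy⟩, h hy, rfl⟩

/-- The centraliser of an abelian Sylow two-subgroup inside a solvable overgroup. -/
theorem mem_of_centralizes {H : Subgroup G} [Group.IsSolvable H] (hTH : (T : Subgroup G) ≤ H) {c : G} (hc : c ∈ H)
    (hcT : ∀ a ∈ (T : Subgroup G), a * c = c * a) : ∃ o ∈ OO H, ∃ a ∈ (T : Subgroup G), c = o * a := by
  have h := (solvable_structure (T.subtype hTH) fun a ha b hb => Subtype.ext (hTab _ ha _ hb)).2.2
    (show (⟨c, hc⟩ : H) ∈ centralizer (((T.subtype hTH : Sylow 2 H) : Subgroup H) : Set H) from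
      fun a ha => Subtype.ext (hcT _ ha))
  haveI : (Cfsg.oddCore H).Normal := inferInstanceAs (Cfsg.pPrimeCore 2 H).Normal
  rw [← SetLike.mem_coe, Subgroup.normal_mul] at h
  obtain ⟨o, ho, n, hn, e⟩ := h
  exact ⟨o, ⟨o, ho, rfl⟩, n, hn, congrArg Subtype.val e.symm⟩

end Sylow

variable (h : Hyp G r) (T : Sylow 2 G)

theorem Hyp.sylow_comm (h : Hyp G r) (T : Sylow 2 G) :
    ∀ a ∈ (T : Subgroup G), ∀ b ∈ (T : Subgroup G), a * b = b * a :=
  fun _ ha _ hb => h.comm_two T.2 ha hb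

theorem Hyp.sylow_two (h : Hyp G r) {T : Sylow 2 G} {a : G} (ha : a ∈ (T : Subgroup G)) (h1 : a ≠ 1) :
    orderOf a = 2 :=
  h.orderOf_two T.2 ha h1

/-- An `r`-subgroup normalised by the Sylow two-subgroup. -/
def Inv (r : ℕ) (T : Sylow 2 G) (X : Subgroup G) : Prop :=
  IsPGroup r X ∧ (T : Subgroup G) ≤ normalizer (X : Set G)

theorem Hyp.odd_card (h : Hyp G r) {X : Subgroup G} (hX : IsPGroup r X) : Odd (Nat.card X) := by
  haveI := Fact.mk h.prime
  obtain ⟨j, hj⟩ := IsPGroup.iff_card.mp hX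
  rw [hj]
  exact h.odd.pow

/-- With two distinct involutions some involution has a fixed point on an odd invariant subgroup. -/
theorem exists_fixed {X : Subgroup G} (hX : Odd (Nat.card X)) (hX1 : X ≠ ⊥) {a b : G} (ha : orderOf a = 2)
    (hb : orderOf b = 2) (hab : Commute a b) (hne : a ≠ b) (haX : a ∈ normalizer (X : Set G))
    (hbX : b ∈ normalizer (X : Set G)) :
    ∃ x ∈ X, x ≠ 1 ∧ (Commute a x ∨ Commute b x ∨ Commute (a * b) x) := by
  by_contra hno
  push Not at hno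
  have hinv : ∀ e : G, orderOf e = 2 → e ∈ normalizer (X : Set G) → (∀ x ∈ X, x ≠ 1 → ¬ Commute e x) →
      ∀ x ∈ X, e * x * e⁻¹ = x⁻¹ := by
    intro e he heX hfix x hx
    set φ := X.normalizerMonoidHom ⟨e, heX⟩ with hφ
    have hfpf : MonoidHom.FixedPointFree (φ : X → X) := fun z hz => by
      by_contra hz1
      exact hfix z z.2 (fun e' => hz1 (Subtype.ext e')) (mul_inv_eq_iff_eq_mul.mp (congrArg Subtype.val hz))
    have hinvol : Function.Involutive (φ : X → X) := fun z => by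
      apply Subtype.ext
      show e * (e * (z : G) * e⁻¹) * e⁻¹ = z
      rw [show e * (e * (z : G) * e⁻¹) * e⁻¹ = e * e * z * (e * e)⁻¹ by group,
        Involutions.mul_self_eq_one_of_orderOf he]
      group
    exact congrArg Subtype.val (congrFun (MonoidHom.FixedPointFree.coe_eq_inv_of_involutive hfpf hinvol) ⟨x, hx⟩)
  obtain ⟨x, hx, hx1⟩ := (Subgroup.bot_or_exists_ne_one X).resolve_left hX1
  have h1 := hinv a ha haX (fun z hz hz1 => (hno z hz hz1).1) x hx
  have h2 := hinv b hb hbX (fun z hz hz1 => (hno z hz hz1).2.1) x hx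
  refine (hno x hx hx1).2.2 (mul_inv_eq_iff_eq_mul.mp ?_)
  calc a * b * x * (a * b)⁻¹ = a * (b * x * b⁻¹) * a⁻¹ := by group
    _ = (a * x * a⁻¹)⁻¹ := by rw [h2]; group
    _ = x := by rw [h1, inv_inv]

section Four

variable (h4 : 4 ≤ Nat.card (T : Subgroup G))

include h h4

theorem exists_two : ∃ a ∈ (T : Subgroup G), ∃ b ∈ (T : Subgroup G), orderOf a = 2 ∧ orderOf b = 2 ∧ a ≠ b := by
  haveI : Fintype (T : Subgroup G) := Fintype.ofFinite _
  rw [Nat.card_eq_fintype_card] at h4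
  obtain ⟨a, ha⟩ : ∃ a : (T : Subgroup G), a ≠ 1 := by
    by_contra hh
    push Not at hh
    have := Fintype.card_le_one_iff.mpr fun x y => (hh x).trans (hh y).symm
    omega
  obtain ⟨b, hb, hba⟩ : ∃ b : (T : Subgroup G), b ≠ 1 ∧ b ≠ a := by
    by_contra hh
    push Not at hh
    classical
    have hle : Fintype.card (T : Subgroup G) ≤ ({1, a} : Finset (T : Subgroup G)).card :=
      Finset.card_le_card (s := Finset.univ) fun x _ => by
        by_cases hx : x = 1
        · simp [hx]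
        · simp [hh x hx]
    have := hle.trans Finset.card_le_two
    omega
  exact ⟨a, a.2, b, b.2, h.sylow_two a.2 fun e => ha (Subtype.ext e), h.sylow_two b.2 fun e => hb (Subtype.ext e),
    fun e => hba (Subtype.ext e).symm⟩

theorem exists_fixed_T {X : Subgroup G} (hX : Odd (Nat.card X)) (hX1 : X ≠ ⊥)
    (hTX : (T : Subgroup G) ≤ normalizer (X : Set G)) :
    ∃ t ∈ (T : Subgroup G), orderOf t = 2 ∧ ∃ x ∈ X, x ≠ 1 ∧ Commute t x := by
  obtain ⟨a, ha, b, hb, hao, hbo, hne⟩ := exists_two h T h4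
  obtain ⟨x, hx, hx1, hc | hc | hc⟩ :=
    exists_fixed hX hX1 hao hbo (h.sylow_comm T a ha b hb) hne (hTX ha) (hTX hb)
  · exact ⟨a, ha, hao, x, hx, hx1, hc⟩
  · exact ⟨b, hb, hbo, x, hx, hx1, hc⟩
  · refine ⟨a * b, mul_mem ha hb, h.sylow_two (mul_mem ha hb) fun e => hne ?_, x, hx, hx1, hc⟩
    rw [mul_eq_one_iff_eq_inv.mp e, Involutions.inv_eq_self_of_orderOf hbo]

/-- An odd subgroup normalised by the Sylow two-subgroup is an `r`-group. -/
theorem isPGroup_of_invariant {X : Subgroup G} (hX : Odd (Nat.card X))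
    (hTX : (T : Subgroup G) ≤ normalizer (X : Set G)) : IsPGroup r X := by
  haveI : Fact (Nat.Prime 2) := ⟨Nat.prime_two⟩
  refine IsPGroup.of_card (Nat.eq_prime_pow_of_unique_prime_dvd Nat.card_pos.ne' fun {q} hq hqX => ?_)
  by_contra hqr
  haveI := Fact.mk hq
  haveI hTs : Group.IsSolvable (T : Subgroup G) := by
    haveI := (T.2).isNilpotent
    infer_instance
  obtain ⟨j, hj⟩ := IsPGroup.iff_card.mp T.2
  obtain ⟨P, hP⟩ := CfsgLib.coprime_exists_invariant_sylow hTX
    (by rw [hj]; exact (Nat.coprime_two_left.mpr hX).pow_left j) (Or.inl hTs) q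
  set P' := (P : Subgroup X).map X.subtype with hP'
  have hP'0 : P' ≠ ⊥ := by
    rw [hP', Ne, Subgroup.map_eq_bot_iff_of_injective _ X.subtype_injective]
    exact P.ne_bot_of_dvd_card hqX
  have hP'le : P' ≤ X := Subgroup.map_subtype_le _
  obtain ⟨t, -, hto, x, hx, hx1, hc⟩ :=
    exists_fixed_T h T h4 (hX.of_dvd_nat (Subgroup.card_dvd_of_le hP'le)) hP'0 hP
  have h1 := h.pow_r_of_commute_two hto hc
    (hX.of_dvd_nat ((P'.orderOf_dvd_natCard hx).trans (Subgroup.card_dvd_of_le hP'le)))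
  obtain ⟨i, hi⟩ := IsPGroup.iff_orderOf.mp (P.2.map X.subtype) ⟨x, hx⟩
  rw [Subgroup.orderOf_mk] at hi
  refine hx1 (orderOf_eq_one_iff.mp (Nat.eq_one_of_dvd_coprimes ?_ (orderOf_dvd_of_pow_eq_one h1) dvd_rfl))
  rw [hi]
  exact ((Nat.coprime_primes h.prime hq).mpr (Ne.symm hqr)).pow_right i

end Four

section Acting

include h

/-- An element acting non-trivially on the Sylow subgroup yields one of odd prime order doing so. -/
theorem exists_prime_acting {n : G} (hn : n ∈ normalizer ((T : Subgroup G) : Set G))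
    (hact : ∃ a ∈ (T : Subgroup G), n * a * n⁻¹ ≠ a) :
    ∃ y ∈ zpowers n, y ∈ normalizer ((T : Subgroup G) : Set G) ∧ (orderOf y).Prime ∧ orderOf y ≠ 2 ∧
      ∃ a ∈ (T : Subgroup G), y * a * y⁻¹ ≠ a := by
  classical
  haveI : Fact (Nat.Prime 2) := ⟨Nat.prime_two⟩
  set φ := (T : Subgroup G).normalizerMonoidHom with hφ
  have hker : ∀ (z : G) (hz : z ∈ normalizer ((T : Subgroup G) : Set G)),
      φ ⟨z, hz⟩ = 1 ↔ ∀ a ∈ (T : Subgroup G), z * a * z⁻¹ = a := by
    intro z hz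
    constructor
    · intro e a ha
      exact congrArg Subtype.val (MulEquiv.congr_fun e ⟨a, ha⟩)
    · intro e
      exact MulEquiv.ext fun a => Subtype.ext (e a a.2)
  have hne : φ ⟨n, hn⟩ ≠ 1 := fun e => by
    obtain ⟨a, ha, hna⟩ := hact
    exact hna ((hker n hn).mp e a ha)
  obtain ⟨s, hs, hsd⟩ := Nat.exists_prime_and_dvd (mt orderOf_eq_one_iff.mp hne)
  -- an element with image of order `s`, and its `s`-part
  set n₁ := n ^ (orderOf (φ ⟨n, hn⟩) / s) with hn₁
  have hn₁N : n₁ ∈ normalizer ((T : Subgroup G) : Set G) := pow_mem hn _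
  have hn₁o : orderOf (φ ⟨n₁, hn₁N⟩) = s := by
    rw [show (⟨n₁, hn₁N⟩ : normalizer ((T : Subgroup G) : Set G)) = ⟨n, hn⟩ ^ (orderOf (φ ⟨n, hn⟩) / s) from rfl,
      map_pow, orderOf_pow_orderOf_div (orderOf_pos _).ne' hsd]
  obtain ⟨k, c, hsc, hmc⟩ := Nat.exists_eq_pow_mul_and_not_dvd (orderOf_pos n₁).ne' s hs.ne_one
  have hc0 : c ≠ 0 := fun e => hsc (e ▸ dvd_zero s)
  set y₁ := n₁ ^ c with hy₁
  have hy₁N : y₁ ∈ normalizer ((T : Subgroup G) : Set G) := pow_mem hn₁N c
  have hy₁o : orderOf y₁ = s ^ k := by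
    rw [hy₁, orderOf_pow_of_dvd hc0 (hmc ▸ dvd_mul_left c _), hmc, Nat.mul_div_cancel _ (Nat.pos_of_ne_zero hc0)]
  have hy₁e : φ ⟨y₁, hy₁N⟩ = φ ⟨n₁, hn₁N⟩ ^ c := by rw [← map_pow]; rfl
  have hy₁act : φ ⟨y₁, hy₁N⟩ ≠ 1 := fun e => by
    rw [hy₁e] at e
    exact hsc (hn₁o ▸ orderOf_dvd_of_pow_eq_one e)
  have hs2 : s ≠ 2 := by
    rintro rfl
    apply hy₁act
    rw [hker]
    intro a ha
    have h2 : IsPGroup 2 ↥(zpowers y₁ ⊔ (T : Subgroup G)) :=
      (IsPGroup.of_card (n := k) (by rw [Nat.card_zpowers, hy₁o]) : IsPGroup 2 ↥(zpowers y₁)).to_sup_of_normal_right'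
        T.2 (Subgroup.zpowers_le.mpr hy₁N)
    have hy₁T : y₁ ∈ (T : Subgroup G) := le_sup_left.trans (T.3 h2 le_sup_right).le (Subgroup.mem_zpowers y₁)
    rw [h.sylow_comm T y₁ hy₁T a ha, mul_inv_cancel_right]
  -- the `s`-th power centralises the Sylow subgroup
  have hk : k ≠ 0 := fun e => by
    rw [e, pow_zero, orderOf_eq_one_iff] at hy₁o
    exact hy₁act ((hker y₁ hy₁N).mpr fun a _ => by simp [hy₁o])
  obtain ⟨a₀, ha₀⟩ : ∃ a ∈ (T : Subgroup G), a ≠ 1 := by
    obtain ⟨a, ha, hna⟩ := hact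
    exact ⟨a, ha, fun e => hna (by simp [e])⟩
  have hk1 : k = 1 := by
    by_contra hk1
    -- then a power of order `s` or more centralises an involution
    set z := y₁ ^ s with hz
    have hzo : orderOf z = s ^ (k - 1) := by
      rw [hz, orderOf_pow_of_dvd hs.ne_zero (hy₁o ▸ dvd_pow_self s hk), hy₁o,
        show s ^ k = s ^ (k - 1) * s by rw [← pow_succ]; congr 1; omega, Nat.mul_div_cancel _ hs.pos]
    have hzT : ∀ a ∈ (T : Subgroup G), z * a * z⁻¹ = a := by
      rw [← hker z (pow_mem hy₁N s)]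
      have h2 : φ ⟨y₁, hy₁N⟩ ^ s = 1 := by
        rw [hy₁e, ← pow_mul, mul_comm, pow_mul]
        rw [show φ ⟨n₁, hn₁N⟩ ^ s = 1 by rw [← hn₁o]; exact pow_orderOf_eq_one _, one_pow]
      rw [← map_pow] at h2
      exact h2
    have hcom : Commute a₀ z := (mul_inv_eq_iff_eq_mul.mp (hzT a₀ ha₀.1)).symm
    have h1 := orderOf_dvd_of_pow_eq_one (h.pow_r_of_commute_two (h.sylow_two ha₀.1 ha₀.2) hcom
      (by rw [hzo]; exact (hs.odd_of_ne_two hs2).pow))
    rw [hzo] at h1
    have hsr : s = r := (Nat.prime_dvd_prime_iff_eq hs h.prime).mp ((dvd_pow_self s (by omega)).trans h1)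
    rcases h.rdiv y₁ (by rw [hy₁o, ← hsr]; exact dvd_pow_self s hk) with e | e <;> rw [hy₁o, ← hsr] at e
    · exact hk1 ((Nat.pow_eq_self_iff hs.one_lt).mp e)
    · have : 2 ∣ s ^ k := e ▸ dvd_mul_right 2 s
      exact hs2 ((Nat.prime_dvd_prime_iff_eq Nat.prime_two hs).mp (Nat.prime_two.dvd_of_dvd_pow this)).symm
  refine ⟨y₁, pow_mem (pow_mem (mem_zpowers n) _) c, hy₁N, by rw [hy₁o, hk1, pow_one]; exact hs,
    by rwa [hy₁o, hk1, pow_one], ?_⟩
  by_contra hh
  push Not at hh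
  exact hy₁act ((hker y₁ hy₁N).mpr hh)

end Acting

end CfsgLib.TwoR
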