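import Cfsg.Agent.Lib.TwoR.Local

/-!
Normalisers of invariant `r`-subgroups are solvable and two maximal invariant `r`-subgroups meet trivially.
-/

set_option autoImplicit false
set_option linter.unusedSectionVars false
set_option linter.style.haveILetI false

namespace CfsgLib.TwoR

open Subgroup

universe u v

variable {G : Type u} [Group G] [Finite G] {r : ℕ} {T : Sylow 2 G}

/-- The image of `e ↦ [y, e]` on an abelian subgroup. -/
theorem exists_moved_part {A : Subgroup G} (hab : ∀ a ∈ A, ∀ b ∈ A, a * b = b * a) {y : G}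
    (hy : y ∈ normalizer (A : Set G)) {s : ℕ} (hys : y ^ s = 1)
    (hcop : ∀ a ∈ A, a ^ s = 1 → a = 1) (hact : ∃ a ∈ A, y * a * y⁻¹ ≠ a) :
    ∃ E : Subgroup G, E ≤ A ∧ E ≠ ⊥ ∧ y ∈ normalizer (E : Set G) ∧ ∀ e ∈ E, y * e * y⁻¹ = e → e = 1 := by
  have hin : ∀ a ∈ A, y * a * y⁻¹ ∈ A := fun a ha => (Subgroup.mem_normalizer_iff.mp hy a).mp ha
  let δ : A →* G :=
    { toFun := fun a => y * a * y⁻¹ * (a : G)⁻¹
      map_one' := by simp
      map_mul' := fun a b => by
        have h1 : (y * (b : G) * y⁻¹ * (b : G)⁻¹) * (a : G)⁻¹ = (a : G)⁻¹ * (y * (b : G) * y⁻¹ * (b : G)⁻¹) :=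
          hab _ (mul_mem (hin b b.2) (inv_mem b.2)) _ (inv_mem a.2)
        calc y * ((a * b : A) : G) * y⁻¹ * ((a * b : A) : G)⁻¹
            = (y * a * y⁻¹) * ((y * b * y⁻¹ * (b : G)⁻¹) * (a : G)⁻¹) := by
              rw [Subgroup.coe_mul]; group
          _ = y * a * y⁻¹ * (a : G)⁻¹ * (y * b * y⁻¹ * (b : G)⁻¹) := by rw [h1]; group }
  refine ⟨δ.range, ?_, ?_, ?_, ?_⟩
  · rintro _ ⟨a, rfl⟩
    exact mul_mem (hin a a.2) (inv_mem a.2)
  · intro hb
    obtain ⟨a, ha, hya⟩ := hact
    have : y * a * y⁻¹ * a⁻¹ ∈ δ.range := ⟨⟨a, ha⟩, rfl⟩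
    rw [hb, Subgroup.mem_bot, mul_inv_eq_one] at this
    exact hya this
  · refine Subgroup.mem_normalizer_fintype fun e he => ?_
    obtain ⟨a, rfl⟩ := he
    refine ⟨⟨y * a * y⁻¹, hin a a.2⟩, ?_⟩
    show y * (y * (a : G) * y⁻¹) * y⁻¹ * (y * (a : G) * y⁻¹)⁻¹ = y * (y * (a : G) * y⁻¹ * (a : G)⁻¹) * y⁻¹
    group
  · intro e he hfix
    obtain ⟨a, rfl⟩ := he
    set c := y * (a : G) * y⁻¹ * (a : G)⁻¹ with hc
    have hcA : c ∈ A := mul_mem (hin a a.2) (inv_mem a.2)
    have hfix' : y * c * y⁻¹ = c := hfix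
    have hpow : ∀ k : ℕ, y ^ k * a * (y ^ k)⁻¹ = c ^ k * a := by
      intro k
      induction k with
      | zero => simp
      | succ k ih =>
        calc y ^ (k + 1) * a * (y ^ (k + 1))⁻¹ = y * (y ^ k * a * (y ^ k)⁻¹) * y⁻¹ := by rw [pow_succ']; group
          _ = (y * c * y⁻¹) ^ k * (y * a * y⁻¹) := by rw [ih, conj_pow]; group
          _ = c ^ (k + 1) * a := by rw [hfix', pow_succ, hc]; group
    have h := hpow s
    rw [hys, one_mul, inv_one, mul_one] at h
    exact hcop c hcA (right_eq_mul.mp h)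

/-- A group with abelian Sylow two-subgroups and a normal solvable subgroup containing an involution with solvable
centraliser. -/
theorem solvable_of_normal {X : Type v} [Group X] [Finite X] (S : Sylow 2 X)
    (hab : ∀ a b : X, ∀ P : Sylow 2 X, a ∈ (P : Subgroup X) → b ∈ (P : Subgroup X) → a * b = b * a)
    (C : Subgroup X) [C.Normal] [Group.IsSolvable C] (hC : 2 ∣ Nat.card C)
    (hinv : ∀ t : X, orderOf t = 2 → Group.IsSolvable (centralizer ({t} : Set X))) : Group.IsSolvable X := by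
  haveI : Fact (Nat.Prime 2) := ⟨Nat.prime_two⟩
  obtain ⟨P⟩ : Nonempty (Sylow 2 C) := inferInstance
  set P' := (P : Subgroup C).map C.subtype with hP'
  set M := normalizer (P' : Set X) with hM
  have htop : M ⊔ C = ⊤ := Sylow.normalizer_sup_eq_top P
  obtain ⟨S', hPS'⟩ := (P.2.map C.subtype).exists_le_sylow
  set D := centralizer (P' : Set X) with hD
  have hS'D : (S' : Subgroup X) ≤ D := fun a ha =>
    Subgroup.mem_centralizer_iff.mpr fun p hp => hab p a S' (hPS' hp) ha
  obtain ⟨⟨t, htP⟩, hto⟩ := exists_prime_orderOf_dvd_card' (G := P') 2 (by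
    rw [hP', Subgroup.card_map_of_injective C.subtype_injective]
    obtain ⟨j, hj⟩ := IsPGroup.iff_card.mp P.2
    rw [hj]
    refine dvd_pow_self 2 fun e => ?_
    have := (P : Subgroup C).card_mul_index
    rw [hj, e, pow_zero, one_mul] at this
    exact P.not_dvd_index (this.symm ▸ hC))
  rw [Subgroup.orderOf_mk] at hto
  haveI := hinv t hto
  haveI : Group.IsSolvable D := Group.isSolvable_of_isSolvable_injective (f := Subgroup.inclusion
    (Subgroup.centralizer_le (Set.singleton_subset_iff.mpr htP) : D ≤ centralizer ({t} : Set X)))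
    (Subgroup.inclusion_injective _)
  have hDM : D ≤ M := Subgroup.centralizer_le_normalizer _
  haveI hDn : (D.subgroupOf M).Normal := by
    have := MonoidHom.normal_ker P'.normalizerMonoidHom
    rwa [Subgroup.normalizerMonoidHom_ker] at this
  haveI : Group.IsSolvable (D.subgroupOf M) :=
    Group.isSolvable_of_isSolvable_injective (f := (Subgroup.subgroupOfEquivOfLe hDM).toMonoidHom)
      (Subgroup.subgroupOfEquivOfLe hDM).injective
  have hodd : Odd (Nat.card (M ⧸ D.subgroupOf M)) := by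
    rw [← Subgroup.index_eq_card, ← Nat.not_even_iff_odd, even_iff_two_dvd]
    intro h2
    have h3 : D.relIndex M ∣ D.index := Dvd.intro _ (Subgroup.relIndex_mul_index hDM)
    exact S'.not_dvd_index ((h2.trans h3).trans (Subgroup.index_dvd_of_le hS'D))
  haveI : Group.IsSolvable (M ⧸ D.subgroupOf M) := Cfsg.Agent.S0205.result hodd
  haveI : Group.IsSolvable M := (Group.isSolvable_iff_subgroup_quotient (D.subgroupOf M)).mpr ⟨inferInstance, inferInstance⟩
  haveI : Group.IsSolvable (X ⧸ C) := by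
    refine Group.isSolvable_of_surjective (f := (QuotientGroup.mk' C).comp M.subtype) ?_
    intro q
    obtain ⟨x, rfl⟩ := QuotientGroup.mk'_surjective C q
    have hx : x ∈ M ⊔ C := htop ▸ mem_top x
    rw [← SetLike.mem_coe, Subgroup.mul_normal] at hx
    obtain ⟨m, hm, c, hc, rfl⟩ := hx
    refine ⟨⟨m, hm⟩, ?_⟩
    show QuotientGroup.mk' C m = QuotientGroup.mk' C (m * c)
    rw [map_mul, (QuotientGroup.eq_one_iff c).mpr hc |> (show QuotientGroup.mk' C c = 1 from ·), mul_one]
  exact (Group.isSolvable_iff_subgroup_quotient C).mpr ⟨inferInstance, inferInstance⟩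

section

variable (h : Hyp G r) (h4 : 4 ≤ Nat.card (T : Subgroup G))

include h

/-- The normaliser of a non-trivial invariant `r`-subgroup is solvable. -/
theorem local_solvable {D : Subgroup G} (hD : Inv r T D) (hD1 : D ≠ ⊥) :
    Group.IsSolvable (normalizer (D : Set G)) := by
  haveI : Fact (Nat.Prime 2) := ⟨Nat.prime_two⟩
  haveI := Fact.mk h.prime
  set H := normalizer (D : Set G) with hH
  by_cases hcen : ∀ n ∈ H, n ∈ normalizer ((T : Subgroup G) : Set G) → ∀ a ∈ (T : Subgroup G), n * a * n⁻¹ = a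
  · refine solvable_of_central (T.subtype hD.2) fun n hn => Subgroup.mem_centralizer_iff.mpr fun a ha => ?_
    apply Subtype.ext
    have hnT : (n : G) ∈ normalizer ((T : Subgroup G) : Set G) := Subgroup.mem_normalizer_fintype fun x hx =>
      (Subgroup.mem_normalizer_iff.mp hn ⟨x, hD.2 hx⟩).mp hx
    exact (mul_inv_eq_iff_eq_mul.mp (hcen n n.2 hnT a ha)).symm
  push Not at hcen
  obtain ⟨n, hnH, hnT, hact⟩ := hcen
  obtain ⟨y, hyn, hyT, hyp, hy2, hyact⟩ := exists_prime_acting h T hnT hact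
  have hyH : y ∈ H := (Subgroup.zpowers_le.mpr hnH) hyn
  obtain ⟨E, hET, hE1, hyE, hfpf⟩ := exists_moved_part (h.sylow_comm T) hyT (pow_orderOf_eq_one y)
    (fun a ha e => orderOf_eq_one_iff.mp (Nat.eq_one_of_dvd_coprimes
      (Nat.coprime_two_left.mpr (hyp.odd_of_ne_two hy2))
      (orderOf_dvd_of_pow_eq_one (by rw [pow_two]; exact h.sq_eq_one T.2 ha)) (orderOf_dvd_of_pow_eq_one e))) hyact
  have hcop : (Nat.card E).Coprime r := by
    obtain ⟨j, hj⟩ := IsPGroup.iff_card.mp (T.2.to_le hET)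
    rw [hj]
    exact h.coprime_two.pow_left j
  have hcent := centralize_rgroup _ h D E rfl hD.1 hcop (hET.trans hD.2) y hyH hyE hyp hy2 hfpf
  obtain ⟨t, htE, ht1⟩ := (Subgroup.bot_or_exists_ne_one E).resolve_left hE1
  obtain ⟨x, hxD, hx1⟩ := (Subgroup.bot_or_exists_ne_one D).resolve_left hD1
  set C := (centralizer (D : Set G)).subgroupOf H with hC
  haveI : C.Normal := by
    have := MonoidHom.normal_ker D.normalizerMonoidHom
    rwa [Subgroup.normalizerMonoidHom_ker] at this
  haveI := h.centralizer_r_solvable (h.orderOf_r hD.1 hxD hx1)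
  haveI : Group.IsSolvable C := by
    let f : C →* centralizer ({x} : Set G) :=
      { toFun := fun c => ⟨((c : H) : G),
          mem_centralizer_singleton_iff.mpr (Subgroup.mem_centralizer_iff.mp c.2 x hxD).symm⟩
        map_one' := rfl
        map_mul' := fun _ _ => rfl }
    exact Group.isSolvable_of_isSolvable_injective (f := f) fun a b e =>
      Subtype.ext (Subtype.ext (congrArg Subtype.val e :))
  have htC : (⟨t, hD.2 (hET htE)⟩ : H) ∈ C :=
    Subgroup.mem_centralizer_iff.mpr fun d hd => (hcent t htE d hd).symm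
  refine solvable_of_normal (T.subtype hD.2) (fun a b P ha hb => (h.subgroup H).comm_two P.2 ha hb) C ?_
    fun u hu => ?_
  · have ho : orderOf (⟨_, htC⟩ : C) = 2 := by
      rw [Subgroup.orderOf_mk, Subgroup.orderOf_mk]
      exact h.sylow_two (hET htE) ht1
    exact ho ▸ orderOf_dvd_natCard _
  · exact (h.subgroup H).centralizer_two_solvable hu

include h4

/-- The odd core of a local subgroup is an invariant `r`-subgroup. -/
theorem inv_OO {H : Subgroup G} (hTH : (T : Subgroup G) ≤ H) : Inv r T (OO H) :=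
  ⟨isPGroup_of_invariant h T h4 (OO_odd H) (hTH.trans (le_OO_normalizer H)), hTH.trans (le_OO_normalizer H)⟩

omit h4

/-- A normaliser grows inside a nilpotent subgroup. -/
theorem exists_normalizing_outside {D P : Subgroup G} (hP : IsPGroup r P) (hlt : D < P) :
    ∃ g ∈ P, g ∉ D ∧ g ∈ normalizer (D : Set G) := by
  haveI := Fact.mk h.prime
  haveI := hP.isNilpotent
  have hlt' : D.subgroupOf P < ⊤ := lt_top_iff_ne_top.mpr fun e =>
    hlt.not_ge (Subgroup.subgroupOf_eq_top.mp e)
  obtain ⟨g, hg, hg'⟩ := SetLike.exists_of_lt (Group.normalizerCondition_of_isNilpotent (D.subgroupOf P) hlt')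
  refine ⟨g, g.2, hg', Subgroup.mem_normalizer_fintype fun x hx => ?_⟩
  exact (Subgroup.mem_normalizer_iff.mp hg ⟨x, hlt.le hx⟩).mp hx

omit h

/-- Every invariant `r`-subgroup lies in a maximal one. -/
theorem exists_maximal_inv {X : Subgroup G} (hX : Inv r T X) : ∃ P, X ≤ P ∧ Maximal (Inv r T) P := by
  obtain ⟨P, hP, hmax⟩ := Finite.exists_le_maximal (p := Inv r T) hX
  exact ⟨P, hP, hmax⟩

include h h4

/-- Two maximal invariant `r`-subgroups with a non-trivial intersection are equal. -/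
theorem maximal_inv_eq {P₁ P₂ : Subgroup G} (h1 : Maximal (Inv r T) P₁) (h2 : Maximal (Inv r T) P₂)
    (hne : P₁ ⊓ P₂ ≠ ⊥) : P₁ = P₂ := by
  classical
  haveI : Fintype (Subgroup G) := Fintype.ofFinite _
  by_contra hP
  let 𝒟 : Set (Subgroup G) :=
    {D | D ≠ ⊥ ∧ ∃ A B, Maximal (Inv r T) A ∧ Maximal (Inv r T) B ∧ A ≠ B ∧ D = A ⊓ B}
  obtain ⟨D, hD⟩ := (Set.toFinite 𝒟).exists_maximal ⟨P₁ ⊓ P₂, hne, P₁, P₂, h1, h2, hP, rfl⟩
  obtain ⟨hD1, A, B, hA, hB, hAB, rfl⟩ := hD.1
  set D := A ⊓ B with hDdef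
  have hTD : (T : Subgroup G) ≤ normalizer (D : Set G) := fun a ha =>
    Subgroup.mem_normalizer_fintype fun x hx =>
      ⟨(Subgroup.mem_normalizer_iff.mp (hA.1.2 ha) x).mp hx.1, (Subgroup.mem_normalizer_iff.mp (hB.1.2 ha) x).mp hx.2⟩
  have hDinv : Inv r T D := ⟨hA.1.1.to_le inf_le_left, hTD⟩
  haveI := local_solvable h hDinv hD1
  obtain ⟨C, hC, hCmax⟩ := exists_maximal_inv (inv_OO h h4 hTD)
  have hstep : ∀ P : Subgroup G, Maximal (Inv r T) P → D < P → P = C := by
    intro P hPm hDP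
    by_contra hne'
    obtain ⟨g, hgP, hgD, hgN⟩ := exists_normalizing_outside h hPm.1.1 hDP
    have hsub : P ⊓ normalizer (D : Set G) ≤ C := by
      refine le_trans (le_OO_of_invariant (h.sylow_comm T) hTD inf_le_right ?_ ?_) hC
      · exact h.odd_card (hPm.1.1.to_le inf_le_left)
      · intro a ha
        exact Subgroup.mem_normalizer_fintype fun x hx => ⟨(Subgroup.mem_normalizer_iff.mp (hPm.1.2 ha) x).mp hx.1,
          (normalizer (D : Set G)).mul_mem ((normalizer (D : Set G)).mul_mem (hTD ha) hx.2)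
            ((normalizer (D : Set G)).inv_mem (hTD ha))⟩
    have hlt : D < P ⊓ C := by
      refine lt_of_le_of_ne (le_inf hDP.le (le_trans ?_ hsub)) fun e => hgD ?_
      · exact le_inf hDP.le Subgroup.le_normalizer
      · rw [e]; exact ⟨hgP, hsub ⟨hgP, hgN⟩⟩
    exact hlt.not_ge (hD.2 ⟨ne_bot_of_le_ne_bot hD1 hlt.le, P, C, hPm, hCmax, hne', rfl⟩ hlt.le)
  have hDA : D < A := lt_of_le_of_ne inf_le_left fun e => hAB (hA.eq_of_le hB.1 (e ▸ inf_le_right))
  have hDB : D < B := lt_of_le_of_ne inf_le_right fun e => hAB (hB.eq_of_le hA.1 (e ▸ inf_le_left)).symm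
  exact hAB ((hstep A hA hDA).trans (hstep B hB hDB).symm)

/-- An invariant subgroup meeting a maximal one lies in it. -/
theorem le_of_meets {P X : Subgroup G} (hP : Maximal (Inv r T) P) (hX : Inv r T X) (hne : X ⊓ P ≠ ⊥) : X ≤ P := by
  obtain ⟨Q, hXQ, hQ⟩ := exists_maximal_inv hX
  rw [maximal_inv_eq h h4 hP hQ (ne_bot_of_le_ne_bot hne (le_inf inf_le_right (inf_le_left.trans hXQ)))]
  exact hXQ

end

/-- The core of the centraliser of an element. -/
def KK (t : G) : Subgroup G := OO (centralizer ({t} : Set G))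

theorem T_le_centralizer (h : Hyp G r) {t : G} (ht : t ∈ (T : Subgroup G)) :
    (T : Subgroup G) ≤ centralizer ({t} : Set G) :=
  fun a ha => mem_centralizer_singleton_iff.mpr (h.sylow_comm T a ha t ht)

theorem inv_KK (h : Hyp G r) (h4 : 4 ≤ Nat.card (T : Subgroup G)) {t : G} (ht : t ∈ (T : Subgroup G)) :
    Inv r T (KK t) :=
  inv_OO h h4 (T_le_centralizer h ht)

theorem KK_commute {t : G} {x : G} (hx : x ∈ KK t) : Commute t x :=
  (mem_centralizer_singleton_iff.mp (OO_le _ hx)).symm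

/-- An invariant subgroup centralised by an involution lies in the core of its centraliser. -/
theorem le_KK (h : Hyp G r) {t : G} (ht : t ∈ (T : Subgroup G)) (hto : orderOf t = 2) {X : Subgroup G}
    (hX : Inv r T X) (hc : ∀ x ∈ X, Commute t x) : X ≤ KK t :=
  haveI := h.centralizer_two_solvable hto
  le_OO_of_invariant (h.sylow_comm T) (T_le_centralizer h ht)
    (fun x hx => mem_centralizer_singleton_iff.mpr (hc x hx).eq.symm) (h.odd_card hX.1) hX.2

/-- The centraliser of an involution is the product of its core and a part normalising the Sylow subgroup. -/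
theorem centralizer_decomp (h : Hyp G r) {t : G} (ht : t ∈ (T : Subgroup G)) (hto : orderOf t = 2) {g : G}
    (hg : Commute t g) :
    ∃ k ∈ KK t, ∃ n ∈ normalizer ((T : Subgroup G) : Set G), Commute t n ∧ g = k * n := by
  haveI := h.centralizer_two_solvable hto
  obtain ⟨o, ho, n, hn, hnC, e⟩ := exists_decomp (h.sylow_comm T) (T_le_centralizer h ht)
    (mem_centralizer_singleton_iff.mpr hg.eq.symm)
  exact ⟨o, ho, n, hn, (mem_centralizer_singleton_iff.mp hnC).symm, e⟩

/-- Conjugation by an element of the normaliser of the Sylow subgroup permutes the cores. -/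
theorem KK_conj (t n : G) : (KK t).map (MulAut.conj n).toMonoidHom = KK (n * t * n⁻¹) := by
  have key : ∀ (t n : G), (KK t).map (MulAut.conj n).toMonoidHom ≤ KK (n * t * n⁻¹) := by
    intro t n
    set H := centralizer ({t} : Set G)
    set H' := centralizer ({n * t * n⁻¹} : Set G)
    refine le_OO (H := H') ?_ ?_ ?_
    · rintro _ ⟨x, hx, rfl⟩
      refine mem_centralizer_singleton_iff.mpr ?_
      have hx' := mem_centralizer_singleton_iff.mp (OO_le _ hx)
      show n * x * n⁻¹ * (n * t * n⁻¹) = n * t * n⁻¹ * (n * x * n⁻¹)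
      calc n * x * n⁻¹ * (n * t * n⁻¹) = n * (x * t) * n⁻¹ := by group
        _ = _ := by rw [hx']; group
    · intro g hg
      refine Subgroup.mem_normalizer_fintype fun y hy => ?_
      obtain ⟨x, hx, rfl⟩ := hy
      have hg' : n⁻¹ * g * n ∈ H := by
        refine mem_centralizer_singleton_iff.mpr ?_
        have := mem_centralizer_singleton_iff.mp hg
        calc n⁻¹ * g * n * t = n⁻¹ * (g * (n * t * n⁻¹)) * n := by group
          _ = _ := by rw [this]; group
      refine ⟨n⁻¹ * g * n * x * (n⁻¹ * g * n)⁻¹, (Subgroup.mem_normalizer_iff.mp (le_OO_normalizer H hg') x).mp hx, ?_⟩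
      show n * (n⁻¹ * g * n * x * (n⁻¹ * g * n)⁻¹) * n⁻¹ = g * (n * x * n⁻¹) * g⁻¹
      group
    · rw [Subgroup.card_map_of_injective (MulAut.conj n).injective]
      exact OO_odd H
  refine le_antisymm (key t n) fun y hy => ?_
  have h2 := key (n * t * n⁻¹) n⁻¹ ⟨y, hy, rfl⟩
  rw [show n⁻¹ * (n * t * n⁻¹) * n⁻¹⁻¹ = t by group] at h2
  exact ⟨_, h2, by show n * (n⁻¹ * y * n⁻¹⁻¹) * n⁻¹ = y; group⟩

end CfsgLib.TwoR
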